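import Groth.Agent.CurvesB.SepLift
import Groth.Agent.Fdesc.LocGenPullback
import Groth.Agent.Fga.UnitRestrict
import Groth.Agent.Dix.PointIdeal
import Groth.Agent.Ega2.QCohLocal
import Groth.Agent.S3223

/-!
# Base points and `H^1` on a modification

* `exists_section_of_support`: if `H^1(I ⊗ L) = 0` and `l` generates `L` over an open `U` containing the support of
  `I`, there is a global section `s` of `L` with `s|_U = a l`, `a ≡ 1` modulo `I`.
* `exists_genLocus`: `f : Y ⟶ X` with `O_X = f_* O_Y`, `x` a closed point of `X` in the image of `f`. If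
  `H^1(Y, I_E ⊗ f^* N) = 0`, `E = f⁻¹(x)`, then some global section of `N` generates at `x`.
-/

set_option autoImplicit false
set_option backward.isDefEq.respectTransparency false
universe u
open CategoryTheory CategoryTheory.Limits AlgebraicGeometry Opposite TopologicalSpace

namespace K801.BasePt

open Groth.Agent Groth.Agent.Ega2 Groth.Agent.CurvesB.SepLift Groth.Agent.Dix.PointIdeal
open Groth.Agent.Fdesc.LocGen

variable {X : Scheme.{u}}

theorem exists_section_of_support (Z : X.IdealSheafData) {L : X.Modules} (hL : PicF.IsInvertible L)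
    (h1 : Subsingleton (Coh.HH X (CohB1.tensorMod (ClSub.idealMod Z) L) 1)) {U : X.Opens}
    (hU : ∀ y ∈ Z.support, y ∈ U) {l : Γ(L, U)} (hl : IsGen l) :
    ∃ (s : Γ(L, ⊤)) (a : Γ(X, U)), res L le_top s = a • l ∧ Z.subschemeι.app U (a - 1) = 0 := by
  let W : X.Opens := Z.support.compl
  let O : Bool → X.Opens := fun b => bif b then U else W
  let q : ∀ b : Bool, Γ(cokernel (mu Z L), O b) := fun b =>
    match b with
    | true => (pr Z L).app U l
    | false => 0
  have hcov : (⊤ : X.Opens) ≤ ⨆ b, O b := by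
    intro y _
    rw [Opens.mem_iSup]
    by_cases hy : y ∈ Z.support
    · exact ⟨true, hU y hy⟩
    · exact ⟨false, hy⟩
  have hzero : ∀ (V : X.Opens) (hVU : V ≤ U) (hVW : V ≤ W),
      res (cokernel (mu Z L)) hVU ((pr Z L).app U l) = 0 := by
    intro V hVU hVW
    rw [← app_res]
    exact pr_eq_zero_of_disjoint Z hL (fun y hy h => hVW hy h) _
  obtain ⟨t, ht⟩ := Fdesc.LocGen.res_glue (cokernel (mu Z L)) O (fun _ => le_top) hcov q (by
    rintro (_ | _) (_ | _)
    · rfl
    · refine (map_zero (res (cokernel (mu Z L)) _)).trans ?_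
      exact (hzero (W ⊓ U) inf_le_right inf_le_left).symm
    · refine (hzero (U ⊓ W) inf_le_left inf_le_right).trans ?_
      exact (map_zero (res (cokernel (mu Z L)) _)).symm
    · rfl)
  obtain ⟨s, hs⟩ := pr_surjective Z hL h1 t
  obtain ⟨a, ha⟩ := hl.exists_eq (res L le_top s)
  refine ⟨s, a, ha, ?_⟩
  refine exists_coeff_of_pr_eq_zero Z hL hl (res L le_top s - l) ?_ (a - 1) ?_
  · rw [map_sub, app_res, hs]
    have h3 : res _ (le_top : U ≤ ⊤) t = (pr Z L).app U l := ht true
    rw [h3, sub_self]
  · rw [ha, sub_smul, one_smul]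

section push

variable {Y : Scheme.{u}} (f : Y ⟶ X) (hO : ∀ U : X.Opens, Function.Bijective (f.app U))
include hO

theorem pullSec_bijective {N : X.Modules} (hN : PicF.IsInvertible N) (U : X.Opens) :
    Function.Bijective (fun m : Γ(N, U) => pullSec f m) := by
  have hN' : FlatMod.IsFinLocFree N :=
    Ega2.QCohLocal.isFinLocFree_of_rank (Ega2.QCohLocal.isFinLocFreeOfRank_one_iff.2 hN)
  have hu : IsIso ((Scheme.Modules.pullbackPushforwardAdjunction f).unit.app N) := by
    refine Fga.UnitRestrict.isIso_of_locally _ fun x => ?_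
    obtain ⟨U, n, hxU, ⟨e⟩⟩ := hN' x
    refine ⟨U, hxU, Fga.UnitRestrict.isIso_restrict_unit f U N ?_⟩
    rw [NatTrans.isIso_app_iff_of_iso _ e]
    exact Fga.UnitRestrict.isIso_unit_freeMod _
      (Fga.UnitRestrict.bijective_morphismRestrict_app f hO U) n
  have h : Function.Bijective
      (((Scheme.Modules.pullbackPushforwardAdjunction f).unit.app N).app U) := by
    have hi : IsIso (((Scheme.Modules.pullbackPushforwardAdjunction f).unit.app N).app U) := inferInstance
    exact ConcreteCategory.bijective_of_isIso (((Scheme.Modules.pullbackPushforwardAdjunction f).unit.app N).app U)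
  exact h

/-- If `H^1(Y, I_E ⊗ f^* N) = 0`, `E = f⁻¹(x)`, then some global section of `N` generates at `x`. -/
theorem exists_genLocus (x : X) (hx : IsClosed ({x} : Set X)) (y : Y) (hy : f y = x) {N : X.Modules}
    (hN : PicF.IsInvertible N)
    (h1 : Subsingleton (Coh.HH Y (CohB1.tensorMod (ClSub.idealMod ((pt x hx).comap f))
      ((Scheme.Modules.pullback f).obj N)) 1)) :
    ∃ σ : Coh.structureModule X ⟶ N, x ∈ CohB1.genLocus N σ := by
  obtain ⟨U, e, hxU, he⟩ := (isInvertible_iff N).1 hN x
  have hmem : ∀ z : Y, z ∈ ((pt x hx).comap f).support ↔ f z = x := fun z => by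
    rw [Scheme.IdealSheafData.support_comap]
    change f z ∈ (pt x hx).support ↔ _
    rw [mem_support_pt]
  obtain ⟨s, a, hs, ha⟩ := exists_section_of_support ((pt x hx).comap f) (isInvertible_pullback f hN) h1
    (U := f ⁻¹ᵁ U) (fun z hz => by
      change f z ∈ U
      rw [(hmem z).1 hz]
      exact hxU) (he.pullSec f)
  obtain ⟨s₀, hs₀⟩ := (pullSec_bijective f hO hN ⊤).2 s
  obtain ⟨b, hb⟩ := he.exists_eq (res N le_top s₀)
  have hab : f.app U b = a := by
    apply (he.pullSec f).ext
    rw [← hs, ← pullSec_smul, ← hb, ← res_pullSec]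
    exact congrArg _ hs₀
  refine ⟨homOf s₀, ?_⟩
  have h2 := genLocus_inf_eq (homOf s₀) he (a := b) (by rw [sec_homOf]; exact hb)
  have h3 : y ∈ Y.basicOpen a := by
    have hya : y ∈ ((pt x hx).comap f).support := (hmem y).2 hy
    obtain ⟨z, hz⟩ : y ∈ Set.range ((pt x hx).comap f).subschemeι := by
      rw [Scheme.IdealSheafData.range_subschemeι]
      exact hya
    have h5 : ((pt x hx).comap f).subschemeι.app (f ⁻¹ᵁ U) a = 1 := by
      rw [map_sub, map_one, sub_eq_zero] at ha
      exact ha
    have h6 : z ∈ ((pt x hx).comap f).subscheme.basicOpen (((pt x hx).comap f).subschemeι.app (f ⁻¹ᵁ U) a) := by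
      rw [h5, Scheme.basicOpen_of_isUnit _ isUnit_one]
      change ((pt x hx).comap f).subschemeι z ∈ f ⁻¹ᵁ U
      rw [hz]
      change f y ∈ U
      rw [hy]
      exact hxU
    rw [← Scheme.preimage_basicOpen] at h6
    rw [← hz]
    exact h6
  have h4 : x ∈ X.basicOpen b := by
    rw [← hab, ← Scheme.preimage_basicOpen] at h3
    rw [← hy]
    exact h3
  rw [← h2] at h4
  exact h4.1

end push

end K801.BasePt
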