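import Groth.Agent.AdjLin.K801.Stmt
import Groth.Agent.VarietyB.GlobGen
import Groth.Agent.Surf.K455.SmoothRR

/-!
# Global generation of adjoint modules on surfaces

* `isGloballyGenerated`: Reider's theorem as a criterion.
* `even`: `D² + D·K` is even.
-/

set_option autoImplicit false
universe u
open CategoryTheory CategoryTheory.Limits AlgebraicGeometry TopologicalSpace

namespace K801.GGen

open Groth.Agent Groth.Agent.Grpsch.PicGrp K464.Base K464.Curves

theorem isGloballyGenerated_of_closed {X : Scheme.{u}} [CompactSpace X] {N : X.Modules}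
    (h : ∀ x : X, IsClosed ({x} : Set X) → ∃ σ : Coh.structureModule X ⟶ N, x ∈ CohB1.genLocus N σ) :
    Curv2.IsGloballyGenerated N := by
  refine VarietyB.GlobGen.isGloballyGenerated_of_cover (κ := Coh.structureModule X ⟶ N) (fun s => s) fun y => ?_
  obtain ⟨x, hx, hc⟩ := (isClosed_closure (s := ({y} : Set X))).exists_closed_singleton ⟨y, subset_closure rfl⟩
  obtain ⟨σ, hσ⟩ := h x hc
  exact ⟨σ, (specializes_iff_mem_closure.mpr hx).mem_open (CohB1.genLocus N σ).2 hσ⟩

variable {k : Type u} [Field k] {X : Scheme.{u}} [X.Over (Spec (CommRingCat.of k))]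
  [IsProper (X ↘ Spec (CommRingCat.of k))] [Smooth (X ↘ Spec (CommRingCat.of k))] [IsIntegral X]
  (hdim : topologicalKrullDim X = 2)

include hdim in
/-- `D² + D·K` is even. -/
theorem even [IsAlgClosed k] {W : X.Modules} (hW : ExtPow.IsExtPow 2 (Omega.sheaf (X ↘ (Spec (CommRingCat.of k)))) W)
    (hWi : PicF.IsInvertible W) (a : Pic X) : Even (dot k X a a - dot k X a (mk W hWi)) := by
  obtain ⟨A, hA, rfl⟩ := exists_mk a
  have := K801.BlowY.smoothOfRel (k := k) hdim
  have h := K455.SmoothRR.rr k hW hdim.le hA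
  rw [intNum_eq_dot k X hdim.le hA hA, intNum_eq_dot k X hdim.le hA hWi] at h
  refine ⟨FGA.eulerCharLE k X A 2 - FGA.eulerCharLE k X (Coh.structureModule X) 2, ?_⟩
  linarith

include hdim in
theorem isGloballyGenerated [IsAlgClosed k] [CharZero k] {H : X.Modules} (hH : CohB1.IsAmple H) {L : X.Modules}
    (hL : PicF.IsInvertible L) (hnef : ∀ D : X.IdealSheafData, IsCurve D → 0 ≤ degOn k X D (mk L hL))
    (h5 : 5 ≤ dot k X (mk L hL) (mk L hL)) {W : X.Modules}
    (hW : ExtPow.IsExtPow 2 (Omega.sheaf (X ↘ (Spec (CommRingCat.of k)))) W)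
    (hno : ∀ (D : X.IdealSheafData) (hD : BlowUp.IsEffCartierIdeal D), D ≠ ⊤ →
      (dot k X (mk L hL) (ic D hD) = 0 ∧ dot k X (ic D hD) (ic D hD) = -1) ∨
        (dot k X (mk L hL) (ic D hD) = -1 ∧ dot k X (ic D hD) (ic D hD) = 0) → False) :
    Curv2.IsGloballyGenerated (CohB1.tensorMod L W) := by
  have : IsNoetherian X := Fga.IntAdd.isNoetherian k X
  refine isGloballyGenerated_of_closed fun x hx => ?_
  by_contra hcon
  push Not at hcon
  obtain ⟨D, hD, hxD, h, -, -⟩ := K801.Reider.main hdim hH hL hnef h5 hW x hx hcon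
  refine hno D hD ?_ h
  rintro rfl
  rw [Scheme.IdealSheafData.support_top] at hxD
  exact Set.notMem_empty x hxD

end K801.GGen
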