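import Groth.Agent.Lefpen.H703.ClosedSmooth
import Groth.Agent.Fga.DimCut
import Groth.Agent.Dix.EllScheme
import Groth.Agent.S1535
import Groth.Agent.S2821
import Groth.Agent.An.H866.T2Dim

/-!
# Smooth proper irreducible schemes over a perfect field
-/

set_option autoImplicit false
universe u
open CategoryTheory CategoryTheory.Limits AlgebraicGeometry
open Groth.Agent

namespace K801.SmDim

variable (k : Type u) [Field k] (X : Scheme.{u}) [X.Over (Spec (CommRingCat.of k))]

theorem isIntegral_of_smooth [Smooth (X ↘ Spec (CommRingCat.of k))] [IrreducibleSpace X] : IsIntegral X := by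
  have : IsReduced X := Dix.EllScheme.isReduced_of_smooth (X ↘ Spec (CommRingCat.of k))
  exact isIntegral_of_irreducibleSpace_of_isReduced X

theorem ufd_of_smooth [Smooth (X ↘ Spec (CommRingCat.of k))] (x : X) :
    ∃ _ : IsDomain (X.presheaf.stalk x), UniqueFactorizationMonoid (X.presheaf.stalk x) := by
  have := S1535.result k X x
  exact ⟨(S2821.result (X.presheaf.stalk x)).1, (S2821.result (X.presheaf.stalk x)).2⟩

theorem relDim_of_smooth [PerfectField k] [Smooth (X ↘ Spec (CommRingCat.of k))] [IsIntegral X] (n : ℕ)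
    (hdim : topologicalKrullDim X = n) : SmoothOfRelativeDimension n (X ↘ Spec (CommRingCat.of k)) := by
  refine Lefpen.H703.ClosedSmooth.smoothOfRelativeDimension_of_closed _ n fun z hz => ⟨S1535.result k X z, ?_⟩
  rw [Fga.DimCut.ringKrullDim_stalk_eq k X z hz, hdim]

variable {k X} in
omit [X.Over (Spec (CommRingCat.of k))] in
theorem not_isAffineOpen_top (f : X ⟶ Spec (CommRingCat.of k)) [IsProper f] {n : ℕ} (hn : 1 ≤ n)
    (hdim : topologicalKrullDim X = n) : ¬ IsAffineOpen (⊤ : X.Opens) := by
  intro h
  have h0 : IsAffine (⊤ : X.Opens) := h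
  have h1 : IsAffine X := IsAffine.of_isIso X.topIso.inv
  have h2 : IsAffineHom f := inferInstance
  have h3 : IsFinite f := IsFinite.iff_isProper_and_isAffineHom.mpr ⟨inferInstance, h2⟩
  have h4 := An.H866.T2Dim.topologicalKrullDim_le f
  have h5 : topologicalKrullDim (Spec (CommRingCat.of k)) = 0 := by
    change topologicalKrullDim (PrimeSpectrum k) = 0
    rw [PrimeSpectrum.topologicalKrullDim_eq_ringKrullDim, ringKrullDim_eq_zero_of_field]
  rw [hdim, h5] at h4
  have h6 : (n : WithBot ℕ∞) ≤ ((0 : ℕ) : WithBot ℕ∞) := by simpa using h4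
  have h7 : n ≤ 0 := by exact_mod_cast h6
  omega

end K801.SmDim
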