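import Groth.Agent.Surf.K455.CutKer
import Groth.Agent.Surf.K464.Comp
import Groth.Agent.Vanish.K909.NefIff
import Groth.Agent.Variety.K424.NakMain

/-!
# Degrees on curves: `curveDeg` and `degOn`, nefness

* `curveDeg_eq`: `Pic13.curveDeg` of a closed immersion is `degOn` of its ideal.
* `nef_iff`: `K909.Kleiman.Nef` in terms of `degOn`.
* `isAmple_nef_ample`: `P^p ⊗ A^q` is ample for `P` nef, `A` ample, `q > 0` (in `Pic`).
-/

set_option autoImplicit false
universe u
open CategoryTheory CategoryTheory.Limits AlgebraicGeometry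

namespace K801.Bridge

open Groth.Agent Groth.Agent.Grpsch.PicGrp K464.Base K464.Curves Groth.Agent.Dix.IdealModCartier

variable (k : Type u) [Field k] {X : Scheme.{u}} [X.Over (Spec (CommRingCat.of k))]
  [IsProper (X ↘ Spec (CommRingCat.of k))]

theorem curveDeg_eq (hdim : topologicalKrullDim X ≤ (2 : ℕ)) {C : Scheme.{u}} (i : C ⟶ X) [IsClosedImmersion i]
    (hC : topologicalKrullDim C = 1) {L : X.Modules} (hL : PicF.IsInvertible L) :
    Pic13.curveDeg k (i ≫ (X ↘ Spec (CommRingCat.of k))) ((Scheme.Modules.pullback i).obj L) =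
      degOn k X i.ker (mk L hL) := by
  let _ : C.Over (Spec (CommRingCat.of k)) := ⟨i ≫ (X ↘ Spec (CommRingCat.of k))⟩
  have hi : i ≫ (X ↘ Spec (CommRingCat.of k)) = C ↘ Spec (CommRingCat.of k) := rfl
  have hp : IsProper (C ↘ Spec (CommRingCat.of k)) := by
    rw [← hi]; infer_instance
  have h1 := K455.CutKer.intNum_ideal k i hi hdim i.ker rfl hL
  rw [intNum_idealMod_mk k X hdim i.ker hL] at h1
  have h2 : ∀ F : C.Modules, FGA.eulerCharLE k C F 2 = FGA.eulerCharLE k C F 1 := by
    intro F
    rw [Fga.IntAdd.eulerCharLE_eq k C 2 (by rw [hC]; exact_mod_cast one_le_two),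
      Fga.IntAdd.eulerCharLE_eq k C 1 (by rw [hC]; rfl)]
  rw [h2, h2] at h1
  change FGA.eulerCharLE k C _ 1 - FGA.eulerCharLE k C _ 1 = _
  linarith

omit [X.Over (Spec (CommRingCat.of k))] [IsProper (X ↘ Spec (CommRingCat.of k))] in
theorem isCurve_ker {C : Scheme.{u}} (i : C ⟶ X) [IsClosedImmersion i] [IsIntegral C]
    (hC : topologicalKrullDim C = 1) : IsCurve i.ker := by
  have h1 : IsIso i.toImage := inferInstance
  have h0 : Nonempty i.image := Nonempty.map i.toImage inferInstance
  have h2 : IsIntegral i.image := isIntegral_of_isOpenImmersion (inv i.toImage : i.image ⟶ C)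
  refine ⟨h2, ?_⟩
  rw [← dim_sub X i.ker, ← hC]
  exact (Scheme.homeoOfIso (asIso i.toImage)).symm.isHomeomorph.topologicalKrullDim_eq

theorem nef_iff (hdim : topologicalKrullDim X ≤ (2 : ℕ)) {L : X.Modules} (hL : PicF.IsInvertible L) :
    K909.Kleiman.Nef k X L ↔ ∀ C : X.IdealSheafData, IsCurve C → 0 ≤ degOn k X C (mk L hL) := by
  constructor
  · intro h C hC
    have := hC.integral
    have hd : topologicalKrullDim C.subscheme = 1 := (dim_sub X C).trans hC.dim
    have h1 := h C.subscheme C.subschemeι hC.integral hd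
    rw [curveDeg_eq k hdim C.subschemeι hd hL, Scheme.IdealSheafData.ker_subschemeι] at h1
    exact h1
  · intro h C i _ hint hd
    rw [curveDeg_eq k hdim i hd hL]
    exact h _ (isCurve_ker i hd)

end K801.Bridge
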