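import Groth.Agent.AdjLin.K801.Floor

/-!
# Divisors with almost isolated high multiplicity at a point

`L` nef and big on `X`, `D ∈ |L^m|` of multiplicity `≥ q > (s+2) m` at `x` and of multiplicity `< q/(s+2)` near `x`, off
`x`. Then `H^1(Y, (f^* L(-(s+2)E))^{-1}) = 0` on the blow-up `Y` of `x`.
-/

set_option autoImplicit false
universe u
open CategoryTheory CategoryTheory.Limits AlgebraicGeometry TopologicalSpace

namespace K801.AlmIso

set_option linter.unusedSectionVars false

open Groth.Agent Groth.Agent.Grpsch.PicGrp Groth.Agent.Dix.PointIdeal K464.Base K464.Curves K464.DivLat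
  Groth.Agent.Divis.CartierBasic Groth.Agent.Divis.EffCartier

theorem stalkIdeal_mono {X : Scheme.{u}} {I J : X.IdealSheafData} (h : I ≤ J) (x : X) :
    stalkIdeal I x ≤ stalkIdeal J x := by
  obtain ⟨V, hV, hxV, -⟩ := exists_isAffineOpen_mem_and_subset (U := (⊤ : X.Opens)) (x := x) trivial
  rw [stalkIdeal_eq I ⟨V, hV⟩ hxV, stalkIdeal_eq J ⟨V, hV⟩ hxV]
  exact Ideal.map_mono (h ⟨V, hV⟩)

theorem stalkIdeal_comap_le {X Y : Scheme.{u}} (f : Y ⟶ X) {D K : X.IdealSheafData} {y : Y} {q : ℕ}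
    (h : stalkIdeal D (f y) ≤ stalkIdeal K (f y) ^ q) :
    stalkIdeal (D.comap f) y ≤ stalkIdeal (K.comap f) y ^ q := by
  rw [Divis.CartierStalk.stalkIdeal_comap, Divis.CartierStalk.stalkIdeal_comap, ← Ideal.map_pow]
  exact Ideal.map_mono h

theorem le_of_map_le {R S : Type*} [CommRing R] [IsLocalRing R] [CommRing S] [IsLocalRing S] (e : R ≃+* S)
    {I : Ideal R} {j : ℕ} (h : I.map (e : R →+* S) ≤ IsLocalRing.maximalIdeal S ^ j) :
    I ≤ IsLocalRing.maximalIdeal R ^ j := by
  have h1 := IsLocalRing.map_ringEquiv_maximalIdeal e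
  have h2 : (IsLocalRing.maximalIdeal R ^ j).map (e : R →+* S) = IsLocalRing.maximalIdeal S ^ j := by
    rw [Ideal.map_pow]
    congr 1
  rw [← h2] at h
  have h3 := Ideal.comap_mono (f := (e : R →+* S)) h
  have hb : Function.Bijective (e : R →+* S) := e.bijective
  rwa [Ideal.comap_map_of_bijective (e : R →+* S) hb, Ideal.comap_map_of_bijective (e : R →+* S) hb] at h3

variable {k : Type u} [Field k] [IsAlgClosed k] {X : Scheme.{u}} [X.Over (Spec (CommRingCat.of k))]
  [IsProper (X ↘ Spec (CommRingCat.of k))] [Smooth (X ↘ Spec (CommRingCat.of k))] [IsIntegral X]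
  (hdim : topologicalKrullDim X = 2)
  {Y : Scheme.{u}} [Y.Over (Spec (CommRingCat.of k))] [IsProper (Y ↘ Spec (CommRingCat.of k))]
  [Smooth (Y ↘ Spec (CommRingCat.of k))] [IsIntegral Y] (hdY : topologicalKrullDim Y = 2)
  (x : X) (hx : IsClosed ({x} : Set X)) (f : Y ⟶ X) (hf : BlowUp.IsBlowUp f (pt x hx))
  (hover : f ≫ (X ↘ Spec (CommRingCat.of k)) = Y ↘ Spec (CommRingCat.of k))

include hdim hdY hf hover in
/-- The pull-back of a nef class is nef. -/
theorem nef_pull {l : Pic X} (hnef : ∀ C : X.IdealSheafData, IsCurve C → 0 ≤ degOn k X C l)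
    (C : Y.IdealSheafData) (hC : IsCurve C) : 0 ≤ degOn k Y C (pull f l) := by
  have hCe : BlowUp.IsEffCartierIdeal C := isEff_of_smooth k hdY hC
  obtain ⟨D, hD, m, h1, -⟩ := K801.DescDiv.curve_case k hdim (K801.BlowY.regular (k := k)) x hx f hf hover hf.1 hC hCe
  obtain ⟨hD1, hD2, -⟩ := K465.BlowNum.dots (k := k) hdim x hx f hover.symm hf
  have h2 := K464.Comp.degOn_nonneg_of_forall k hdim hnef hD
  rw [degOn_eq_neg_dot k X hD] at h2
  rw [degOn_eq_neg_dot k Y hCe, h1, dot_mul_left k Y hdY.le, dot_zpow_left k Y hdY.le, hD1,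
    dot_comm k Y (ic _ hf.1), hD2, mul_zero, add_zero]
  exact h2

include hdim hdY hf hover in
theorem h1_blow [CharZero k] {H : X.Modules} (hH : CohB1.IsAmple H) {L : X.Modules} (hL : PicF.IsInvertible L)
    (hnef : ∀ C : X.IdealSheafData, IsCurve C → 0 ≤ degOn k X C (mk L hL))
    (hbig : 0 < dot k X (mk L hL) (mk L hL)) {r m q : ℕ} (hq : r * m < q) {D : X.IdealSheafData}
    (hD : BlowUp.IsEffCartierIdeal D) (hDL : mk L hL ^ m * ic D hD = 1)
    (hqx : stalkIdeal D x ≤ IsLocalRing.maximalIdeal (X.presheaf.stalk x) ^ q) (U : X.Opens) (hxU : x ∈ U)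
    (hU : ∀ y : X, y ∈ U → y ≠ x → ∀ n : ℕ,
      stalkIdeal D y ≤ IsLocalRing.maximalIdeal (X.presheaf.stalk y) ^ n → r * n < q)
    {M M' : Y.Modules} (hM : PicF.IsInvertible M) (hM' : ClSub.IsInverseOf M' M)
    (hcl : mk M hM = pull f (mk L hL) * ic _ hf.1 ^ r) : Subsingleton (Coh.HH Y M' 1) := by
  have hNX : IsNoetherian X := Fga.IntAdd.isNoetherian k X
  have hNY : IsNoetherian Y := Fga.IntAdd.isNoetherian k Y
  obtain ⟨H', hH'⟩ := K801.BlowY.exists_ample (k := k) (Y := Y) hdim x hx f hf hH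
  obtain ⟨hD1, hD2, hD3⟩ := K465.BlowNum.dots (k := k) hdim x hx f hover.symm hf
  obtain ⟨hEc, -⟩ := K457.BlowPt.exists_iso k hdim (K801.BlowY.regular (k := k)) x hx f hf hover
  have hDf := K801.Reider.isEff_comap (k := k) hdim x hx f hf hD
  have hmem := K457.BlowMult.mem_exc_iff x hx f
  obtain ⟨n', J, hJ, hsplit, hgp⟩ := exists_split (C := fun _ : Unit => (pt x hx).comap f) (fun _ => hEc)
    (fun _ => hf.1) hDf
  have hcyc : cyc (fun _ : Unit => (pt x hx).comap f) n' = ((pt x hx).comap f) ^ n' () := by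
    unfold cyc
    simp
  rw [hcyc] at hsplit
  set n := n' () with hn
  have hgE : gp hEc ∉ J.support := hgp ()
  have hfgE : f (gp hEc) = x := (hmem _).1 (gp_mem hEc)
  -- `q ≤ n`
  have hqn : q ≤ n := by
    have h1 : ∀ z : X, z = x → stalkIdeal D z ≤ stalkIdeal (pt x hx) z ^ q := by
      rintro z rfl
      rw [stalkIdeal_pt]
      exact hqx
    have h2 := stalkIdeal_comap_le f (h1 _ hfgE)
    rw [hsplit, stalkIdeal_mul, stalkIdeal_pow, stalkIdeal_eq_top hgE, Ideal.mul_top] at h2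
    obtain ⟨g, hg, hEg⟩ := (isEffCartierIdeal_iff_stalkIdeal _).mp hf.1 (gp hEc)
    rw [hEg] at h2
    refine le_of_pow_le_pow hg (fun hu => ?_) h2
    have h3 := gp_mem hEc
    rw [mem_support_iff_stalkIdeal_ne_top, hEg] at h3
    exact h3 (Ideal.span_singleton_eq_top.2 hu)
  refine K801.Floor.main (k := k) hdY hH' (F := (Scheme.Modules.pullback f).obj L)
    (Fdesc.LocGen.isInvertible_pullback f hL) hM hM' (fun C hC => ?_) ?_ hf.1 hJ (r := r) (m := m) (q := n)
    (hq.trans_le hqn) ?_ hcl (fun C hC j hj => ?_)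
  · rw [← pull_mk f hL]
    exact nef_pull hdim hdY x hx f hf hover hnef C hC
  · rw [← pull_mk f hL, hD1]
    exact hbig
  · rw [← pull_mk f hL]
    have h1 : pull f (ic D hD) = ic _ hf.1 ^ n * ic J hJ := by
      rw [K457.Total.pull_ic f hD hDf, ic_congr hDf (isEff_mul (isEff_pow hf.1 n) hJ) hsplit,
        ic_mul (isEff_pow hf.1 n) hJ, ic_pow hf.1]
    rw [← h1, ← map_pow, ← map_mul, hDL, map_one]
  · by_cases hCE : C = (pt x hx).comap f
    · left
      rcases Nat.eq_zero_or_pos j with h0 | h0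
      · rw [h0, mul_zero]; omega
      · exfalso
        obtain ⟨j, rfl⟩ := Nat.exists_eq_succ_of_ne_zero h0.ne'
        have h1 : J ≤ C := hj.trans (by rw [pow_succ]; exact mul_le_right' _ _)
        have h2 := (le_iff_gp_mem hC J).1 h1
        subst hCE
        exact hgE h2
    · have hz : f (gp hC) ≠ x := fun h => gp_notMem hC hEc hCE ((hmem _).2 h)
      by_cases hzU : f (gp hC) ∈ U
      · left
        refine (hU _ hzU hz j ?_).trans_le hqn
        have hi := K457.BlowMult.isIso_stalkMap x hx f hf (gp hC) hz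
        have h1 : D.comap f ≤ C ^ j := by
          rw [hsplit]
          exact (mul_le_right' _ _).trans hj
        have h2 := stalkIdeal_mono h1 (gp hC)
        rw [stalkIdeal_pow, K457.BlowMult.stalkIdeal_gp hC, Divis.CartierStalk.stalkIdeal_comap] at h2
        exact le_of_map_le (asIso (f.stalkMap (gp hC))).commRingCatIsoToRingEquiv h2
      · right
        rw [Set.disjoint_left]
        intro y hyC hyE
        have h1 : f y = x := (hmem y).1 hyE
        rw [← closure_gp hC] at hyC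
        have h2 : gp hC ⤳ y := specializes_iff_mem_closure.2 hyC
        have h3 : f (gp hC) ⤳ f y := h2.map f.continuous
        rw [h1] at h3
        exact hzU (h3.mem_open U.2 hxU)

end K801.AlmIso
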