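import Groth.Agent.AdjLin.K801.CousinH1
import Mathlib.AlgebraicGeometry.Morphisms.Proper

/-!
# Sections of invertible modules as rational functions

* `sv D s`: the rational function of a global section; `exists_of_regAt`: all `u` with `u / c x` regular arise;
* `unitAt_sv_iff`: where the section generates;
* `eq_zero_of_ample`: on a proper integral scheme over a field which is not affine the inverse of an ample
  module has no non-zero sections.
-/

set_option autoImplicit false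
universe u
open CategoryTheory CategoryTheory.Limits AlgebraicGeometry TopologicalSpace Opposite
open Groth.Agent.Fdesc.LocGen Groth.Agent.Lefpen.H725.CocDef Groth.Agent.Lefpen.H521.CartierCoc
open K801.Cousin K801.CousinH1

noncomputable section

namespace K801.Amp

variable {X : Scheme.{u}} [IsIntegral X] {N : X.Modules} {c : X → X.functionField}

theorem unitAt_iff_mem_basicOpen {U : X.Opens} {x : X} (hx : x ∈ U) (a : Γ(X, U)) :
    UnitAt x (ff U (gen_mem hx) a) ↔ x ∈ X.basicOpen a := by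
  rw [Scheme.mem_basicOpen _ _ _ hx]
  constructor
  · rintro ⟨V, hxV, hη, g, hg, h⟩
    have hη' : genericPoint X ∈ V ⊓ U := ⟨hη, gen_mem hx⟩
    have h1 : ores (inf_le_left : V ⊓ U ≤ V) g = ores (inf_le_right : V ⊓ U ≤ U) a := by
      apply ff_injective _ hη'
      rw [ff_ores, ff_ores, h]
    have h2 : X.presheaf.germ U x hx a = X.presheaf.germ (V ⊓ U) x ⟨hxV, hx⟩ (ores inf_le_right a) :=
      (TopCat.Presheaf.germ_res_apply X.presheaf (homOfLE (inf_le_right : V ⊓ U ≤ U)) x ⟨hxV, hx⟩ a).symm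
    rw [h2, ← h1]
    exact (hg.map (ores _)).map _
  · intro h
    obtain ⟨V, hxV, hVU, hu⟩ : ∃ (V : X.Opens) (_ : x ∈ V) (hVU : V ≤ U), IsUnit (ores hVU a) :=
      ⟨X.basicOpen a, (Scheme.mem_basicOpen _ _ _ hx).2 h, X.basicOpen_le a,
        RingedSpace.isUnit_res_basicOpen _ _⟩
    exact ⟨V, hxV, gen_mem hxV, _, hu, ff_ores hVU _ a⟩

/-- the rational function of a global section -/
def sv (D : Dat N c) (s : Coh.structureModule X ⟶ N) : X.functionField :=
  D.value (sec s ⊤) ⟨genericPoint X, trivial⟩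

theorem regAt_sv (D : Dat N c) (s : Coh.structureModule X ⟶ N) (x : X) : RegAt x (sv D s / c x) := by
  rw [sv, D.value_const _ _ (⟨x, trivial⟩ : (⊤ : X.Opens))]
  exact D.value_mem (W := ⊤) _ ⟨x, trivial⟩

theorem ff_coef (D : Dat N c) (s : Coh.structureModule X ⟶ N) (x : X) :
    ff (⊤ ⊓ D.U x) ⟨trivial, D.hη x⟩ (D.coef (sec s ⊤) x) = sv D s / c x := by
  rw [sv, D.value_const _ _ (⟨x, trivial⟩ : (⊤ : X.Opens)), Dat.value, mul_div_cancel_right₀ _ (D.h0 x)]

theorem unitAt_sv_iff (D : Dat N c) (s : Coh.structureModule X ⟶ N) (x : X) :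
    x ∈ CohB1.genLocus N s ↔ UnitAt x (sv D s / c x) := by
  have hx : x ∈ (⊤ ⊓ D.U x : X.Opens) := ⟨trivial, D.hU x⟩
  rw [← ff_coef, unitAt_iff_mem_basicOpen hx]
  have h1 : CohB1.genLocus N s ⊓ (⊤ ⊓ D.U x) = X.basicOpen (D.coef (sec s ⊤) x) :=
    genLocus_inf_eq s ((D.gen x).res (inf_le_right : ⊤ ⊓ D.U x ≤ D.U x)) (by
      rw [← D.coef_spec, res_sec])
  rw [← h1]
  exact ⟨fun h => ⟨h, hx⟩, fun h => h.1⟩

theorem exists_sv (D : Dat N c) (u : X.functionField) (hu : ∀ x, RegAt x (u / c x)) :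
    ∃ s : Coh.structureModule X ⟶ N, sv D s = u := by
  obtain ⟨t, ht⟩ := D.exists_section (W := ⊤) u (fun x _ => hu x)
  refine ⟨homOf t, ?_⟩
  rw [sv, sec_homOf, res_refl]
  exact ht _

theorem exists_top {u : X.functionField} (hu : ∀ x, RegAt x u) :
    ∃ g : Γ(X, ⊤), ff ⊤ trivial g = u := by
  obtain ⟨g, hg⟩ := exists_of_regAt (V := ⊤) trivial (u := u) (fun x _ => hu x)
  exact ⟨g, hg⟩

/-- No sections of the inverse of an ample module. -/
theorem eq_zero_of_ample {κ : Type u} [Field κ] (f : X ⟶ Spec (CommRingCat.of κ)) [IsProper f]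
    (hX : ¬ IsAffineOpen (⊤ : X.Opens)) (hN : CohB1.IsAmple N) (hc : HasCoc N c) (u : X.functionField)
    (hu : ∀ x, RegAt x (u * c x)) : u = 0 := by
  by_contra hu0
  obtain ⟨n, s, hs, haff⟩ := hN.2.2 (genericPoint X)
  obtain ⟨D⟩ := nonempty_dat (hasCoc_pow hc (n + 1))
  have hfield := isField_of_universallyClosed κ f
  have h0 : sv D s ≠ 0 := by
    intro h
    have := unitAt_ne_zero ((unitAt_sv_iff D s _).1 hs)
    rw [h, zero_div] at this
    exact this rfl
  obtain ⟨g, hg⟩ := exists_top (u := sv D s * u ^ (n + 1)) (fun x => by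
    have h1 : sv D s * u ^ (n + 1) = sv D s / c x ^ (n + 1) * (u * c x) ^ (n + 1) := by
      have := hc.1 x
      rw [mul_pow]
      field_simp
    rw [h1]
    exact regAt_mul (regAt_sv D s x) (regAt_pow (hu x) _))
  have hg0 : g ≠ 0 := by
    rintro rfl
    rw [map_zero] at hg
    exact mul_ne_zero h0 (pow_ne_zero _ hu0) hg.symm
  obtain ⟨g', hg'⟩ := hfield.mul_inv_cancel hg0
  apply hX
  have : CohB1.genLocus _ s = ⊤ := by
    apply top_le_iff.1
    intro x _
    rw [unitAt_sv_iff D s]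
    have h1 : (sv D s / c x ^ (n + 1)) * ((u * c x) ^ (n + 1) * ff ⊤ trivial g') = 1 := by
      have h2 : (sv D s / c x ^ (n + 1)) * ((u * c x) ^ (n + 1) * ff ⊤ trivial g') =
          (sv D s * u ^ (n + 1)) * ff ⊤ trivial g' := by
        have := hc.1 x
        rw [mul_pow]
        field_simp
      rw [h2, ← hg, ← map_mul, hg', map_one]
    have h3 : RegAt x ((u * c x) ^ (n + 1) * ff ⊤ trivial g') :=
      regAt_mul (regAt_pow (hu x) _) ⟨⊤, trivial, trivial, g', rfl⟩
    have h4 := regAt_sv D s x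
    obtain ⟨U, hxU, hη, a, ha⟩ := h4
    obtain ⟨V, hxV, hη', b, hb⟩ := h3
    have hη'' : genericPoint X ∈ U ⊓ V := ⟨hη, hη'⟩
    refine ⟨U ⊓ V, ⟨hxU, hxV⟩, hη'', ores inf_le_left a, ?_, by rw [ff_ores, ha]⟩
    refine IsUnit.of_mul_eq_one (ores inf_le_right b) ?_
    apply ff_injective _ hη''
    rw [map_mul, ff_ores, ff_ores, ha, hb, h1, map_one]
  rw [← this]
  exact haff

end K801.Amp
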