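import Groth.Agent.Surf.K461.SerreDual
import Groth.Agent.Dual.H328.WUniv
import Groth.Agent.Dual.H339.OmegaRank
import Groth.Agent.Dual.H366.ExtQCoh
import Groth.Agent.Ega2.QCohLocal
import Groth.Agent.PerfA.CohSerre
import Groth.Agent.Fdesc.LocGenTensor
import Groth.Agent.Fga.PicMon
import Groth.Agent.Fga.HShift
import Groth.Agent.Dix.IdealModCartier
import Groth.Agent.DelIll.K890.Polarized
import Groth.Agent.S0051

/-!
# Vanishing of `H^1` for very negative twists

`asym`: `X` smooth and proper of relative dimension `N ≥ 2` over a field, `A` ample, `G` invertible: `H^1(F) = 0` for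
`F` inverse to `G ⊗ A^m`, `m` large.
-/

set_option autoImplicit false
universe u
open CategoryTheory CategoryTheory.Limits AlgebraicGeometry
open Groth.Agent Groth.Agent.Fga.PicMon Groth.Agent.Fdesc.LocGen

namespace K801.Asym

theorem subsingleton_of_dual (k V : Type*) [Field k] [AddCommGroup V] [Module k V]
    (h : Subsingleton (Module.Dual k V)) : Subsingleton V := (Module.subsingleton_dual_iff k).mp h

theorem asym {k : Type u} [Field k] {X : Scheme.{u}} [X.Over (Spec (CommRingCat.of k))]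
    [IsProper (X ↘ Spec (CommRingCat.of k))] {N : ℕ} (hN : 2 ≤ N)
    [SmoothOfRelativeDimension N (X ↘ Spec (CommRingCat.of k))] {G A : X.Modules} (hG : PicF.IsInvertible G)
    (hA : CohB1.IsAmple A) :
    ∃ m₀ : ℕ, ∀ m, m₀ ≤ m → ∀ F : X.Modules, ClSub.IsInverseOf F (CohB1.tensorMod G (CohB1.tensorPow A m)) →
      Subsingleton (Coh.HH X F 1) := by
  have h1 := Dual.H339.OmegaRank.isFinLocFreeOfRank_omega N (X ↘ Spec (CommRingCat.of k))
  obtain ⟨W, hW⟩ := Dual.H366.ExtQCoh.exists_isExtPow N (E := Omega.sheaf (X ↘ Spec (CommRingCat.of k)))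
    (Ega2.QCohLocal.isQCoh_of_isFinLocFree (Ega2.QCohLocal.isFinLocFree_of_rank h1))
  have hWi : PicF.IsInvertible W := Dual.H328.WUniv.isInvertible_extPow h1 hW
  have hWG := isInvertible_tensorMod hWi hG
  have hln : IsLocallyNoetherian X := LocallyOfFiniteType.isLocallyNoetherian (X ↘ Spec (CommRingCat.of k))
  have hcoh : Coh.IsCoh (CohB1.tensorMod W G) := PerfA.CohSerre.isCoh_of_isFinLocFree
    (K890.Polarized.isFinLocFree_of_isInvertible hWG)
  obtain ⟨n₀, hn₀⟩ := (S0051.result k X (X ↘ Spec (CommRingCat.of k)) A hA.1).mp hA _ hcoh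
  refine ⟨n₀, fun m hm F hF => ?_⟩
  have hGA := isInvertible_tensorMod hG (isInvertible_tensorPow hA.1 m)
  have hFi : PicF.IsInvertible F := (Dix.IdealModCartier.isInvertible_of_isInverseOf hF).1
  have hFq : Coh.IsQCoh F := Ega2.QCohLocal.isQCoh_of_isInvertible hFi
  obtain ⟨e⟩ := K461.SerreDual.nonempty_dual_equiv k N hW hF hFq (N - 1) 1 (by omega)
  have hv := hn₀ m hm (N - 1) (by omega)
  have e2 : Nonempty (CohB1.tensorMod (CohB1.tensorMod W G) (CohB1.tensorPow A m) ≅
      CohB1.tensorMod W (CohB1.tensorMod G (CohB1.tensorPow A m))) := by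
    rw [← mc_eq_iff]
    simp only [mc_tensor, mul_assoc]
  obtain ⟨e2⟩ := e2
  have hv' : Subsingleton (Coh.HH X (CohB1.tensorMod W (CohB1.tensorMod G (CohB1.tensorPow A m))) (N - 1)) :=
    Fga.HShift.subsingleton_of_iso e2 _ hv
  have hd : Subsingleton (Module.Dual k (Coh.HH X F 1)) := e.toEquiv.subsingleton
  exact subsingleton_of_dual k _ hd

end K801.Asym
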