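import Groth.Agent.Surf.K457.BlowMult
import Groth.Agent.Surf.K457.BlowPt
import Groth.Agent.Surf.K457.Total
import Groth.Agent.Surf.K464.Comp

/-!
# Effective divisors on a point blow-up

`f : X' ⟶ X` the blow-up of a closed point `P` of a regular surface, `e = [I_E]`. Every effective divisor `U` on `X'`
is `f^* D + m E` in `Pic X'` for an effective divisor `D` on `X` and an integer `m`, with `P ∈ D` if `m < 0`.
-/

set_option autoImplicit false
universe u
open CategoryTheory CategoryTheory.Limits AlgebraicGeometry TopologicalSpace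

namespace K801.DescDiv

open Groth.Agent Groth.Agent.Grpsch.PicGrp Groth.Agent.Divis.CartierBasic Groth.Agent.Dix.PointIdeal
  K464.Base K464.Curves K464.DivLat Groth.Agent.Divis.EffCartier

set_option linter.unusedSectionVars false

variable (k : Type u) [Field k] [IsAlgClosed k] {X X' : Scheme.{u}} [X.Over (Spec (CommRingCat.of k))]
  [X'.Over (Spec (CommRingCat.of k))] [IsIntegral X] [IsProper (X ↘ Spec (CommRingCat.of k))]
  (hdim : topologicalKrullDim X = 2) (hreg : ∀ x : X, IsRegularLocalRing (X.presheaf.stalk x))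
  (P : X) (hP : IsClosed ({P} : Set X)) (f : X' ⟶ X) (hf : BlowUp.IsBlowUp f (pt P hP))
  (hover : f ≫ (X ↘ Spec (CommRingCat.of k)) = X' ↘ Spec (CommRingCat.of k))

include k hdim hreg hf hover in
/-- The image of a curve of `X'` which is not exceptional. -/
theorem exists_image {C' : X'.IdealSheafData} (hC' : IsCurve C') (h : f (gp hC') ≠ P) :
    ∃ (C : X.IdealSheafData) (hC : IsCurve C), f (gp hC') = gp hC := by
  obtain ⟨hI', hP', hd', hr'⟩ := K457.BlowPt.surf k hdim hreg P hP f hf hover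
  have hN : IsNoetherian X := Fga.IntAdd.isNoetherian k X
  have hi := K457.BlowMult.isIso_stalkMap P hP f hf (gp hC') h
  have h1 : ringKrullDim (X'.presheaf.stalk (gp hC')) = 1 :=
    ringKrullDim_gp k (X' ↘ Spec (CommRingCat.of k)) hd' hC'
  have h2 : ringKrullDim (X.presheaf.stalk (f (gp hC'))) = 1 := by
    rw [← h1]
    exact ringKrullDim_eq_of_ringEquiv (asIso (f.stalkMap (gp hC'))).commRingCatIsoToRingEquiv
  obtain ⟨C, hC, h3⟩ := K464.Comp.exists_curve (X ↘ Spec (CommRingCat.of k)) hdim (f (gp hC')) h2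
  exact ⟨C, hC, h3.symm⟩

include k hdim hreg hf hover in
theorem curve_case (hE : BlowUp.IsEffCartierIdeal ((pt P hP).comap f)) {C' : X'.IdealSheafData} (hC' : IsCurve C')
    (hCe : BlowUp.IsEffCartierIdeal C') :
    ∃ (D : X.IdealSheafData) (hD : BlowUp.IsEffCartierIdeal D) (m : ℤ),
      ic C' hCe = pull f (ic D hD) * ic _ hE ^ m ∧ (m < 0 → P ∈ D.support) := by
  obtain ⟨hI', hP', hd', hr'⟩ := K457.BlowPt.surf k hdim hreg P hP f hf hover
  obtain ⟨hEc, -⟩ := K457.BlowPt.exists_iso k hdim hreg P hP f hf hover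
  by_cases h : f (gp hC') = P
  · have h1 : C' = (pt P hP).comap f :=
      eq_of_gp_mem hC' hEc ((K457.BlowMult.mem_exc_iff P hP f _).2 h)
    refine ⟨⊤, isEff_top, 1, ?_, fun h => absurd h (by norm_num)⟩
    rw [ic_top, map_one, one_mul, zpow_one]
    exact ic_congr _ _ h1
  · obtain ⟨C, hC, h1⟩ := exists_image k hdim hreg P hP f hf hover hC' h
    have hCE : BlowUp.IsEffCartierIdeal C := isEff_of_isCurve k (X ↘ Spec (CommRingCat.of k)) hdim hreg hC
    obtain ⟨h2, n, h3⟩ := K457.BlowMult.comap_eq k hdim hreg P hP f hf hover hC hC' hE hCE hCe h1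
    refine ⟨C, hCE, -(n : ℤ), ?_, fun hn => ?_⟩
    · have h4 : pull f (ic C hCE) = ic _ hE ^ n * ic C' hCe := by
        rw [K457.Total.pull_ic f hCE h2, ic_congr h2 (isEff_mul (isEff_pow hE n) hCe) h3, ic_mul (isEff_pow hE n) hCe, ic_pow hE]
      rw [h4, zpow_neg, zpow_natCast]
      exact (mul_inv_cancel_comm _ _).symm
    · have hn' : n ≠ 0 := by rintro rfl; simp at hn
      have h5 : C.comap f ≤ (pt P hP).comap f := by
        rw [h3]
        obtain ⟨n, rfl⟩ := Nat.exists_eq_succ_of_ne_zero hn'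
        rw [pow_succ, mul_assoc, mul_left_comm]
        exact mul_le_left _ _
      have h6 := (le_iff_gp_mem hEc (C.comap f)).1 h5
      rw [Scheme.IdealSheafData.support_comap] at h6
      have h7 : f (gp hEc) = P := (K457.BlowMult.mem_exc_iff P hP f _).1 (gp_mem hEc)
      have h8 : f (gp hEc) ∈ C.support := h6
      rwa [h7] at h8

include k hdim hreg hf hover in
/-- **Descent of effective divisors.** -/
theorem main (hE : BlowUp.IsEffCartierIdeal ((pt P hP).comap f)) {U : X'.IdealSheafData}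
    (hU : BlowUp.IsEffCartierIdeal U) :
    ∃ (D : X.IdealSheafData) (hD : BlowUp.IsEffCartierIdeal D) (m : ℤ),
      ic U hU = pull f (ic D hD) * ic _ hE ^ m ∧ (m < 0 → P ∈ D.support) := by
  obtain ⟨hI', hP', hd', hr'⟩ := K457.BlowPt.surf k hdim hreg P hP f hf hover
  have hN' : IsNoetherian X' := Fga.IntAdd.isNoetherian k X'
  suffices h : ∀ h : BlowUp.IsEffCartierIdeal U, ∃ (D : X.IdealSheafData) (hD : BlowUp.IsEffCartierIdeal D) (m : ℤ),
      ic U h = pull f (ic D hD) * ic _ hE ^ m ∧ (m < 0 → P ∈ D.support) from h hU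
  refine K464.Comp.eff_induction k (X' ↘ Spec (CommRingCat.of k)) hd' hr'
    (P := fun U => ∀ h : BlowUp.IsEffCartierIdeal U,
      ∃ (D : X.IdealSheafData) (hD : BlowUp.IsEffCartierIdeal D) (m : ℤ),
      ic U h = pull f (ic D hD) * ic _ hE ^ m ∧ (m < 0 → P ∈ D.support)) ?_ ?_ U hU
  · intro h
    exact ⟨⊤, isEff_top, 0, by rw [ic_congr h isEff_top rfl, ic_top, ic_top, map_one, one_mul, zpow_zero],
      fun h => absurd h (lt_irrefl _)⟩
  · intro C F hC hCe hF ih h
    obtain ⟨D₁, hD₁, m₁, h1, h1'⟩ := curve_case k hdim hreg P hP f hf hover hE hC hCe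
    obtain ⟨D₂, hD₂, m₂, h2, h2'⟩ := ih hF
    refine ⟨D₁ * D₂, isEff_mul hD₁ hD₂, m₁ + m₂, ?_, fun hm => ?_⟩
    · rw [ic_congr h (isEff_mul hCe hF) rfl, ic_mul hCe hF, ic_mul hD₁ hD₂, map_mul, h1, h2, zpow_add]
      exact mul_mul_mul_comm _ _ _ _
    · rcases lt_or_ge m₁ 0 with h3 | h3
      · exact Scheme.IdealSheafData.support_antitone (mul_le_left D₁ D₂) (h1' h3)
      · exact Scheme.IdealSheafData.support_antitone (mul_le_right' D₁ D₂) (h2' (by omega))

end K801.DescDiv
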