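import Groth.Agent.AdjLin.K801.BasePt
import Groth.Agent.AdjLin.K801.DescDiv
import Groth.Agent.Surf.K461.SerreDual
import Groth.Agent.Surf.K455.BlowCanon
import Groth.Agent.Surf.K455.Canon
import Groth.Agent.Surf.K455.RelDim
import Groth.Agent.Surf.K455.ResOne
import Groth.Agent.Surf.K455.Proj
import Groth.Agent.Surf.K464.Base
import Groth.Agent.Flat2C.BlowExist
import Groth.Agent.Sga67.BlowAmple

/-!
# The blow-up `Y` of a base point of `L ⊗ ω`

* `exists_blow`: existence of the blow-up with its structure of a smooth projective surface.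
* `not_subsingleton`: if `x` is a base point of `L ⊗ ω` then `H^1(Y, M^{-1}) ≠ 0` for `M = f^* L (-2E)`.
-/

set_option autoImplicit false
universe u
open CategoryTheory CategoryTheory.Limits AlgebraicGeometry TopologicalSpace

namespace K801.BlowY

set_option linter.unusedSectionVars false

open Groth.Agent Groth.Agent.Grpsch.PicGrp Groth.Agent.Dix.PointIdeal K464.Base K464.Curves

variable {k : Type u} [Field k] [IsAlgClosed k] {X : Scheme.{u}} [X.Over (Spec (CommRingCat.of k))]
  [IsProper (X ↘ Spec (CommRingCat.of k))] [Smooth (X ↘ Spec (CommRingCat.of k))] [IsIntegral X]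
  (hdim : topologicalKrullDim X = 2)

/-- A smooth irreducible scheme of dimension `n` is smooth of relative dimension `n`. -/
theorem smoothOfRel {Y : Scheme.{u}} [Y.Over (Spec (CommRingCat.of k))] [IsProper (Y ↘ Spec (CommRingCat.of k))]
    [Smooth (Y ↘ Spec (CommRingCat.of k))] [IsIntegral Y] (hdY : topologicalKrullDim Y = 2) :
    SmoothOfRelativeDimension 2 (Y ↘ Spec (CommRingCat.of k)) := by
  have : IsNoetherian Y := Fga.IntAdd.isNoetherian k Y
  exact K455.RelDim.smoothOfRelativeDimension k (Y ↘ Spec (CommRingCat.of k)) 2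
    (K455.Proj.dim_components hdY)

theorem regular {Y : Scheme.{u}} [Y.Over (Spec (CommRingCat.of k))] [IsProper (Y ↘ Spec (CommRingCat.of k))]
    [Smooth (Y ↘ Spec (CommRingCat.of k))] (y : Y) : IsRegularLocalRing (Y.presheaf.stalk y) := S1535.result k Y y

include hdim in
theorem exists_blow (x : X) (hx : IsClosed ({x} : Set X)) :
    ∃ (Y : Scheme.{u}) (_ : Y.Over (Spec (CommRingCat.of k))) (f : Y ⟶ X),
      BlowUp.IsBlowUp f (pt x hx) ∧ f ≫ (X ↘ Spec (CommRingCat.of k)) = Y ↘ Spec (CommRingCat.of k) ∧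
      IsIntegral Y ∧ IsProper (Y ↘ Spec (CommRingCat.of k)) ∧ Smooth (Y ↘ Spec (CommRingCat.of k)) ∧
      topologicalKrullDim Y = 2 := by
  obtain ⟨Y, f, hf⟩ := Flat2C.BlowExist.exists_isBlowUp (pt x hx)
  let _ : Y.Over (Spec (CommRingCat.of k)) := ⟨f ≫ (X ↘ Spec (CommRingCat.of k))⟩
  obtain ⟨h1, h2, h3, h4⟩ := K457.BlowPt.surf k hdim (regular (k := k)) x hx f hf rfl
  exact ⟨Y, inferInstance, f, hf, rfl, h1, h2, K455.RelDim.smooth_of_regular k _ h4, h3⟩

variable {Y : Scheme.{u}} [Y.Over (Spec (CommRingCat.of k))] [IsProper (Y ↘ Spec (CommRingCat.of k))]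
  [Smooth (Y ↘ Spec (CommRingCat.of k))] [IsIntegral Y] (hdY : topologicalKrullDim Y = 2)
  (x : X) (hx : IsClosed ({x} : Set X)) (f : Y ⟶ X) (hf : BlowUp.IsBlowUp f (pt x hx))
  (hover : f ≫ (X ↘ Spec (CommRingCat.of k)) = Y ↘ Spec (CommRingCat.of k))

include k hdim hf in
omit [IsIntegral Y] in
theorem exists_ample {H : X.Modules} (hH : CohB1.IsAmple H) : ∃ H' : Y.Modules, CohB1.IsAmple H' := by
  have hN : IsNoetherian X := Fga.IntAdd.isNoetherian k X
  have hfp : IsProper f := K455.BlowDim.isProper_blowUp f x hx hf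
  exact Sga67.BlowAmple.exists_isAmple hf H hH

include k hdim hf in
theorem bijective_app (U : X.Opens) : Function.Bijective (f.app U) := by
  have hN : IsNoetherian X := Fga.IntAdd.isNoetherian k X
  have hfp : IsProper f := K455.BlowDim.isProper_blowUp f x hx hf
  have hiso := K455.BlowDim.isIso_restrict f x hx hf
  have hne : (K455.BlowDim.compl x hx : Set X).Nonempty :=
    ⟨genericPoint X, Dix.HasBlow.genericPoint_ne x (K457.BlowPt.ringKrullDim_stalk k hdim x hx)⟩
  have hnorm : Pi1.IsNormalScheme X := fun z => by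
    have := regular (k := k) z
    exact ⟨inferInstance, CurvesC.RegNormal.isIntegrallyClosed (X.presheaf.stalk z)⟩
  have := K457.BirNormal.isIso_app hnorm f (K455.BlowDim.compl x hx) hne U
  exact ConcreteCategory.bijective_of_isIso (f.app U)

include hdY hf hover hdim in
/-- The canonical class of the blow-up. -/
theorem canon {W : X.Modules} (hW : ExtPow.IsExtPow 2 (Omega.sheaf (X ↘ (Spec (CommRingCat.of k)))) W)
    (hWi : PicF.IsInvertible W) {W' : Y.Modules}
    (hW' : ExtPow.IsExtPow 2 (Omega.sheaf (Y ↘ (Spec (CommRingCat.of k)))) W') (hWi' : PicF.IsInvertible W') :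
    mk W' hWi' * ic _ hf.1 = pull f (mk W hWi) := by
  have hN : IsNoetherian X := Fga.IntAdd.isNoetherian k X
  have h1 := smoothOfRel (k := k) hdim
  have h2 := smoothOfRel (k := k) hdY
  have h3 := regular (k := k) x
  have h4 := K455.BlowCanon.mc_eq k f hover x hx (K457.BlowPt.ringKrullDim_stalk k hdim x hx) hf hdY.le hW' hW (by
    rw [K455.ResOne.finrank_residueField k X hx]
    exact one_pos)
  rw [← Fga.PicMon.mc_tensor, Fga.PicMon.mc_eq_iff] at h4
  exact (mk_eq_iff (Fdesc.LocGen.isInvertible_tensorMod hWi' (Dix.IdealModCartier.isInvertible_idealMod hf.1))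
    (Fdesc.LocGen.isInvertible_pullback f hWi)).2 h4

include hdY hf hover hdim in
/-- If `x` is a base point of `L ⊗ ω` then `H^1(Y, M^{-1}) ≠ 0` for `M = f^* L (-2E)`. -/
theorem not_subsingleton {L W : X.Modules} (hL : PicF.IsInvertible L)
    (hW : ExtPow.IsExtPow 2 (Omega.sheaf (X ↘ (Spec (CommRingCat.of k)))) W)
    (hbase : ∀ σ : Coh.structureModule X ⟶ CohB1.tensorMod L W, x ∉ CohB1.genLocus (CohB1.tensorMod L W) σ)
    {M M' : Y.Modules} (hM : PicF.IsInvertible M) (hM' : ClSub.IsInverseOf M' M)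
    (hcl : mk M hM = pull f (mk L hL) * ic _ hf.1 ^ 2) : ¬ Subsingleton (Coh.HH Y M' 1) := by
  intro h1
  have h2 := smoothOfRel (k := k) hdim
  have h3 := smoothOfRel (k := k) hdY
  have hWi : PicF.IsInvertible W := K455.Canon.isInvertible (X ↘ Spec (CommRingCat.of k)) 2 hW
  obtain ⟨W', hW', hWi'⟩ := K455.Canon.exists_canonical (Y ↘ Spec (CommRingCat.of k)) 2
  have hMi' : PicF.IsInvertible M' := (Dix.IdealModCartier.isInvertible_of_isInverseOf hM').1
  obtain ⟨e⟩ := K461.SerreDual.nonempty_dual_equiv k 2 hW' hM' (Ega2.QCohLocal.isQCoh_of_isInvertible hMi') 1 1 rfl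
  have h4 : Subsingleton (Coh.HH Y (CohB1.tensorMod W' M) 1) := e.toEquiv.symm.subsingleton
  have hN : PicF.IsInvertible (CohB1.tensorMod L W) := Fdesc.LocGen.isInvertible_tensorMod hL hWi
  have h5 : Nonempty (CohB1.tensorMod W' M ≅ CohB1.tensorMod (ClSub.idealMod ((pt x hx).comap f))
      ((Scheme.Modules.pullback f).obj (CohB1.tensorMod L W))) := by
    rw [← mk_eq_iff (Fdesc.LocGen.isInvertible_tensorMod hWi' hM) (Fdesc.LocGen.isInvertible_tensorMod
      (Dix.IdealModCartier.isInvertible_idealMod hf.1) (Fdesc.LocGen.isInvertible_pullback f hN)),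
      ← mk_mul_mk hWi' hM, hcl, ← mk_mul_mk (Dix.IdealModCartier.isInvertible_idealMod hf.1)
      (Fdesc.LocGen.isInvertible_pullback f hN), ← pull_mk f hN, ← mk_mul_mk hL hWi, map_mul,
      ← canon hdim hdY x hx f hf hover hW hWi hW' hWi', sq]
    change _ = ic _ hf.1 * _
    ac_rfl
  obtain ⟨e5⟩ := h5
  have h6 := Fga.HShift.subsingleton_of_iso e5 1 h4
  obtain ⟨hEc, -⟩ := K457.BlowPt.exists_iso k hdim (regular (k := k)) x hx f hf hover
  obtain ⟨σ, hσ⟩ := K801.BasePt.exists_genLocus f (bijective_app (k := k) hdim x hx f hf) x hx (gp hEc)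
    ((K457.BlowMult.mem_exc_iff x hx f _).1 (gp_mem hEc)) hN h6
  exact hbase σ hσ

end K801.BlowY
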