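import Groth.Agent.AdjLin.K801.CousinH1
import Groth.Agent.CurvesB.OmegaGeneric
import Groth.Agent.CalgC.PthPower
import Mathlib.FieldTheory.Perfect
import Mathlib.Algebra.Algebra.ZMod

/-!
# Derivations of the function field from maps `Ω → M`, `M` invertible

* `exists_der`: for `θ : Ω ⟶ M` and a Cartier cocycle `c` of `M`, the derivation `δ` of the function field
  induced by `θ`; it maps `O_x` to `c x O_x` (`regAt_der`);
* `exists_pow_of_der`: in characteristic `p`, over a perfect field, for a jointly injective family `θ i` the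
  common kernel of the `δ i` consists of `p`-th powers.
-/

set_option autoImplicit false
universe u
open CategoryTheory CategoryTheory.Limits AlgebraicGeometry TopologicalSpace Opposite
open Groth.Agent.Fdesc.LocGen Groth.Agent.Lefpen.H725.CocDef Groth.Agent.Lefpen.H521.CartierCoc
open Groth.Agent.CohtopA Groth.Agent.CohtopA.Sec Groth.Agent.MiscA.CurveH1B Groth.Agent.MiscA.CurveH1C
open K801.Cousin K801.CousinH1 Groth.Agent.CurvesB.OmegaDer Groth.Agent.CurvesB.OmegaStalkDict

noncomputable section

namespace K801.DerK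

open scoped KaehlerDifferential in
/-- Over a perfect field, `da = 0` implies that `a` is a `p`-th power. -/
theorem exists_pow_of_D_eq_zero {κ K : Type u} [Field κ] [Field K] [Algebra κ K] {p : ℕ} [Fact p.Prime]
    [CharP κ p] [PerfectRing κ p] (a : K) (h : KaehlerDifferential.D κ K a = 0) : ∃ b : K, b ^ p = a := by
  by_contra hcon
  push Not at hcon
  have : CharP K p := charP_of_injective_algebraMap (algebraMap κ K).injective p
  let _ : Algebra (ZMod p) K := ZMod.algebra K p
  refine Groth.Agent.CalgC.PthPower.D_ne_zero_of_forall_pow_ne a hcon ?_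
  have : SMulCommClass (ZMod p) κ K := ⟨fun x y z => by
    rw [Algebra.smul_def, Algebra.smul_def, Algebra.smul_def, Algebra.smul_def, mul_left_comm]⟩
  have : IsScalarTower κ K (Ω[K⁄(ZMod p)]) := inferInstance
  have h0 : ∀ c : κ, KaehlerDifferential.D (ZMod p) K (algebraMap κ K c) = 0 := by
    intro c
    obtain ⟨b, rfl⟩ := surjective_frobenius κ p c
    rw [frobenius_def, map_pow, Derivation.leibniz_pow]
    rw [← Nat.cast_smul_eq_nsmul (R := K), CharP.cast_eq_zero, zero_smul]
  let E : Derivation κ K (Ω[K⁄(ZMod p)]) :=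
    { toFun := KaehlerDifferential.D (ZMod p) K
      map_add' := map_add _
      map_smul' := fun c x => by
        rw [Algebra.smul_def, Derivation.leibniz, h0, smul_zero, add_zero, algebraMap_smul]
        rfl
      map_one_eq_zero' := Derivation.map_one_eq_zero _
      leibniz' := fun x y => Derivation.leibniz _ x y }
  have h1 : E a = E.liftKaehlerDifferential (KaehlerDifferential.D κ K a) := (E.liftKaehlerDifferential_comp_D a).symm
  rw [h, map_zero] at h1
  exact h1

variable {X : Scheme.{u}} [IsIntegral X]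

section Val

variable {M : X.Modules} {c : X → X.functionField} (D : Dat M c)

theorem coef_smul {W : X.Opens} (a : Γ(X, W)) (s : Γ(M, W)) (x : X) :
    D.coef (a • s) x = ores inf_le_left a * D.coef s x :=
  D.coef_unique _ x (by rw [res_smul, D.coef_spec, smul_smul])

theorem value_smul {W : X.Opens} (a : Γ(X, W)) (s : Γ(M, W)) (x : W) :
    D.value (a • s) x = ff W (gen_mem x.2) a * D.value s x := by
  rw [Dat.value, coef_smul, map_mul, ff_ores, mul_assoc]
  rfl

theorem value_add {W : X.Opens} (s t : Γ(M, W)) (x : W) : D.value (s + t) x = D.value s x + D.value t x := by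
  rw [Dat.value, D.coef_add, map_add, add_mul]
  rfl

theorem value_zero {W : X.Opens} (x : W) : D.value (0 : Γ(M, W)) x = 0 := by
  rw [Dat.value, D.coef_zero, map_zero, zero_mul]

theorem value_injective {W : X.Opens} (s : Γ(M, W)) (x : W) (h : D.value s x = 0) : s = 0 := by
  refine D.toK_injective W (a₁ := s) (a₂ := (0 : Γ(M, W))) ?_
  apply (KS X).sec_ext
  intro y
  rw [D.val_toK, D.val_toK]
  change D.value s y = D.value (0 : Γ(M, W)) y
  rw [value_zero, D.value_const s y x, h]

end Val

variable {κ : Type u} [Field κ] (f : X ⟶ Spec (CommRingCat.of κ)) [QuasiCompact (pullback.diagonal f)]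
  {M : X.Modules} {c : X → X.functionField} (D : Dat M c) (θ : Omega.sheaf f ⟶ M)

/-- `a ↦ θ(da)` on sections, with values in the function field. -/
def dv (W : X.Opens) (x : W) (a : Γ(X, W)) : X.functionField := D.value (θ.app W (d f W a)) x

theorem dv_ores {W V : X.Opens} (h : V ≤ W) (x : V) (a : Γ(X, W)) :
    dv f D θ V x (ores h a) = dv f D θ W ⟨x.1, h x.2⟩ a := by
  unfold dv
  have h1 : d f V (ores h a) = res (Omega.sheaf f) h (d f W a) := (d_res f h a).symm
  rw [h1, app_res, D.value_res]

theorem dv_const {W : X.Opens} (x y : W) (a : Γ(X, W)) : dv f D θ W x a = dv f D θ W y a :=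
  D.value_const _ x y

theorem dv_wd {W W' : X.Opens} (x : W) (x' : W') (a : Γ(X, W)) (a' : Γ(X, W'))
    (h : ff W (gen_mem x.2) a = ff W' (gen_mem x'.2) a') : dv f D θ W x a = dv f D θ W' x' a' := by
  have hη : genericPoint X ∈ W ⊓ W' := ⟨gen_mem x.2, gen_mem x'.2⟩
  have h1 : ores (inf_le_left : W ⊓ W' ≤ W) a = ores (inf_le_right : W ⊓ W' ≤ W') a' := by
    apply ff_injective _ hη
    rw [ff_ores, ff_ores, h]
  have h2 := congrArg (dv f D θ (W ⊓ W') ⟨genericPoint X, hη⟩) h1
  rw [dv_ores, dv_ores] at h2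
  rw [dv_const f D θ x ⟨genericPoint X, hη.1⟩, dv_const f D θ x' ⟨genericPoint X, hη.2⟩, h2]

theorem dv_add {W : X.Opens} (x : W) (a b : Γ(X, W)) :
    dv f D θ W x (a + b) = dv f D θ W x a + dv f D θ W x b := by
  unfold dv
  rw [map_add, map_add, value_add]

theorem dv_mul {W : X.Opens} (x : W) (a b : Γ(X, W)) :
    dv f D θ W x (a * b) = ff W (gen_mem x.2) a * dv f D θ W x b + ff W (gen_mem x.2) b * dv f D θ W x a := by
  unfold dv
  rw [d_mul, map_add, value_add, Scheme.Modules.Hom.app_smul, Scheme.Modules.Hom.app_smul, value_smul,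
    value_smul]

theorem exists_sec (u : X.functionField) : ∃ (W : X.Opens) (x : W) (a : Γ(X, W)), ff W (gen_mem x.2) a = u := by
  obtain ⟨W, h, a, ha⟩ := TopCat.Presheaf.exists_germ_eq X.presheaf (x := genericPoint X) u
  exact ⟨W, ⟨_, h⟩, a, ha⟩

theorem exists_sec₂ (u v : X.functionField) : ∃ (W : X.Opens) (x : W) (a b : Γ(X, W)),
    ff W (gen_mem x.2) a = u ∧ ff W (gen_mem x.2) b = v := by
  obtain ⟨W, x, a, ha⟩ := exists_sec u
  obtain ⟨W', x', b, hb⟩ := exists_sec v
  refine ⟨W ⊓ W', ⟨genericPoint X, gen_mem x.2, gen_mem x'.2⟩, ores inf_le_left a, ores inf_le_right b, ?_, ?_⟩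
  · rw [ff_ores, ha]
  · rw [ff_ores, hb]

/-- The derivation of the function field induced by `θ : Ω ⟶ M`. -/
theorem exists_der : ∃ δ : Derivation ℤ X.functionField X.functionField,
    ∀ (W : X.Opens) (x : W) (a : Γ(X, W)), δ (ff W (gen_mem x.2) a) = dv f D θ W x a := by
  have hex := exists_sec (X := X)
  choose W x a ha using hex
  have key : ∀ (V : X.Opens) (y : V) (b : Γ(X, V)),
      dv f D θ _ (x (ff V (gen_mem y.2) b)) (a (ff V (gen_mem y.2) b)) = dv f D θ V y b :=
    fun V y b => dv_wd f D θ _ _ _ _ (ha _)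
  let F : X.functionField →+ X.functionField :=
    { toFun := fun u => dv f D θ (W u) (x u) (a u)
      map_zero' := by
        have h := key ⊤ ⟨genericPoint X, trivial⟩ 0
        rw [map_zero] at h
        rw [h]
        unfold dv
        rw [map_zero, map_zero, value_zero]
      map_add' := by
        intro u v
        obtain ⟨V, y, b, b', rfl, rfl⟩ := exists_sec₂ u v
        rw [← map_add, key V y, key V y, key V y, dv_add] }
  have hF : ∀ (V : X.Opens) (y : V) (b : Γ(X, V)), F (ff V (gen_mem y.2) b) = dv f D θ V y b := key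
  refine ⟨Derivation.mk' F.toIntLinearMap ?_, fun V y b => key V y b⟩
  intro u v
  change F (u * v) = u • F v + v • F u
  obtain ⟨V, y, b, b', rfl, rfl⟩ := exists_sec₂ u v
  rw [← map_mul, hF V y, hF V y, hF V y, dv_mul, smul_eq_mul, smul_eq_mul]

/-- The derivation of the function field induced by `θ : Ω ⟶ M`. -/
def der : Derivation ℤ X.functionField X.functionField := (exists_der f D θ).choose

theorem der_ff (W : X.Opens) (x : W) (a : Γ(X, W)) :
    der f D θ (ff W (gen_mem x.2) a) = D.value (θ.app W (d f W a)) x :=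
  (exists_der f D θ).choose_spec W x a

/-- `δ O_x ⊆ c x O_x`. -/
theorem regAt_der (x : X) (u : X.functionField) (h : RegAt x u) : RegAt x (der f D θ u / c x) := by
  obtain ⟨W, hx, hη, g, rfl⟩ := h
  rw [der_ff f D θ W ⟨x, hx⟩]
  exact D.value_mem _ ⟨x, hx⟩

section Pow

variable {ι : Type*} (θ : ι → (Omega.sheaf f ⟶ M)) {V₀ : X.Opens} (hV₀ : (V₀ : Set X).Nonempty)
  (hθ : ∀ (U : X.Opens), U ≤ V₀ → ∀ (s : Γ(Omega.sheaf f, U)), (∀ i, (θ i).app U s = 0) → s = 0)

include hθ in
theorem d_eq_zero {W : X.Opens} (hW : W ≤ V₀) (x : W) (a : Γ(X, W))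
    (h : ∀ i, der f D (θ i) (ff W (gen_mem x.2) a) = 0) : d f W a = 0 :=
  hθ W hW _ fun i => by
    have := h i
    rw [der_ff] at this
    exact value_injective D _ x this

include hV₀ hθ in
/-- Elements killed by all the derivations are `p`-th powers. -/
theorem exists_pow_of_der {p : ℕ} [Fact p.Prime] [CharP κ p] [PerfectRing κ p] (u : X.functionField)
    (h : ∀ i, der f D (θ i) u = 0) : ∃ g, g ^ p = u := by
  obtain ⟨W, hW, x, a, rfl⟩ : ∃ (W : X.Opens) (_ : W ≤ V₀) (x : W) (a : Γ(X, W)), ff W (gen_mem x.2) a = u := by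
    obtain ⟨W, x, a, rfl⟩ := exists_sec u
    obtain ⟨y, hy⟩ := hV₀
    exact ⟨W ⊓ V₀, inf_le_right, ⟨genericPoint X, gen_mem x.2, gen_mem hy⟩, ores inf_le_left a, by rw [ff_ores]⟩
  have h0 := d_eq_zero f D θ hθ hW x a h
  let := stAlg f (genericPoint X)
  let := stMod f (Omega.sheaf f) (genericPoint X)
  have := stTower f (Omega.sheaf f) (genericPoint X)
  have h1 : dSt f (genericPoint X) (X.presheaf.germ W _ (gen_mem x.2) a) = 0 := by
    rw [dSt_germ, h0, map_zero]
  have h2 : KaehlerDifferential.D κ (X.presheaf.stalk (genericPoint X))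
      (X.presheaf.germ W _ (gen_mem x.2) a) = 0 := by
    apply (bijective_stDer f (genericPoint X)).1
    rw [map_zero, Derivation.liftKaehlerDifferential_comp_D]
    exact h1
  exact exists_pow_of_D_eq_zero (K := X.functionField) _ h2

end Pow

end K801.DerK
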