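import Groth.Agent.AdjLin.K801.CousinH1
import Groth.Agent.Dix.IdealModCartier
import Groth.Agent.Fga.PicMon
import Groth.Prelude.Def_ClSub2

/-!
# Local equations, inverses and cocycles

* `IsLEq D d`: `d x` is a local equation of the Cartier divisor `D` at `x`; `hasCoc_idealMod`;
* `hasCoc_of_iso`, `hasCoc_inv`: cocycles of isomorphic modules, of inverses.
-/

set_option autoImplicit false
universe u
open CategoryTheory CategoryTheory.Limits AlgebraicGeometry TopologicalSpace Opposite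
open Groth.Agent.Fdesc.LocGen Groth.Agent.Lefpen.H725.CocDef Groth.Agent.Lefpen.H521.CartierCoc
open K801.Cousin K801.CousinH1 Groth.Agent.Dix.IdealModCartier Groth.Agent.Fga.PicMon

noncomputable section

namespace K801.LEq

variable {X : Scheme.{u}}

/-- An inverse is unique up to isomorphism. -/
theorem nonempty_iso_of_inverse {L M N : X.Modules}
    (h1 : ClSub.IsInverseOf M L) (h2 : ClSub.IsInverseOf N L) : Nonempty (M ≅ N) := by
  rw [← mc_eq_iff]
  have e1 : mc M * mc L = 1 := by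
    rw [← mc_tensor, ← mc_one]
    exact (mc_eq_iff _ _).2 h1
  have e2 : mc N * mc L = 1 := by
    rw [← mc_tensor, ← mc_one]
    exact (mc_eq_iff _ _).2 h2
  calc mc M = mc M * (mc N * mc L) := by rw [e2, mul_one]
    _ = (mc M * mc L) * mc N := by rw [mul_comm (mc N), mul_assoc]
    _ = mc N := by rw [e1, one_mul]

variable [IsIntegral X]

/-- Cocycles only depend on the isomorphism class. -/
theorem hasCoc_of_iso {L M : X.Modules} {a : X → X.functionField} (h : HasCoc L a) (φ : L ≅ M) :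
    HasCoc M a := by
  obtain ⟨h0, U, hU, e, he, h⟩ := h
  refine ⟨h0, U, hU, fun x => φ.hom.app (U x) (e x), fun x => (he x).app φ.hom, fun x y => ?_⟩
  obtain ⟨g, hη, hg, ha⟩ := h x y
  refine ⟨g, hη, ?_, ha⟩
  rw [← app_res, hg, Scheme.Modules.Hom.app_smul, app_res]

theorem hasCoc_one : HasCoc (Coh.structureModule X) (fun _ => 1) :=
  ⟨fun _ => one_ne_zero, fun _ => ⊤, fun _ => trivial, fun _ => one ⊤, fun _ => isGen_one ⊤,
    fun _ _ => ⟨1, ⟨trivial, trivial⟩, by rw [one_smul], by rw [map_one, one_mul]⟩⟩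

theorem unitAt_one (x : X) : UnitAt x (1 : X.functionField) :=
  ⟨⊤, trivial, trivial, 1, isUnit_one, map_one _⟩

/-- The cocycle of an inverse. -/
theorem hasCoc_inv {L M : X.Modules} (hLM : ClSub.IsInverseOf L M) {b : X → X.functionField}
    (h : HasCoc M b) : HasCoc L (fun x => (b x)⁻¹) := by
  obtain ⟨L0, hL0, hc⟩ := exists_of_loc (fun x => (b x)⁻¹) (fun x => inv_ne_zero (h.1 x)) (fun x => by
    obtain ⟨U, hx, hU⟩ := hasCoc_loc h x
    refine ⟨U, hx, fun y hy => ?_⟩
    have := unitAt_inv (hU y hy)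
    rwa [inv_div, ← inv_div_inv] at this)
  have h1 := hasCoc_tensor hc h
  obtain ⟨e⟩ := hasCoc_iso h1 hasCoc_one 1 one_ne_zero (fun x => by
    rw [inv_mul_cancel₀ (h.1 x), one_mul, div_one]
    exact unitAt_one x)
  obtain ⟨φ⟩ := nonempty_iso_of_inverse (L := M) (M := L0) (N := L) ⟨e⟩ hLM
  exact hasCoc_of_iso hc φ

/-- `d x` is a local equation of `D` at `x`. -/
def IsLEq (D : X.IdealSheafData) (d : X → X.functionField) : Prop :=
  ∀ x, ∃ (U : X.affineOpens) (a : Γ(X, U.1)) (hx : x ∈ U.1), GenOn D a ∧ d x = ff U.1 (gen_mem hx) a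

theorem exists_isLEq {D : X.IdealSheafData} (hD : BlowUp.IsEffCartierIdeal D) : ∃ d, IsLEq D d := by
  choose U a hx ha using fun x => exists_genOn hD x
  exact ⟨fun x => ff (U x).1 (gen_mem (hx x)) (a x), fun x => ⟨U x, a x, hx x, ha x, rfl⟩⟩

theorem IsLEq.regAt {D : X.IdealSheafData} {d : X → X.functionField} (h : IsLEq D d) (x : X) :
    RegAt x (d x) := by
  obtain ⟨U, a, hx, ha, hd⟩ := h x
  exact ⟨U.1, hx, gen_mem hx, a, hd.symm⟩

theorem IsLEq.ne_zero {D : X.IdealSheafData} {d : X → X.functionField} (h : IsLEq D d) (x : X) :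
    d x ≠ 0 := by
  obtain ⟨U, a, hx, ha, hd⟩ := h x
  rw [hd]
  intro h0
  have h1 : a = 0 := ff_injective U.1 (gen_mem hx) (by rw [h0, map_zero])
  have h2 := (ha U le_rfl).1
  rw [h1, map_zero] at h2
  have : Nonempty U.1 := ⟨⟨x, hx⟩⟩
  exact zero_notMem_nonZeroDivisors h2

theorem IsLEq.hasCoc {D : X.IdealSheafData} {d : X → X.functionField} (h : IsLEq D d) :
    HasCoc (ClSub.idealMod D) d := by
  have h0 := h.ne_zero
  choose U a hx ha hd using h
  have hs : ∀ x, ∃ s : Γ(ClSub.idealMod D, (U x).1), val D s = a x := by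
    intro x
    refine exists_val_eq D (U x) ?_
    rw [((ha x) (U x) le_rfl).2]
    simp
  choose s hs using hs
  have hg : ∀ x, IsGen (s x) := fun x => isGen_of_genOn (by rw [hs]; exact ha x)
  refine ⟨h0, fun x => (U x).1, hx, s, hg, fun x y => ?_⟩
  have hη : genericPoint X ∈ (U x).1 ⊓ (U y).1 := ⟨gen_mem (hx x), gen_mem (hx y)⟩
  obtain ⟨g, hg'⟩ := ((hg y).res (inf_le_right : (U x).1 ⊓ (U y).1 ≤ (U y).1)).exists_eq
    (res _ inf_le_left (s x))
  refine ⟨g, hη, hg', ?_⟩
  have h1 := congrArg (val D) hg'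
  rw [val_smul, val_res, val_res, hs, hs] at h1
  have h2 := congrArg (ff _ hη) h1
  rw [map_mul, ff_ores, ff_ores] at h2
  rw [hd, hd]
  exact h2

end K801.LEq
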