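import Groth.Agent.AdjLin.K801.Cousin
import Mathlib.RingTheory.UniqueFactorizationDomain.Multiplicity
import Mathlib.RingTheory.Localization.NumDen

/-!
# The Frobenius chain of a Kawamata-Viehweg situation

`γ` = local generators of `O(-G)`, `d` = local equations of `D`, `α = γ ^ n / d` = local generators of
`O(-A)`, `A = nG - D`; `p = n q + 1`, `c e = γ α ^ (q_e)` with `q_0 = 0`, `q_{e+1} = p q_e + q`.
-/

set_option autoImplicit false
universe u
open CategoryTheory CategoryTheory.Limits AlgebraicGeometry TopologicalSpace Opposite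
open Groth.Agent.Lefpen.H725.CocDef Groth.Agent.Lefpen.H521.CartierCoc
open K801.Cousin

namespace K801.Step

/-- A prime whose `(n q + 1)`-st power divides `d ^ q` has its `n`-th power dividing `d`. -/
theorem pow_dvd_of_pow_dvd_pow {R : Type*} [CommRing R] [IsDomain R] [WfDvdMonoid R]
    {n q : ℕ} {d π : R} (hd0 : d ≠ 0) (hπ : Prime π) (h : π ^ (n * q + 1) ∣ d ^ q) : π ^ n ∣ d := by
  obtain ⟨e, he, hde⟩ := (FiniteMultiplicity.of_prime_left hπ hd0).exists_eq_pow_mul_and_not_dvd
  set m := multiplicity π d with hm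
  by_cases hmn : n ≤ m
  · rw [he]
    exact (pow_dvd_pow π hmn).trans (dvd_mul_right _ _)
  · exfalso
    push Not at hmn
    apply hde
    rw [he, mul_pow, ← pow_mul] at h
    have h1 : m * q ≤ n * q := Nat.mul_le_mul_right q hmn.le
    obtain ⟨t, ht⟩ := Nat.exists_eq_add_of_le h1
    have h2 : π ^ (n * q + 1) = π ^ (m * q) * π ^ (t + 1) := by
      rw [← pow_add, ht]; congr 1
    rw [h2] at h
    have h3 : π ^ (t + 1) ∣ e ^ q := (mul_dvd_mul_iff_left (pow_ne_zero _ hπ.ne_zero)).1 h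
    exact hπ.dvd_of_dvd_pow ((dvd_pow_self π (Nat.succ_ne_zero t)).trans h3)

/-- `u ^ p d ^ q` integral implies `u` integral, if `d` has no prime power factor `π ^ n` and `p = n q + 1`. -/
theorem mem_of_pow_mul {R K : Type*} [CommRing R] [IsDomain R] [UniqueFactorizationMonoid R] [Field K]
    [Algebra R K] [IsFractionRing R K] {n q : ℕ} {d : R} (hd0 : d ≠ 0)
    (hd : ∀ π : R, Prime π → ¬ π ^ n ∣ d) (u : K)
    (h : u ^ (n * q + 1) * algebraMap R K d ^ q ∈ (algebraMap R K).range) : u ∈ (algebraMap R K).range := by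
  obtain ⟨a, b, hab, rfl⟩ := IsFractionRing.exists_reduced_fraction R u
  obtain ⟨r, hr⟩ := h
  have hb0 : (b : R) ≠ 0 := nonZeroDivisors.ne_zero b.2
  have hbK : algebraMap R K b ≠ 0 := IsFractionRing.to_map_ne_zero_of_mem_nonZeroDivisors b.2
  have h1 : r * (b : R) ^ (n * q + 1) = a ^ (n * q + 1) * d ^ q := by
    apply IsFractionRing.injective R K
    rw [map_mul, map_mul, map_pow, map_pow, map_pow, hr, IsFractionRing.mk'_eq_div, div_pow]
    field_simp
  have hu : IsUnit (b : R) := by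
    by_contra hnu
    obtain ⟨π, hπi, hπ⟩ := WfDvdMonoid.exists_irreducible_factor hnu hb0
    have hπp : Prime π := UniqueFactorizationMonoid.irreducible_iff_prime.1 hπi
    have hπa : ¬ π ∣ a := fun h => hπi.not_isUnit (hab h hπ)
    have h2 : π ^ (n * q + 1) ∣ a ^ (n * q + 1) * d ^ q := by
      rw [← h1]
      exact (pow_dvd_pow_of_dvd hπ _).trans (dvd_mul_left _ _)
    have h3 : π ^ (n * q + 1) ∣ d ^ q := hπp.pow_dvd_of_dvd_mul_left _ (fun h => hπa (hπp.dvd_of_dvd_pow h)) h2
    exact hd π hπp (pow_dvd_of_pow_dvd_pow hd0 hπp h3)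
  obtain ⟨b', hb'⟩ := hu
  refine ⟨a * ((b'⁻¹ : Rˣ) : R), ?_⟩
  rw [IsFractionRing.mk'_eq_div, map_mul, eq_div_iff hbK, mul_assoc, ← map_mul, ← hb', Units.inv_mul,
    map_one, mul_one]

variable {X : Scheme.{u}} [IsIntegral X]

/-- The exponents `q_0 = 0`, `q_{e+1} = p q_e + q`. -/
def qe (p q : ℕ) : ℕ → ℕ
  | 0 => 0
  | e + 1 => p * qe p q e + q

theorem le_qe_succ (p q e : ℕ) : q ≤ qe p q (e + 1) := Nat.le_add_left _ _

theorem le_qe {p q : ℕ} (hp : 2 ≤ p) (hq : 1 ≤ q) (e : ℕ) : e ≤ qe p q e := by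
  induction e with
  | zero => exact le_rfl
  | succ e ih =>
    change e + 1 ≤ p * qe p q e + q
    have : qe p q e ≤ p * qe p q e := Nat.le_mul_of_pos_left _ (by omega)
    omega

/-- One step of the Frobenius chain. -/
theorem step {p n q : ℕ} [Fact p.Prime] [CharP X.functionField p] (hp : p = n * q + 1)
    {γ d io : X → X.functionField} (hγ : ∀ x, γ x ≠ 0) (hd0 : ∀ x, d x ≠ 0) (hio : ∀ x, io x ≠ 0)
    (hd : ∀ x, RegAt x (d x))
    (hfree : ∀ x u, RegAt x (u ^ p * d x ^ q) → RegAt x u)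
    {ι : Type*} {R : Type*} [CommRing R] [Algebra R X.functionField]
    (δ : ι → Derivation R X.functionField X.functionField)
    (hδ : ∀ i x u, RegAt x u → RegAt x (δ i u / io x))
    (hker : ∀ f, (∀ i, δ i f = 0) → ∃ g, g ^ p = f) (e : ℕ)
    (hvan : ∀ f, (∀ x, RegAt x (f * d x / (γ x * (γ x ^ n / d x) ^ qe p q (e + 1) * io x))) → f = 0)
    (H : Solv fun x => γ x * (γ x ^ n / d x) ^ qe p q (e + 1)) :
    Solv fun x => γ x * (γ x ^ n / d x) ^ qe p q e := by
  have key : ∀ x, γ x * (γ x ^ n / d x) ^ qe p q (e + 1) * d x ^ q = (γ x * (γ x ^ n / d x) ^ qe p q e) ^ p := by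
    intro x
    have h1 : (γ x ^ n / d x) ^ qe p q (e + 1) = ((γ x ^ n / d x) ^ qe p q e) ^ p * (γ x ^ n / d x) ^ q := by
      change (γ x ^ n / d x) ^ (p * qe p q e + q) = _
      rw [pow_add, mul_comm p, pow_mul]
    have h2 : γ x * (γ x ^ n / d x) ^ q * d x ^ q = γ x ^ p := by
      rw [mul_assoc, ← mul_pow, div_mul_cancel₀ _ (hd0 x), ← pow_mul, hp, pow_succ']
    rw [h1, mul_pow, ← h2]
    ring
  have hne : ∀ x m, γ x * (γ x ^ n / d x) ^ m ≠ 0 := fun x m =>
    mul_ne_zero (hγ x) (pow_ne_zero _ (div_ne_zero (pow_ne_zero _ (hγ x)) (hd0 x)))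
  refine of_frobenius (p := p) (c'' := fun x => γ x * (γ x ^ n / d x) ^ qe p q (e + 1) * io x / d x) δ
    ?_ ?_ ?_ hker ?_ H
  · intro x f hf
    have : f ^ p / (γ x * (γ x ^ n / d x) ^ qe p q (e + 1)) =
        (f / (γ x * (γ x ^ n / d x) ^ qe p q e)) ^ p * d x ^ q := by
      rw [div_pow f, ← key x, div_mul_eq_mul_div, mul_div_mul_right _ _ (pow_ne_zero _ (hd0 x))]
    rw [this]
    exact regAt_mul (regAt_pow hf p) (regAt_pow (hd x) q)
  · intro i x f hf
    set c := γ x * (γ x ^ n / d x) ^ qe p q (e + 1) with hc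
    set c0 := γ x * (γ x ^ n / d x) ^ qe p q e with hc0
    have hc0' : c ≠ 0 := hne x _
    have hdx := hd0 x
    have hiox := hio x
    have hpow : δ i (c * d x ^ q) = 0 := by
      rw [key x, Derivation.leibniz_pow, nsmul_eq_mul, CharP.cast_eq_zero, zero_mul]
    have hdq : δ i (d x ^ q) = q * d x ^ (q - 1) * δ i (d x) := by
      rw [Derivation.leibniz_pow, nsmul_eq_mul, smul_eq_mul]; ring
    have hδc : δ i c * d x = - (q : X.functionField) * c * δ i (d x) := by
      rw [Derivation.leibniz, smul_eq_mul, smul_eq_mul, hdq] at hpow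
      rcases Nat.eq_zero_or_pos q with hq | hq
      · rw [hq] at hpow ⊢
        simp only [pow_zero, Nat.cast_zero, zero_mul, mul_zero, zero_add, one_mul, neg_zero] at hpow ⊢
        rw [hpow, zero_mul]
      · have h3 : d x ^ q = d x ^ (q - 1) * d x := by rw [← pow_succ, Nat.sub_add_cancel hq]
        rw [h3] at hpow
        have h4 : d x ^ (q - 1) * (δ i c * d x + q * c * δ i (d x)) = 0 := by
          linear_combination hpow
        rcases mul_eq_zero.1 h4 with h5 | h5
        · exact absurd h5 (pow_ne_zero _ hdx)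
        · linear_combination h5
    have hf' : δ i f = c * δ i (f / c) + (f / c) * δ i c := by
      conv_lhs => rw [show f = c * (f / c) by field_simp]
      rw [Derivation.leibniz, smul_eq_mul, smul_eq_mul]
    have h6 : δ i f / (c * io x / d x) =
        δ i (f / c) / io x * d x - (q : X.functionField) * (f / c) * (δ i (d x) / io x) := by
      rw [hf']
      have h7 : (f / c) * δ i c * d x = (f / c) * (- (q : X.functionField) * c * δ i (d x)) := by
        rw [mul_assoc, hδc]
      field_simp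
      field_simp at h7
      linear_combination h7
    rw [h6]
    exact regAt_sub (regAt_mul (hδ i x _ hf) (hd x))
      (regAt_mul (regAt_mul (regAt_natCast x q) hf) (hδ i x _ (hd x)))
  · intro f hf
    refine hvan f fun x => ?_
    have := hf x
    rwa [div_div_eq_mul_div] at this
  · intro x f hf
    refine hfree x _ ?_
    have : (f / (γ x * (γ x ^ n / d x) ^ qe p q e)) ^ p * d x ^ q =
        f ^ p / (γ x * (γ x ^ n / d x) ^ qe p q (e + 1)) := by
      rw [div_pow f, ← key x, div_mul_eq_mul_div, mul_div_mul_right _ _ (pow_ne_zero _ (hd0 x))]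
    rw [this]
    exact hf

/-- The whole chain. -/
theorem chain {p n q : ℕ} [Fact p.Prime] [CharP X.functionField p] (hp : p = n * q + 1)
    {γ d io : X → X.functionField} (hγ : ∀ x, γ x ≠ 0) (hd0 : ∀ x, d x ≠ 0) (hio : ∀ x, io x ≠ 0)
    (hd : ∀ x, RegAt x (d x))
    (hfree : ∀ x u, RegAt x (u ^ p * d x ^ q) → RegAt x u)
    {ι : Type*} {R : Type*} [CommRing R] [Algebra R X.functionField]
    (δ : ι → Derivation R X.functionField X.functionField)
    (hδ : ∀ i x u, RegAt x u → RegAt x (δ i u / io x))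
    (hker : ∀ f, (∀ i, δ i f = 0) → ∃ g, g ^ p = f)
    (hvan : ∀ (m : ℕ), q ≤ m → ∀ f, (∀ x, RegAt x (f * d x / (γ x * (γ x ^ n / d x) ^ m * io x))) → f = 0)
    (m₀ : ℕ) (H : ∀ m, m₀ ≤ m → Solv fun x => γ x * (γ x ^ n / d x) ^ m) (hq : 1 ≤ q) :
    Solv γ := by
  have h2 : ∀ e, Solv (fun x => γ x * (γ x ^ n / d x) ^ qe p q e) →
      Solv (fun x => γ x * (γ x ^ n / d x) ^ qe p q 0) := by
    intro e
    induction e with
    | zero => exact id
    | succ e ih =>
      intro h
      exact ih (step hp hγ hd0 hio hd hfree δ hδ hker e (hvan _ (le_qe_succ p q e)) h)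
  have h3 := h2 m₀ (H _ (le_qe (Fact.out (p := p.Prime)).two_le hq m₀))
  simpa [qe] using h3

end K801.Step
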