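import Groth.Agent.AdjLin.K801.Amp
import Groth.Agent.AdjLin.K801.DerK
import Groth.Agent.AdjLin.K801.LEq
import Groth.Agent.AdjLin.K801.Step
import Groth.Agent.S2329

/-!
# A vanishing theorem in characteristic `p`

`main`: `X` integral proper with factorial local rings over a perfect field of characteristic `p = n q + 1`,
`D` effective Cartier without components of multiplicity `≥ n`, `A = G^n(-D)` ample; if `q` is large with
respect to the poles of the derivations of the function field, and `H^1(G^-1 ⊗ A^-m) = 0` for `m` large,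
then `H^1(X, G^-1) = 0`.
-/

set_option autoImplicit false
universe u
open CategoryTheory CategoryTheory.Limits AlgebraicGeometry TopologicalSpace Opposite
open Groth.Agent.Fdesc.LocGen Groth.Agent.Lefpen.H725.CocDef Groth.Agent.Lefpen.H521.CartierCoc
open K801.Cousin K801.CousinH1 Groth.Agent.Dix.IdealModCartier Groth.Agent.Fga.PicMon
open K801.LEq K801.Amp K801.DerK

noncomputable section

namespace K801.CharP

variable {X : Scheme.{u}}

/-- No local equation of `D` is divisible by the `n`-th power of a prime element. -/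
def NFree (n : ℕ) (D : X.IdealSheafData) : Prop :=
  ∀ (U : X.affineOpens) (a : Γ(X, U.1)) (x : X) (hx : x ∈ U.1), D.ideal U = Ideal.span {a} →
    ∀ π : X.presheaf.stalk x, Prime π → ¬ π ^ n ∣ X.presheaf.germ U.1 x hx a

variable [IsIntegral X]

theorem regAt_of_nfree {n q : ℕ} {D : X.IdealSheafData} (hD : NFree n D) {d : X → X.functionField}
    (hd : IsLEq D d) (x : X) [UniqueFactorizationMonoid (X.presheaf.stalk x)] (u : X.functionField)
    (h : RegAt x (u ^ (n * q + 1) * d x ^ q)) : RegAt x u := by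
  obtain ⟨U, a, hx, ha, hda⟩ := hd x
  rw [regAt_iff] at h ⊢
  have h1 : d x = algebraMap (X.presheaf.stalk x) X.functionField (X.presheaf.germ U.1 x hx a) := by
    rw [hda, algebraMap_germ hx (gen_mem hx)]
  rw [h1] at h
  refine K801.Step.mem_of_pow_mul (R := X.presheaf.stalk x) (n := n) (q := q) (d := X.presheaf.germ U.1 x hx a)
    ?_ ?_ u h
  · intro h0
    rw [h0, map_zero] at h1
    exact hd.ne_zero x h1
  · refine hD U a x hx ?_
    have := (ha U le_rfl).2
    rwa [ores_refl] at this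

omit [IsIntegral X] in
/-- The tensor product of two ample modules is ample. -/
theorem isAmple_tensor [X.IsSeparated] {L M : X.Modules} (hL : CohB1.IsAmple L) (hM : CohB1.IsAmple M) :
    CohB1.IsAmple (CohB1.tensorMod L M) := by
  have := hL.2.1
  refine Groth.Agent.S2328.result X L M hL hM.1 fun x => ?_
  obtain ⟨n, s, hs, -⟩ := hM.2.2 x
  exact ⟨n, s, hs⟩

omit [IsIntegral X] in
theorem isAmple_tensor_pow [X.IsSeparated] {L M : X.Modules} (hL : CohB1.IsAmple L) (hM : CohB1.IsAmple M)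
    (n : ℕ) : CohB1.IsAmple (CohB1.tensorMod L (CohB1.tensorPow M n)) := by
  induction n with
  | zero =>
    have e : Nonempty (L ≅ CohB1.tensorMod L (CohB1.tensorPow M 0)) := by
      rw [← mc_eq_iff]
      simp only [mc_tensor, mc_tensorPow, pow_zero, mul_one]
    obtain ⟨e⟩ := e
    exact Groth.Agent.S2329.isAmple_of_iso e hL
  | succ n ih =>
    have h1 := isAmple_tensor ih hM
    have e : Nonempty (CohB1.tensorMod (CohB1.tensorMod L (CohB1.tensorPow M n)) M ≅
        CohB1.tensorMod L (CohB1.tensorPow M (n + 1))) := by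
      rw [← mc_eq_iff]
      simp only [mc_tensor, mc_tensorPow, pow_succ, mul_assoc]
    obtain ⟨e⟩ := e
    exact Groth.Agent.S2329.isAmple_of_iso e h1

/-- The vanishing theorem, with the condition on the divisor in abstract form. -/
theorem main_of {κ : Type u} [Field κ] {p n q m₁ : ℕ} [Fact p.Prime] [CharP κ p] [PerfectRing κ p]
    (hp : p = n * q + 1) (hq : 1 ≤ q) (hm₁ : m₁ ≤ q)
    (f : X ⟶ Spec (CommRingCat.of κ)) [IsProper f] (hX : ¬ IsAffineOpen (⊤ : X.Opens))
    {G G' : X.Modules} (hG : PicF.IsInvertible G) (hG' : ClSub.IsInverseOf G' G)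
    {D : X.IdealSheafData} (hD : BlowUp.IsEffCartierIdeal D)
    (hreg : ∀ d : X → X.functionField, IsLEq D d → ∀ (x : X) (u : X.functionField),
      RegAt x (u ^ p * d x ^ q) → RegAt x u)
    (hA : CohB1.IsAmple (CohB1.tensorMod (CohB1.tensorPow G n) (ClSub.idealMod D)))
    {M M' : X.Modules} (hM : PicF.IsInvertible M) (hM' : ClSub.IsInverseOf M' M)
    {ι : Type*} (θ : ι → (Omega.sheaf f ⟶ M)) {V₀ : X.Opens} (hV₀ : (V₀ : Set X).Nonempty)
    (hθ : ∀ (U : X.Opens), U ≤ V₀ → ∀ (s : Γ(Omega.sheaf f, U)), (∀ i, (θ i).app U s = 0) → s = 0)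
    (hB : CohB1.IsAmple (CohB1.tensorMod (CohB1.tensorMod (CohB1.tensorMod G (CohB1.tensorPow
      (CohB1.tensorMod (CohB1.tensorPow G n) (ClSub.idealMod D)) m₁)) (ClSub.idealMod D)) M'))
    (hasym : ∃ m₀ : ℕ, ∀ m, m₀ ≤ m → ∀ N : X.Modules, ClSub.IsInverseOf N (CohB1.tensorMod G
      (CohB1.tensorPow (CohB1.tensorMod (CohB1.tensorPow G n) (ClSub.idealMod D)) m)) →
      Subsingleton (Coh.HH X N 1)) : Subsingleton (Coh.HH X G' 1) := by
  have : X.IsSeparated := by
    have h1 : IsSeparated (f ≫ Limits.terminal.from _) := inferInstance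
    exact ⟨by rwa [Limits.terminal.comp_from] at h1⟩
  obtain ⟨g, hg⟩ := exists_hasCoc hG
  obtain ⟨io, hio⟩ := exists_hasCoc hM
  obtain ⟨d, hd⟩ := exists_isLEq hD
  have hdc := hd.hasCoc
  have hgc := hasCoc_inv hG' hg
  have hAc := hasCoc_tensor (hasCoc_pow hg n) hdc
  obtain ⟨DM⟩ := nonempty_dat hio
  have hM'c := hasCoc_inv hM' hio
  rw [subsingleton_iff_solv hgc]
  have hchar : CharP X.functionField p :=
    charP_of_injective_ringHom (Groth.Agent.CurvesB.OmegaStalkDict.stHom f (genericPoint X)).injective p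
  obtain ⟨m₀, hm₀⟩ := hasym
  refine K801.Step.chain (p := p) (n := n) (q := q) hp (γ := fun x => (g x)⁻¹) (d := d) (io := io)
    hgc.1 hd.ne_zero hio.1 hd.regAt ?_ (fun i => der f DM (θ i)) (fun i x u h => regAt_der f DM (θ i) x u h)
    (exists_pow_of_der f DM θ hV₀ hθ) ?_ m₀ ?_ hq
  · intro x u h
    exact hreg d hd x u h
  · intro m hm u hu
    have hBm := isAmple_tensor_pow hB hA (m - m₁)
    have hBc := hasCoc_tensor (hasCoc_tensor (hasCoc_tensor (hasCoc_tensor hg (hasCoc_pow hAc m₁)) hdc) hM'c)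
      (hasCoc_pow hAc (m - m₁))
    refine eq_zero_of_ample f hX hBm hBc u fun x => ?_
    have h1 := hu x
    have h2 : u * d x / ((g x)⁻¹ * ((g x)⁻¹ ^ n / d x) ^ m * io x) =
        u * (g x * (g x ^ n * d x) ^ m₁ * d x * (io x)⁻¹ * (g x ^ n * d x) ^ (m - m₁)) := by
      have h3 := hg.1 x
      have h4 := hd.ne_zero x
      have h5 := hio.1 x
      have h6 : ((g x)⁻¹ ^ n / d x) ^ m = ((g x ^ n * d x) ^ m₁ * (g x ^ n * d x) ^ (m - m₁))⁻¹ := by
        rw [← pow_add, Nat.add_sub_cancel' (hm₁.trans hm), ← inv_pow, mul_inv, inv_pow, div_eq_mul_inv]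
      rw [h6]
      field_simp
    rwa [h2] at h1
  · intro m hm
    have hinv : ∀ z : X, (g z)⁻¹ * ((g z)⁻¹ ^ n / d z) ^ m = (g z * (g z ^ n * d z) ^ m)⁻¹ := by
      intro z
      rw [mul_inv, ← inv_pow (g z ^ n * d z), mul_inv, inv_pow (g z), div_eq_mul_inv]
    have hA' := hasCoc_tensor hg (hasCoc_pow hAc m)
    obtain ⟨N, hN, hNc⟩ := exists_of_loc (fun x => (g x)⁻¹ * ((g x)⁻¹ ^ n / d x) ^ m)
      (fun x => by rw [hinv]; exact inv_ne_zero (hA'.1 x)) (fun x => by
        obtain ⟨U, hxU, hU⟩ := hasCoc_loc hA' x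
        refine ⟨U, hxU, fun y hy => ?_⟩
        have h1 := unitAt_inv (hU y hy)
        rw [hinv, hinv, inv_div_inv]
        rwa [inv_div] at h1)
    rw [← subsingleton_iff_solv hNc]
    refine hm₀ m hm N ?_
    refine hasCoc_iso (hasCoc_tensor hNc hA') hasCoc_one 1 one_ne_zero fun x => ?_
    rw [hinv, inv_mul_cancel₀ (hA'.1 x), one_mul, div_one]
    exact unitAt_one x

/-- The vanishing theorem. -/
theorem main {κ : Type u} [Field κ] {p n q m₁ : ℕ} [Fact p.Prime] [CharP κ p] [PerfectRing κ p]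
    (hp : p = n * q + 1) (hq : 1 ≤ q) (hm₁ : m₁ ≤ q)
    (f : X ⟶ Spec (CommRingCat.of κ)) [IsProper f] (hX : ¬ IsAffineOpen (⊤ : X.Opens))
    (hufd : ∀ x : X, UniqueFactorizationMonoid (X.presheaf.stalk x))
    {G G' : X.Modules} (hG : PicF.IsInvertible G) (hG' : ClSub.IsInverseOf G' G)
    {D : X.IdealSheafData} (hD : BlowUp.IsEffCartierIdeal D) (hfree : NFree n D)
    (hA : CohB1.IsAmple (CohB1.tensorMod (CohB1.tensorPow G n) (ClSub.idealMod D)))
    {M M' : X.Modules} (hM : PicF.IsInvertible M) (hM' : ClSub.IsInverseOf M' M)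
    {ι : Type*} (θ : ι → (Omega.sheaf f ⟶ M)) {V₀ : X.Opens} (hV₀ : (V₀ : Set X).Nonempty)
    (hθ : ∀ (U : X.Opens), U ≤ V₀ → ∀ (s : Γ(Omega.sheaf f, U)), (∀ i, (θ i).app U s = 0) → s = 0)
    (hB : CohB1.IsAmple (CohB1.tensorMod (CohB1.tensorMod (CohB1.tensorMod G (CohB1.tensorPow
      (CohB1.tensorMod (CohB1.tensorPow G n) (ClSub.idealMod D)) m₁)) (ClSub.idealMod D)) M'))
    (hasym : ∃ m₀ : ℕ, ∀ m, m₀ ≤ m → ∀ N : X.Modules, ClSub.IsInverseOf N (CohB1.tensorMod G
      (CohB1.tensorPow (CohB1.tensorMod (CohB1.tensorPow G n) (ClSub.idealMod D)) m)) →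
      Subsingleton (Coh.HH X N 1)) : Subsingleton (Coh.HH X G' 1) := by
  refine main_of hp hq hm₁ f hX hG hG' hD ?_ hA hM hM' θ hV₀ hθ hB hasym
  intro d hd x u h
  have := hufd x
  rw [hp] at h
  exact regAt_of_nfree hfree hd x u h

end K801.CharP
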