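import Groth.Agent.Lefpen.H521.CartierCoc
import Mathlib.Algebra.CharP.Lemmas
import Mathlib.RingTheory.Derivation.Basic

/-!
# Cousin problems on an integral scheme and Frobenius

* `Ox x`: the local ring at `x` as a subring of the function field; `regAt_iff`;
* `Solv c`: every additive Cousin problem for the invertible subsheaf of the function field with local
  generators `c x` is solvable (equivalent to the vanishing of `H^1`, see `CousinH1`);
* `of_frobenius`: the descent of this property along `f ↦ f ^ p`, controlled by derivations.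
-/

set_option autoImplicit false
universe u
open CategoryTheory CategoryTheory.Limits AlgebraicGeometry TopologicalSpace Opposite
open Groth.Agent.Lefpen.H725.CocDef Groth.Agent.Lefpen.H521.CartierCoc

namespace K801.Cousin

variable {X : Scheme.{u}} [IsIntegral X]

/-- The local ring at `x` inside the function field. -/
noncomputable def Ox (x : X) : Subring X.functionField :=
  (algebraMap (X.presheaf.stalk x) X.functionField).range

theorem algebraMap_germ {U : X.Opens} {x : X} (hx : x ∈ U) (hη : genericPoint X ∈ U) (g : Γ(X, U)) :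
    algebraMap (X.presheaf.stalk x) X.functionField (X.presheaf.germ U x hx g) = ff U hη g := by
  change (X.presheaf.stalkSpecializes ((genericPoint_spec X).specializes trivial)).hom _ = _
  rw [← CommRingCat.comp_apply, TopCat.Presheaf.germ_stalkSpecializes]
  rfl

theorem regAt_iff (x : X) (u : X.functionField) : RegAt x u ↔ u ∈ Ox x := by
  constructor
  · rintro ⟨U, hx, hη, g, rfl⟩
    exact ⟨X.presheaf.germ U x hx g, algebraMap_germ hx hη g⟩
  · rintro ⟨s, rfl⟩
    obtain ⟨U, hx, g, rfl⟩ := X.presheaf.exists_germ_eq s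
    exact ⟨U, hx, gen_mem hx, g, (algebraMap_germ hx (gen_mem hx) g).symm⟩

theorem regAt_zero (x : X) : RegAt x (0 : X.functionField) := (regAt_iff x _).2 (Ox x).zero_mem
theorem regAt_one (x : X) : RegAt x (1 : X.functionField) := (regAt_iff x _).2 (Ox x).one_mem

theorem regAt_add {x : X} {u v : X.functionField} (h : RegAt x u) (h' : RegAt x v) : RegAt x (u + v) :=
  (regAt_iff x _).2 ((Ox x).add_mem ((regAt_iff x _).1 h) ((regAt_iff x _).1 h'))

theorem regAt_sub {x : X} {u v : X.functionField} (h : RegAt x u) (h' : RegAt x v) : RegAt x (u - v) :=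
  (regAt_iff x _).2 ((Ox x).sub_mem ((regAt_iff x _).1 h) ((regAt_iff x _).1 h'))

theorem regAt_neg {x : X} {u : X.functionField} (h : RegAt x u) : RegAt x (-u) :=
  (regAt_iff x _).2 ((Ox x).neg_mem ((regAt_iff x _).1 h))

theorem regAt_mul {x : X} {u v : X.functionField} (h : RegAt x u) (h' : RegAt x v) : RegAt x (u * v) :=
  (regAt_iff x _).2 ((Ox x).mul_mem ((regAt_iff x _).1 h) ((regAt_iff x _).1 h'))

theorem regAt_pow {x : X} {u : X.functionField} (h : RegAt x u) (n : ℕ) : RegAt x (u ^ n) :=
  (regAt_iff x _).2 ((Ox x).pow_mem ((regAt_iff x _).1 h) n)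

theorem regAt_natCast (x : X) (n : ℕ) : RegAt x (n : X.functionField) :=
  (regAt_iff x _).2 (natCast_mem (Ox x) n)

/-- A regular function near `x` is regular in a neighbourhood. -/
theorem regAt_open {x : X} {u : X.functionField} (h : RegAt x u) :
    ∃ V : X.Opens, x ∈ V ∧ ∀ y ∈ V, RegAt y u := by
  obtain ⟨U, hx, hη, g, hg⟩ := h
  exact ⟨U, hx, fun y hy => ⟨U, hy, hη, g, hg⟩⟩

/-- Every additive Cousin problem for the invertible subsheaf with local generators `c x` has a solution. -/
def Solv (c : X → X.functionField) : Prop :=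
  ∀ a : X → X.functionField,
    (∀ x, ∃ V : X.Opens, x ∈ V ∧ ∀ y ∈ V, RegAt y ((a x - a y) / c y)) →
      ∃ b : X.functionField, ∀ x, RegAt x ((a x - b) / c x)

/-- Descent of the solvability of Cousin problems along the Frobenius. -/
theorem of_frobenius {p : ℕ} [Fact p.Prime] [CharP X.functionField p]
    {c c' c'' : X → X.functionField} {ι : Type*} {R : Type*} [CommRing R] [Algebra R X.functionField]
    (δ : ι → Derivation R X.functionField X.functionField)
    (h1 : ∀ x f, RegAt x (f / c x) → RegAt x (f ^ p / c' x))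
    (h2 : ∀ i x f, RegAt x (f / c' x) → RegAt x (δ i f / c'' x))
    (h3 : ∀ f, (∀ x, RegAt x (f / c'' x)) → f = 0)
    (h4 : ∀ f, (∀ i, δ i f = 0) → ∃ g, g ^ p = f)
    (h5 : ∀ x f, RegAt x (f ^ p / c' x) → RegAt x (f / c x))
    (H : Solv c') : Solv c := by
  intro a ha
  obtain ⟨b, hb⟩ := H (fun x => a x ^ p) (fun x => by
    obtain ⟨V, hV, h⟩ := ha x
    refine ⟨V, hV, fun y hy => ?_⟩
    have := h1 y _ (h y hy)
    rwa [sub_pow_char] at this)
  have hδ : ∀ i, δ i b = 0 := by
    intro i
    refine h3 _ fun x => ?_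
    have h := h2 i x _ (hb x)
    have hp : δ i (a x ^ p) = 0 := by
      rw [Derivation.leibniz_pow, nsmul_eq_mul, CharP.cast_eq_zero, zero_mul]
    rw [map_sub, hp, zero_sub, neg_div] at h
    simpa using regAt_neg h
  obtain ⟨g, rfl⟩ := h4 b hδ
  refine ⟨g, fun x => h5 x _ ?_⟩
  have := hb x
  rwa [← sub_pow_char] at this

end K801.Cousin
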