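import Groth.Agent.AdjLin.K801.Cousin
import Groth.Agent.MiscA.CurveH1C

/-!
# `H^1` of an invertible module and additive Cousin problems

On an integral scheme, for an invertible module `L` with Cartier cocycle `c`,
`H^1(X, L) = 0` iff `Solv c` (`subsingleton_iff`).
-/

set_option autoImplicit false
universe u
open CategoryTheory CategoryTheory.Limits AlgebraicGeometry TopologicalSpace Opposite
open Groth.Agent.Fdesc.LocGen Groth.Agent.Lefpen.H725.CocDef Groth.Agent.Lefpen.H521.CartierCoc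
open Groth.Agent.CohtopA Groth.Agent.CohtopA.Sec Groth.Agent.MiscA.CurveH1B Groth.Agent.MiscA.CurveH1C
open K801.Cousin

noncomputable section

namespace K801.CousinH1

variable {X : Scheme.{u}} [IsIntegral X]

/-- The fractional ideal `c x O_{X,x}`. -/
def Mx (c : X → X.functionField) (x : X) : AddSubgroup X.functionField where
  carrier := {f | RegAt x (f / c x)}
  add_mem' h h' := by
    change RegAt x _
    rw [add_div]
    exact K801.Cousin.regAt_add h h'
  zero_mem' := by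
    change RegAt x _
    rw [zero_div]
    exact K801.Cousin.regAt_zero x
  neg_mem' h := by
    change RegAt x _
    rw [neg_div]
    exact K801.Cousin.regAt_neg h

theorem mem_Mx {c : X → X.functionField} {x : X} {f : X.functionField} :
    f ∈ Mx c x ↔ RegAt x (f / c x) := Iff.rfl

/-- Membership in `c x O_{X,x}` is an open condition. -/
theorem mem_Mx_open {c : X → X.functionField} (h0 : ∀ x, c x ≠ 0)
    (hloc : ∀ x, ∃ U : X.Opens, x ∈ U ∧ ∀ y ∈ U, UnitAt y (c x / c y)) {x : X} {f : X.functionField}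
    (hf : f ∈ Mx c x) : ∃ V : X.Opens, x ∈ V ∧ ∀ y ∈ V, f ∈ Mx c y := by
  obtain ⟨U, hxU, hU⟩ := hloc x
  obtain ⟨V, hxV, hV⟩ := regAt_open hf
  refine ⟨U ⊓ V, ⟨hxU, hxV⟩, fun y hy => ?_⟩
  have h1 : f / c y = f / c x * (c x / c y) := by
    have := h0 x
    have := h0 y
    field_simp
  rw [mem_Mx, h1]
  exact K801.Cousin.regAt_mul (hV y hy.2) (unitAt_regAt (hU y hy.1))

/-- The sheaf `K / L`. -/
def QS (c : X → X.functionField) (h0 : ∀ x, c x ≠ 0)
    (hloc : ∀ x, ∃ U : X.Opens, x ∈ U ∧ ∀ y ∈ U, UnitAt y (c x / c y)) :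
    LocalSub X.carrier (fun x => X.functionField ⧸ Mx c x) where
  sub U :=
    { carrier := {s | ∀ x : U, ∃ (V : X.Opens) (h : V ≤ U), x.1 ∈ V ∧ ∃ f : X.functionField,
        ∀ y : V, s ⟨y.1, h y.2⟩ = QuotientAddGroup.mk f}
      add_mem' := by
        intro a b ha hb x
        obtain ⟨V, hV, hx, f, hf⟩ := ha x
        obtain ⟨W, hW, hx', g, hg⟩ := hb x
        refine ⟨V ⊓ W, inf_le_left.trans hV, ⟨hx, hx'⟩, f + g, fun y => ?_⟩
        rw [Pi.add_apply, hf ⟨y.1, y.2.1⟩, hg ⟨y.1, y.2.2⟩, QuotientAddGroup.mk_add]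
      zero_mem' := fun x => ⟨U, le_rfl, x.2, 0, fun y => by rw [QuotientAddGroup.mk_zero]; rfl⟩
      neg_mem' := by
        intro a ha x
        obtain ⟨V, hV, hx, f, hf⟩ := ha x
        refine ⟨V, hV, hx, -f, fun y => ?_⟩
        rw [Pi.neg_apply, hf y, QuotientAddGroup.mk_neg] }
  res := by
    intro U V h s hs x
    obtain ⟨W, hW, hx, f, hf⟩ := hs ⟨x.1, h x.2⟩
    refine ⟨W ⊓ V, inf_le_right, ⟨hx, x.2⟩, f, fun y => ?_⟩
    exact hf ⟨y.1, y.2.1⟩
  loc := by
    intro U s hs x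
    obtain ⟨V, hV, hx, h⟩ := hs x
    obtain ⟨W, hW, hx', f, hf⟩ := h ⟨x.1, hx⟩
    exact ⟨W, hW.trans hV, hx', f, fun y => hf y⟩

section

variable {c : X → X.functionField} (h0 : ∀ x, c x ≠ 0)
    (hloc : ∀ x, ∃ U : X.Opens, x ∈ U ∧ ∀ y ∈ U, UnitAt y (c x / c y))

/-- `K → K / L` -/
def toQ : (KS X).sheaf ⟶ (QS c h0 hloc).sheaf :=
  (KS X).homMk (QS c h0 hloc) (fun x => QuotientAddGroup.mk' (Mx c x)) (by
    intro U s hs x
    exact ⟨U, le_rfl, x.2, s x, fun y => by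
      change QuotientAddGroup.mk (s y) = _
      rw [hs y x]⟩)

theorem val_toQ {U : X.Opens} (s : Γs (KS X).sheaf U) (x : U) :
    ((QS c h0 hloc).val (m (toQ h0 hloc) U s)).1 x = QuotientAddGroup.mk (((KS X).val s).1 x) := rfl

theorem toQ_local (U : X.Opens) (t : Γs (QS c h0 hloc).sheaf U) (x : X) (hx : x ∈ U) :
    ∃ (V : X.Opens) (h : V ≤ U) (s : Γs (KS X).sheaf V), x ∈ V ∧
      m (toQ h0 hloc) V s = r (QS c h0 hloc).sheaf h t := by
  obtain ⟨V, hV, hxV, f, hf⟩ := ((QS c h0 hloc).val t).2 ⟨x, hx⟩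
  refine ⟨V, hV, (KS X).sec ⟨fun _ => f, fun _ _ => rfl⟩, hxV, ?_⟩
  apply (QS c h0 hloc).sec_ext
  intro y
  rw [LocalSub.val_r]
  exact (hf y).symm

end

/-- Local data of a Cartier cocycle. -/
structure Dat (L : X.Modules) (c : X → X.functionField) where
  h0 : ∀ x, c x ≠ 0
  U : X → X.Opens
  hU : ∀ x, x ∈ U x
  e : ∀ x, Γ(L, U x)
  gen : ∀ x, IsGen (e x)
  tr : ∀ x y, ∃ (g : Γ(X, U x ⊓ U y)) (hη : genericPoint X ∈ U x ⊓ U y),
      res L inf_le_left (e x) = g • res L inf_le_right (e y) ∧ c x = ff (U x ⊓ U y) hη g * c y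

theorem nonempty_dat {L : X.Modules} {c : X → X.functionField} (h : HasCoc L c) : Nonempty (Dat L c) := by
  obtain ⟨h0, U, hU, e, he, h⟩ := h
  exact ⟨⟨h0, U, hU, e, he, h⟩⟩

namespace Dat

variable {L : X.Modules} {c : X → X.functionField} (D : Dat L c)

theorem hη (x : X) : genericPoint X ∈ D.U x := gen_mem (D.hU x)

/-- the coefficient of a section at a point -/
def coef {W : X.Opens} (s : Γ(L, W)) (x : X) : Γ(X, W ⊓ D.U x) :=
  (((D.gen x).res (inf_le_right : W ⊓ D.U x ≤ D.U x)).exists_eq (res L inf_le_left s)).choose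

theorem coef_spec {W : X.Opens} (s : Γ(L, W)) (x : X) :
    res L (inf_le_left : W ⊓ D.U x ≤ W) s = D.coef s x • res L inf_le_right (D.e x) :=
  (((D.gen x).res (inf_le_right : W ⊓ D.U x ≤ D.U x)).exists_eq (res L inf_le_left s)).choose_spec

theorem coef_unique {W : X.Opens} (s : Γ(L, W)) (x : X) {a : Γ(X, W ⊓ D.U x)}
    (h : res L (inf_le_left : W ⊓ D.U x ≤ W) s = a • res L inf_le_right (D.e x)) : D.coef s x = a :=
  ((D.gen x).res (inf_le_right : W ⊓ D.U x ≤ D.U x)).ext (by rw [← h, D.coef_spec])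

theorem coef_add {W : X.Opens} (s t : Γ(L, W)) (x : X) : D.coef (s + t) x = D.coef s x + D.coef t x :=
  D.coef_unique _ x (by rw [map_add, D.coef_spec, D.coef_spec, add_smul])

theorem coef_zero {W : X.Opens} (x : X) : D.coef (0 : Γ(L, W)) x = 0 :=
  D.coef_unique _ x (by rw [map_zero, zero_smul])

/-- the value of a section at a point -/
def value {W : X.Opens} (s : Γ(L, W)) (x : W) : X.functionField :=
  ff (W ⊓ D.U x.1) ⟨gen_mem x.2, D.hη x.1⟩ (D.coef s x.1) * c x.1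

theorem value_eq_of {W : X.Opens} (s : Γ(L, W)) (x : W) {V : X.Opens} (hV : V ≤ W ⊓ D.U x.1)
    (hη : genericPoint X ∈ V) {a : Γ(X, V)} (h : res L (hV.trans inf_le_left) s =
      a • res L (hV.trans inf_le_right) (D.e x.1)) : D.value s x = ff V hη a * c x.1 := by
  unfold value
  congr 1
  have h1 := congrArg (res L hV) (D.coef_spec s x.1)
  rw [res_res, res_smul, res_res, h] at h1
  have h2 := ((D.gen x.1).res (hV.trans inf_le_right)).ext h1
  rw [h2, ff_ores]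

theorem value_const {W : X.Opens} (s : Γ(L, W)) (x y : W) : D.value s x = D.value s y := by
  obtain ⟨g, hgη, hg, hc⟩ := D.tr x.1 y.1
  have hη : genericPoint X ∈ W ⊓ (D.U x.1 ⊓ D.U y.1) := ⟨gen_mem x.2, D.hη _, D.hη _⟩
  have k1 : W ⊓ (D.U x.1 ⊓ D.U y.1) ≤ W ⊓ D.U x.1 := inf_le_inf_left _ inf_le_left
  have k2 : W ⊓ (D.U x.1 ⊓ D.U y.1) ≤ W ⊓ D.U y.1 := inf_le_inf_left _ inf_le_right
  have k3 : W ⊓ (D.U x.1 ⊓ D.U y.1) ≤ D.U x.1 ⊓ D.U y.1 := inf_le_right
  have h1 := congrArg (res L k1) (D.coef_spec s x.1)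
  rw [res_res, res_smul, res_res] at h1
  have h2 := congrArg (res L k3) hg
  rw [res_res, res_smul, res_res] at h2
  rw [h2, smul_smul] at h1
  rw [D.value_eq_of s y k2 hη h1, D.value_eq_of s x k1 hη (a := ores k1 (D.coef s x.1)) (by
    have h1 := congrArg (res L k1) (D.coef_spec s x.1)
    rwa [res_res, res_smul, res_res] at h1), map_mul, mul_assoc, ff_ores (g := g), ← hc]

/-- `L → K` on sections -/
def toKFun (W : X.Opens) : Γs (Coh.toAb L) W →+ (KS X).sub W where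
  toFun s := ⟨fun x => D.value (show Γ(L, W) from s) x, fun x y => D.value_const _ x y⟩
  map_zero' := by
    apply Subtype.ext
    funext x
    change D.value (0 : Γ(L, W)) x = 0
    rw [value, coef_zero, map_zero, zero_mul]
  map_add' s t := by
    apply Subtype.ext
    funext x
    change D.value ((show Γ(L, W) from s) + (show Γ(L, W) from t)) x = D.value _ x + D.value _ x
    rw [value, coef_add, map_add, add_mul]
    rfl

theorem value_res {W V : X.Opens} (h : V ≤ W) (s : Γ(L, W)) (x : V) :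
    D.value (res L h s) x = D.value s ⟨x.1, h x.2⟩ := by
  have k : V ⊓ D.U x.1 ≤ W ⊓ D.U x.1 := inf_le_inf_right _ h
  rw [D.value_eq_of (res L h s) x (le_refl _) ⟨gen_mem x.2, D.hη _⟩ (a := ores k (D.coef s x.1)) (by
    have h1 := congrArg (res L k) (D.coef_spec s x.1)
    rw [res_res, res_smul, res_res] at h1
    rw [res_res]
    exact h1), ff_ores]
  rfl

/-- `L → K` -/
def toK : Coh.toAb L ⟶ (KS X).sheaf :=
  (KS X).homTo (X := X.carrier) (Coh.toAb L) (fun W => D.toKFun W)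
    (fun {_ _} h s x => D.value_res h _ x)

theorem val_toK {W : X.Opens} (s : Γs (Coh.toAb L) W) (x : W) :
    ((KS X).val (m D.toK W s)).1 x = D.value (show Γ(L, W) from s) x := rfl

theorem toK_injective (W : X.Opens) : Function.Injective (m D.toK W) := by
  rw [injective_iff_map_eq_zero]
  intro s hs
  refine sep s 0 fun x hx => ⟨W ⊓ D.U x, inf_le_left, ⟨hx, D.hU x⟩, ?_⟩
  have h1 : D.value (show Γ(L, W) from s) ⟨x, hx⟩ = 0 := by
    have h2 : ∀ (a b : (KS X).sub W), a = b → ∀ x, a.1 x = b.1 x := by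
      rintro a _ rfl x
      rfl
    exact h2 _ _ hs ⟨x, hx⟩
  have h2 : D.coef (show Γ(L, W) from s) x = 0 := by
    apply ff_injective (W ⊓ D.U x) ⟨gen_mem hx, D.hη x⟩
    rw [map_zero]
    exact (mul_eq_zero.1 h1).resolve_right (D.h0 x)
  have h3 := D.coef_spec (show Γ(L, W) from s) x
  rw [h2, zero_smul] at h3
  rw [map_zero]
  exact h3

theorem value_mem {W : X.Opens} (s : Γ(L, W)) (x : W) : D.value s x ∈ Mx c x.1 := by
  rw [mem_Mx, value, mul_div_assoc, div_self (D.h0 _), mul_one]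
  exact ⟨W ⊓ D.U x.1, ⟨x.2, D.hU _⟩, _, _, rfl⟩

theorem unitAt_of_mem {x z : X} (hz : z ∈ D.U x) : UnitAt z (c z / c x) := by
  obtain ⟨g, hη, hg, ha⟩ := D.tr x z
  have h1 : UnitAt z (c x / c z) :=
    ⟨D.U x ⊓ D.U z, ⟨hz, D.hU z⟩, hη, g, isUnit_of_gen (D.gen x) (D.gen z) hg, by
      rw [ha, mul_div_assoc, div_self (D.h0 z), mul_one]⟩
  have h2 := unitAt_inv h1
  rwa [inv_div] at h2

include D in
theorem hloc (x : X) : ∃ U : X.Opens, x ∈ U ∧ ∀ y ∈ U, UnitAt y (c x / c y) :=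
  ⟨D.U x, D.hU x, fun y hy => by
    have := unitAt_inv (D.unitAt_of_mem hy)
    rwa [inv_div] at this⟩

/-- A rational function lying in all the fractional ideals `c x O_x`, `x ∈ W`, is a section of `L`. -/
theorem exists_section {W : X.Opens} (f : X.functionField) (hf : ∀ x ∈ W, f ∈ Mx c x) :
    ∃ s : Γ(L, W), ∀ x : W, D.value s x = f := by
  have h1 : ∀ x : W, ∃ a : Γ(X, W ⊓ D.U x.1), ff (W ⊓ D.U x.1) ⟨gen_mem x.2, D.hη _⟩ a = f / c x.1 := by
    intro x
    refine exists_of_regAt _ fun z hz => ?_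
    have h2 : f / c x.1 = f / c z * (c z / c x.1) := by
      have := D.h0 z
      have := D.h0 x.1
      field_simp
    rw [h2]
    exact K801.Cousin.regAt_mul (hf z hz.1) (unitAt_regAt (D.unitAt_of_mem hz.2))
  choose a ha using h1
  obtain ⟨s, hs⟩ := res_glue L (V := W) (fun x : W => W ⊓ D.U x.1) (fun x => inf_le_left)
    (fun x hx => Opens.mem_iSup.mpr ⟨⟨x, hx⟩, ⟨hx, D.hU x⟩⟩)
    (fun x => a x • res L inf_le_right (D.e x.1)) (by
      intro x y
      obtain ⟨g, hgη, hg, hc⟩ := D.tr x.1 y.1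
      have k3 : (W ⊓ D.U x.1) ⊓ (W ⊓ D.U y.1) ≤ D.U x.1 ⊓ D.U y.1 :=
        inf_le_inf inf_le_right inf_le_right
      have hη : genericPoint X ∈ (W ⊓ D.U x.1) ⊓ (W ⊓ D.U y.1) :=
        ⟨⟨gen_mem x.2, D.hη _⟩, ⟨gen_mem x.2, D.hη _⟩⟩
      have h2 := congrArg (res L k3) hg
      rw [res_res, res_smul, res_res] at h2
      simp only [res_smul, res_res]
      rw [h2, smul_smul]
      congr 1
      apply ff_injective _ hη
      rw [map_mul, ff_ores, ff_ores, ff_ores, ha, ha]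
      have e1 : ff (D.U x.1 ⊓ D.U y.1) (k3 hη) g = c x.1 / c y.1 := by
        rw [eq_div_iff (D.h0 _), hc]
      rw [e1]
      have := D.h0 x.1
      have := D.h0 y.1
      field_simp)
  refine ⟨s, fun x => ?_⟩
  rw [D.value_eq_of s x (le_refl _) ⟨gen_mem x.2, D.hη _⟩ (hs x), ha, div_mul_cancel₀ _ (D.h0 _)]

theorem toK_lift (W : X.Opens) (s : Γs (KS X).sheaf W)
    (h : m (toQ D.h0 D.hloc) W s = 0) : ∃ t, m D.toK W t = s := by
  have h1 : ∀ x : W, ((KS X).val s).1 x ∈ Mx c x.1 := by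
    intro x
    have h2 : ∀ (a b : (QS c D.h0 D.hloc).sub W), a = b → ∀ x, a.1 x = b.1 x := by
      rintro a _ rfl x
      rfl
    have h3 := h2 _ _ h x
    rwa [← QuotientAddGroup.eq_zero_iff]
  by_cases hW : ∃ x, x ∈ W
  · obtain ⟨x₀, hx₀⟩ := hW
    obtain ⟨t, ht⟩ := D.exists_section (W := W) (((KS X).val s).1 ⟨x₀, hx₀⟩) (fun x hx => by
      rw [((KS X).val s).2 ⟨x₀, hx₀⟩ ⟨x, hx⟩]
      exact h1 ⟨x, hx⟩)
    refine ⟨(t : Γ(L, W)), ?_⟩
    apply (KS X).sec_ext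
    intro x
    rw [D.val_toK]
    exact (ht x).trans (((KS X).val s).2 _ _)
  · refine ⟨0, ?_⟩
    apply (KS X).sec_ext
    intro x
    exact absurd ⟨x.1, x.2⟩ hW

theorem toK_toQ : D.toK ≫ toQ D.h0 D.hloc = 0 := by
  ext U s
  apply (QS c D.h0 D.hloc).sec_ext (U := U.unop)
  intro x
  change (QuotientAddGroup.mk (D.value (show Γ(L, U.unop) from s) x) : X.functionField ⧸ Mx c x.1) = 0
  rw [QuotientAddGroup.eq_zero_iff]
  exact D.value_mem _ x

/-- `0 → L → K → K/L → 0` -/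
def seq : ShortComplex (CohTop.Ab X.carrier) :=
  ShortComplex.mk D.toK (toQ D.h0 D.hloc) D.toK_toQ

theorem seq_shortExact : D.seq.ShortExact :=
  shortExact_of_sections _ D.toK_injective D.toK_lift (toQ_local D.h0 D.hloc)

instance : TopCat.Sheaf.IsFlasque D.seq.X₂ :=
  inferInstanceAs (TopCat.Sheaf.IsFlasque (KS X).sheaf)

/-- `H^1(X, L) ≃ (K/L)(X) / K` -/
def h1Equiv : Coh.HH X L 1 ≃+ D.seq.X₃.obj.obj (op ⊤) ⧸ (D.seq.g.hom.app (op ⊤)).hom.range :=
  Groth.Agent.MiscA.CurveH1A.h1Equiv D.seq_shortExact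

theorem local_of_sec {t : Γs (QS c D.h0 D.hloc).sheaf ⊤} {a : X → X.functionField}
    (ha : ∀ x, ((QS c D.h0 D.hloc).val t).1 ⟨x, trivial⟩ = QuotientAddGroup.mk (a x)) (x : X) :
    ∃ V : X.Opens, x ∈ V ∧ ∀ y ∈ V, RegAt y ((a x - a y) / c y) := by
  obtain ⟨V, hV, hxV, f, hf⟩ := ((QS c D.h0 D.hloc).val t).2 ⟨x, trivial⟩
  have h1 : ∀ y ∈ V, a y - f ∈ Mx c y := by
    intro y hy
    have h2 := hf ⟨y, hy⟩
    rw [ha] at h2
    rw [← QuotientAddGroup.eq_iff_sub_mem]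
    exact h2
  obtain ⟨W, hxW, hW⟩ := mem_Mx_open D.h0 D.hloc (h1 x hxV)
  refine ⟨V ⊓ W, ⟨hxV, hxW⟩, fun y hy => ?_⟩
  have h3 : a x - a y = (a x - f) - (a y - f) := by ring
  rw [h3]
  exact (Mx c y).sub_mem (hW y hy.2) (h1 y hy.1)

include D in
theorem subsingleton_iff : Subsingleton (Coh.HH X L 1) ↔ Solv c := by
  rw [D.h1Equiv.toEquiv.subsingleton_congr]
  have h1 : Subsingleton (D.seq.X₃.obj.obj (op ⊤) ⧸ (D.seq.g.hom.app (op ⊤)).hom.range) ↔
      Function.Surjective (m (toQ D.h0 D.hloc) ⊤) := by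
    rw [QuotientAddGroup.subsingleton_iff, AddMonoidHom.range_eq_top]
    rfl
  rw [h1]
  constructor
  · intro hs a ha
    let t : Γs (QS c D.h0 D.hloc).sheaf ⊤ := (QS c D.h0 D.hloc).sec
      ⟨fun x => QuotientAddGroup.mk (a x.1), fun x => by
        obtain ⟨V, hxV, hV⟩ := ha x.1
        refine ⟨V, le_top, hxV, a x.1, fun y => ?_⟩
        change (QuotientAddGroup.mk (a y.1) : X.functionField ⧸ Mx c y.1) = QuotientAddGroup.mk (a x.1)
        rw [QuotientAddGroup.eq_iff_sub_mem, ← neg_mem_iff, neg_sub]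
        exact hV y.1 y.2⟩
    obtain ⟨s, hs⟩ := hs t
    refine ⟨((KS X).val s).1 ⟨genericPoint X, trivial⟩, fun x => ?_⟩
    have h2 : ((QS c D.h0 D.hloc).val (m (toQ D.h0 D.hloc) ⊤ s)).1 ⟨x, trivial⟩ =
        ((QS c D.h0 D.hloc).val t).1 ⟨x, trivial⟩ := by rw [hs]
    rw [val_toQ, ((KS X).val s).2 ⟨x, trivial⟩ ⟨genericPoint X, trivial⟩] at h2
    change (QuotientAddGroup.mk _ : X.functionField ⧸ Mx c x) = QuotientAddGroup.mk (a x) at h2
    rw [QuotientAddGroup.eq_iff_sub_mem, ← neg_mem_iff, neg_sub] at h2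
    exact h2
  · intro hS t
    have h2 : ∀ x, ∃ a : X.functionField, ((QS c D.h0 D.hloc).val t).1 ⟨x, trivial⟩ = QuotientAddGroup.mk a :=
      fun x => by
        obtain ⟨a, ha⟩ := QuotientAddGroup.mk_surjective (((QS c D.h0 D.hloc).val t).1 ⟨x, trivial⟩)
        exact ⟨a, ha.symm⟩
    choose a ha using h2
    obtain ⟨b, hb⟩ := hS a (D.local_of_sec ha)
    refine ⟨(KS X).sec ⟨fun _ => b, fun _ _ => rfl⟩, ?_⟩
    apply (QS c D.h0 D.hloc).sec_ext
    intro x
    rw [val_toQ]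
    refine Eq.trans ?_ (ha x.1).symm
    change (QuotientAddGroup.mk b : X.functionField ⧸ Mx c x.1) = QuotientAddGroup.mk (a x.1)
    rw [QuotientAddGroup.eq_iff_sub_mem, ← neg_mem_iff, neg_sub]
    exact hb x.1

end Dat

/-- `H^1(X, L) = 0` iff all Cousin problems for `L` are solvable. -/
theorem subsingleton_iff_solv {L : X.Modules} {c : X → X.functionField} (h : HasCoc L c) :
    Subsingleton (Coh.HH X L 1) ↔ Solv c :=
  (nonempty_dat h).some.subsingleton_iff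

end K801.CousinH1
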