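import Groth.Agent.Surf.K464.Ample
import Groth.Agent.Surf.K465.Hodge2
import Groth.Agent.Surf.K465.Eff
import Groth.Agent.Divis.NormAmple

/-!
# The intersection form `dot`: the Hodge index theorem, big classes

* `ip_dot`: `K465.Ip.ip` is `dot`.
* `hodge`: `a² > 0`, `a·b = 0` imply `b² ≤ 0`.
* `pos_pos`: `p², a², b² > 0`, `p·a, p·b > 0` imply `a·b > 0`.
* `exists_big`: if `M² > 0`, `M·H > 0` then `M^n = A ⊗ O(D_F)`, `A = O(D_A)` ample.
-/

set_option autoImplicit false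
universe u
open CategoryTheory CategoryTheory.Limits AlgebraicGeometry

namespace K801.DotForm

open Groth.Agent Groth.Agent.Grpsch.PicGrp K464.Base K464.Curves Groth.Agent.Dix.IdealModCartier

variable {k : Type u} [Field k] {X : Scheme.{u}} [X.Over (Spec (CommRingCat.of k))]
  [IsProper (X ↘ Spec (CommRingCat.of k))]

theorem ip_dot (hd : topologicalKrullDim X ≤ (2 : ℕ)) (a b : Pic X) :
    K465.Ip.ip k X hd (Additive.ofMul a) (Additive.ofMul b) = dot k X a b := by
  obtain ⟨A, hA, rfl⟩ := exists_mk a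
  obtain ⟨B, hB, rfl⟩ := exists_mk b
  rw [K465.Ip.ip_mk, intNum_eq_dot k X hd hA hB]

variable [IsIntegral X] (hdim : topologicalKrullDim X = 2) {H : X.Modules} (hH : CohB1.IsAmple H)

include hdim hH

/-- The Hodge index theorem. -/
theorem hodge {a b : Pic X} (ha : 0 < dot k X a a) (hab : dot k X a b = 0) : dot k X b b ≤ 0 := by
  obtain ⟨A, hA, rfl⟩ := exists_mk a
  obtain ⟨B, hB, rfl⟩ := exists_mk b
  have h := K465.Hodge2.hodge_pos k hdim.le hdim hH hA hB (by rw [ip_dot]; exact ha) (by rw [ip_dot]; exact hab)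
  rwa [ip_dot] at h

/-- The Hodge inequality. -/
theorem hodge_ineq {a : Pic X} (ha : 0 < dot k X a a) (b : Pic X) :
    dot k X a a * dot k X b b ≤ dot k X a b ^ 2 := by
  have h2 := hdim.le
  have h1 := hodge hdim hH (a := a) (b := b ^ (dot k X a a) * a ^ (- dot k X a b)) ha (by
    rw [dot_mul_right k X h2, dot_zpow_right k X h2, dot_zpow_right k X h2]; ring)
  rw [dot_mul_right k X h2, dot_mul_left k X h2, dot_mul_left k X h2] at h1
  simp only [dot_zpow_right k X h2, dot_zpow_left k X h2] at h1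
  rw [dot_comm k X b a] at h1
  have h3 : dot k X a a * (dot k X a a * dot k X b b - dot k X a b ^ 2) ≤ 0 := by nlinarith
  by_contra h
  push Not at h
  have := mul_pos ha (sub_pos.mpr h)
  linarith

/-- Two classes in the positive cone. -/
theorem pos_pos {p a b : Pic X} (hp : 0 < dot k X p p) (ha : 0 < dot k X a a) (hb : 0 < dot k X b b)
    (hpa : 0 < dot k X p a) (hpb : 0 < dot k X p b) : 0 < dot k X a b := by
  have h2 := hdim.le
  have h1 := hodge hdim hH (a := p) (b := b ^ (dot k X p a) * a ^ (- dot k X p b)) hp (by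
    rw [dot_mul_right k X h2, dot_zpow_right k X h2, dot_zpow_right k X h2]; ring)
  rw [dot_mul_right k X h2, dot_mul_left k X h2, dot_mul_left k X h2] at h1
  simp only [dot_zpow_right k X h2, dot_zpow_left k X h2] at h1
  rw [dot_comm k X b a] at h1
  by_contra h
  push Not at h
  have h3 := mul_pos (mul_pos hpa hpa) hb
  have h4 := mul_pos (mul_pos hpb hpb) ha
  have h5 : 0 ≤ - (dot k X p a * dot k X p b * dot k X a b) := by
    have := mul_nonneg (mul_pos hpa hpb).le (neg_nonneg.mpr h)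
    linarith
  nlinarith

omit [IsIntegral X] in
theorem dot_ample_pos [Nonempty X] : 0 < dot k X (mk H hH.1) (mk H hH.1) := by
  have := K465.Hodge2.ip_ample_pos k hdim.le hdim hH hH
  rwa [ip_dot] at this

theorem exists_section {M : X.Modules} (hM : PicF.IsInvertible M) (h1 : 0 < dot k X (mk M hM) (mk M hM))
    (h2 : 0 ≤ dot k X (mk M hM) (mk H hH.1)) :
    ∃ N : ℕ, ∀ j : ℕ, N ≤ j → ∃ (D : X.IdealSheafData) (hD : BlowUp.IsEffCartierIdeal D),
      mk M hM ^ j = (ic D hD)⁻¹ := by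
  obtain ⟨N, K, hN⟩ := K465.Hodge2.exists_sections k hdim.le hdim hH hM (by rw [ip_dot]; exact h1)
    (by rw [ip_dot]; exact h2)
  refine ⟨N, fun j hj => ?_⟩
  obtain ⟨⟨t, ht⟩, -⟩ := hN j hj
  obtain ⟨D, hD, h⟩ := K465.Eff.exists_eff (Fdesc.LocGen.isInvertible_tensorPow hM j) t ht
  exact ⟨D, hD, by rw [← h, mk_tensorPow hM]⟩

/-- Big classes. -/
theorem exists_big {M : X.Modules} (hM : PicF.IsInvertible M) (h1 : 0 < dot k X (mk M hM) (mk M hM))
    (h2 : 0 < dot k X (mk M hM) (mk H hH.1)) :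
    ∃ (n : ℕ) (A : X.Modules) (hA : CohB1.IsAmple A) (DA DF : X.IdealSheafData)
      (hDA : BlowUp.IsEffCartierIdeal DA) (hDF : BlowUp.IsEffCartierIdeal DF), 1 ≤ n ∧
      mk A hA.1 = (ic DA hDA)⁻¹ ∧ mk M hM ^ n = (ic DA hDA)⁻¹ * (ic DF hDF)⁻¹ := by
  have hd := hdim.le
  have hHH := dot_ample_pos (k := k) hdim hH
  set μ := mk M hM with hμ
  set h := mk H hH.1 with hh
  obtain ⟨c, hc⟩ := Int.eq_ofNat_of_zero_le h2.le
  obtain ⟨e, he⟩ := Int.eq_ofNat_of_zero_le hHH.le
  have hc0 : 0 < c := by rw [hc] at h2; exact_mod_cast h2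
  have he0 : 0 < e := by rw [he] at hHH; exact_mod_cast hHH
  let s : ℕ := 2 * c + e
  obtain ⟨Λ, hΛ, hΛc⟩ := exists_mk (μ ^ s * h⁻¹)
  have k1 : dot k X (mk Λ hΛ) (mk Λ hΛ) = s ^ 2 * dot k X μ μ - 2 * s * c + e := by
    rw [← hΛc, dot_mul_left k X hd, dot_mul_right k X hd, dot_mul_right k X hd]
    simp only [dot_pow_left k X hd, dot_pow_right k X hd, dot_inv_left k X hd, dot_inv_right k X hd]
    rw [dot_comm k X h μ, hc, he]
    push_cast
    ring
  have k2 : dot k X (mk Λ hΛ) h = s * c - e := by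
    rw [← hΛc, dot_mul_left k X hd, dot_pow_left k X hd, dot_inv_left k X hd, hc, he]
    push_cast
    ring
  have hsZ : (s : ℤ) = 2 * c + e := by simp only [s]; push_cast; ring
  have hcZ : (0 : ℤ) < c := by exact_mod_cast hc0
  have heZ : (0 : ℤ) < e := by exact_mod_cast he0
  obtain ⟨N₁, hN₁⟩ := exists_section hdim hH hΛ (by
    rw [k1, hsZ]
    nlinarith [mul_pos hcZ heZ, mul_pos heZ heZ, mul_pos hcZ hcZ,
      mul_le_mul_of_nonneg_left (Int.add_one_le_iff.mpr h1) (sq_nonneg ((2 : ℤ) * c + e))]) (by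
    rw [← hh, k2, hsZ]
    nlinarith [mul_pos hcZ heZ, mul_pos hcZ hcZ])
  obtain ⟨N₂, hN₂⟩ := exists_section hdim hH hH.1 hHH hHH.le
  let r : ℕ := max N₁ N₂ + 1
  obtain ⟨DF, hDF, e1⟩ := hN₁ r (by omega)
  obtain ⟨DA, hDA, e2⟩ := hN₂ r (by omega)
  refine ⟨s * r, CohB1.tensorPow H r, Divis.NormAmple.isAmple_tensorPow hH (by omega), DA, DF, hDA, hDF,
    Nat.mul_pos (by omega) (by omega), ?_, ?_⟩
  · rw [← e2, mk_tensorPow hH.1]
  · rw [← e1, ← e2, ← hΛc, mul_pow, ← pow_mul, inv_pow, mul_comm (μ ^ (s * r)), ← mul_assoc, ← hh, mul_inv_cancel,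
      one_mul]

end K801.DotForm
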