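import Groth.Agent.AdjLin.K801.EvReduced
import Groth.Agent.Ega1.ReducedSub

/-!
# Spreading out: multiplicities `< n`

* `radical_pow_le`: `NFree n D` implies `D.radical ^ (n - 1) ≤ D` (UFD stalks).
* `nfree_of_radical`: the converse for a reduced `J` with `D ≤ J`, `J ^ (n - 1) ≤ D`.
* `ev_nfree`.
* `isEff_comap_of_meets`: on an integral scheme the inverse image of an effective Cartier ideal is effective Cartier
  unless it is zero.
-/

set_option autoImplicit false
universe u
open CategoryTheory CategoryTheory.Limits AlgebraicGeometry Opposite Topology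

namespace K801.EvFree

open K890.Spread K890.Model K890.Generic Groth.Agent K801.Stage K801.EvReduced K801.CharP
open Groth.Agent.Divis.CartierBasic Groth.Agent.Ega4late.H533.DescScheme

theorem radical_pow_le {X : Scheme.{u}} [IsIntegral X] (hufd : ∀ x : X, UniqueFactorizationMonoid (X.presheaf.stalk x))
    {D : X.IdealSheafData} (hD : BlowUp.IsEffCartierIdeal D) {n : ℕ} (hn : 1 ≤ n) (h : NFree n D) :
    D.radical ^ (n - 1) ≤ D := by
  refine le_of_stalkIdeal fun x => ?_
  obtain ⟨U, hx, a, ha, hUa⟩ := hD x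
  have := hufd x
  have h1 : stalkIdeal D x = Ideal.span {X.presheaf.germ U.1 x hx a} := by
    rw [stalkIdeal_eq D U hx, hUa, Ideal.map_span, Set.image_singleton]
  rw [stalkIdeal_pow, stalkIdeal_radical, h1]
  refine K801.NFreeAlg.radical_pow_le ?_ hn (h U a x hx hUa)
  have hne : Nonempty U.1 := ⟨⟨x, hx⟩⟩
  have hinj : Function.Injective (X.presheaf.germ U.1 x hx) := germ_injective_of_isIntegral X x hx
  intro h0
  have h2 : a = 0 := hinj (by rw [h0, map_zero])
  exact nonZeroDivisors.ne_zero ha h2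

theorem nfree_of_radical {X : Scheme.{u}} [IsIntegral X] [IsLocallyNoetherian X] {D J : X.IdealSheafData}
    (hD : BlowUp.IsEffCartierIdeal D) {n : ℕ} (hn : 1 ≤ n) [AlgebraicGeometry.IsReduced J.subscheme] (hDJ : D ≤ J)
    (hle : J ^ (n - 1) ≤ D) : NFree n D := by
  intro U a x hx hUa π hπ
  have h1 : stalkIdeal D x = Ideal.span {X.presheaf.germ U.1 x hx a} := by
    rw [stalkIdeal_eq D U hx, hUa, Ideal.map_span, Set.image_singleton]
  obtain ⟨g, hg, hgx⟩ := exists_stalkIdeal_eq_span hD x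
  have ha0 : X.presheaf.germ U.1 x hx a ≠ 0 := by
    intro h0
    rw [h0] at h1
    rw [h1] at hgx
    have : g ∈ Ideal.span {(0 : X.presheaf.stalk x)} := hgx ▸ Ideal.mem_span_singleton_self g
    rw [Ideal.span_singleton_zero, Ideal.mem_bot] at this
    exact nonZeroDivisors.ne_zero hg this
  have hrad : J.radical = J := by
    rw [← Scheme.IdealSheafData.vanishingIdeal_support]
    exact (K107.Sep.eq_vanishingIdeal J).symm
  have hJ := Groth.Agent.Divis.RadStalk.stalkIdeal_isRadical J hrad x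
  have h2 := stalkIdeal_mono hle x
  rw [stalkIdeal_pow, h1] at h2
  have h3 := stalkIdeal_mono hDJ x
  rw [h1, Ideal.span_singleton_le_iff_mem] at h3
  exact K801.NFreeAlg.not_dvd_of_radical ha0 hn hJ h3 h2 π hπ

theorem pow_comap_le {X Y : Scheme.{u}} (q : Y ⟶ X) (J : X.IdealSheafData) (m : ℕ) :
    (J.comap q) ^ m ≤ (J ^ m).comap q := by
  refine le_of_stalkIdeal fun y => ?_
  rw [stalkIdeal_pow, stalkIdeal_comap, stalkIdeal_comap, stalkIdeal_pow, Ideal.map_pow]

theorem comap_pow_le {X Y : Scheme.{u}} (q : Y ⟶ X) (J : X.IdealSheafData) (m : ℕ) :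
    (J ^ m).comap q ≤ (J.comap q) ^ m := by
  refine le_of_stalkIdeal fun y => ?_
  rw [stalkIdeal_pow, stalkIdeal_comap, stalkIdeal_comap, stalkIdeal_pow, Ideal.map_pow]

theorem isEff_comap_of_meets {X Y : Scheme.{u}} [IsIntegral Y] [IsLocallyNoetherian Y] (q : Y ⟶ X)
    {I : X.IdealSheafData} (hI : BlowUp.IsEffCartierIdeal I) (y : Y) (hy : q y ∉ I.support) :
    BlowUp.IsEffCartierIdeal (I.comap q) := by
  rw [isEffCartierIdeal_iff_stalkIdeal]
  intro z
  obtain ⟨g, hg, hgz⟩ := exists_stalkIdeal_eq_span hI (q z)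
  have h1 : stalkIdeal (I.comap q) z = Ideal.span {(q.stalkMap z).hom g} := by
    rw [stalkIdeal_comap, hgz, Ideal.map_span, Set.image_singleton]
  refine ⟨_, mem_nonZeroDivisors_of_ne_zero fun h0 => ?_, h1⟩
  rw [h0, Ideal.span_singleton_zero] at h1
  have h2 : Y.fromSpecStalk z (⟨⊥, Ideal.isPrime_bot⟩ : PrimeSpectrum (Y.presheaf.stalk z)) ∈ (I.comap q).support := by
    rw [fromSpecStalk_mem_support_iff, h1]
  have h3 : genericPoint Y ∈ (I.comap q).support := by
    have h4 : (genericPoint Y) ⤳ Y.fromSpecStalk z (⟨⊥, Ideal.isPrime_bot⟩ : PrimeSpectrum (Y.presheaf.stalk z)) :=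
      genericPoint_specializes _
    have h5 : Y.fromSpecStalk z (⟨⊥, Ideal.isPrime_bot⟩ : PrimeSpectrum (Y.presheaf.stalk z)) ⤳ genericPoint Y := by
      obtain ⟨w, hw⟩ : ∃ w, Y.fromSpecStalk z w = genericPoint Y := by
        have h6 : genericPoint Y ∈ Set.range (Y.fromSpecStalk z) := by
          rw [Scheme.range_fromSpecStalk]
          exact genericPoint_specializes z
        exact h6
      rw [← hw]
      refine Specializes.map ?_ (Y.fromSpecStalk z).continuous
      exact (PrimeSpectrum.le_iff_specializes _ _).mp bot_le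
    exact h5.mem_closed (I.comap q).support.2 h2
  have h4 : y ∈ (I.comap q).support := (genericPoint_specializes y).mem_closed (I.comap q).support.2 h3
  refine hy ?_
  rw [Scheme.IdealSheafData.support_comap] at h4
  exact h4

section Ev

variable {k : Type u} [Field k] {S : Subalgebra ℤ k} {X X₀ : Scheme.{u}} {f : X ⟶ Spec (CommRingCat.of k)}
  {f₀ : X₀ ⟶ Spec (CommRingCat.of S)} {p : X ⟶ X₀}

/-- Multiplicities `< n` spread out. -/
theorem ev_nfree [LocallyOfFiniteType f₀] [UniversallyClosed f₀] [QuasiCompact f₀]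
    (H : IsPullback p f f₀ (sv S)) (hS : S.FG) [PerfectField k] [IsIntegral X]
    (hufd : ∀ x : X, UniqueFactorizationMonoid (X.presheaf.stalk x)) {n : ℕ} (hn : 1 ≤ n)
    {I₀ J₀ : X₀.IdealSheafData} (hI : BlowUp.IsEffCartierIdeal (I₀.comap p)) (hfree : NFree n (I₀.comap p))
    (hJ : J₀.comap p = (I₀.comap p).radical) :
    Ev S (OnField fun κ _ φ => ∀ (X' : Scheme.{u}) (q : X' ⟶ X₀) (g : X' ⟶ Spec (CommRingCat.of κ)),
      IsPullback q g f₀ (sp φ) → ∀ [IsIntegral X'] [IsLocallyNoetherian X'],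
      BlowUp.IsEffCartierIdeal (I₀.comap q) → NFree n (I₀.comap q)) := by
  have hred : AlgebraicGeometry.IsReduced (J₀.comap p).subscheme := by
    rw [hJ, ← Scheme.IdealSheafData.vanishingIdeal_support]
    exact Groth.Agent.Ega1.ReducedSub.isReduced_subscheme_vanishingIdeal _
  have h1 := ev_reduced H hS J₀
  have h2 := K801.EvIdeal.ev_le H hS I₀ J₀ (by rw [hJ]; exact Scheme.IdealSheafData.le_radical _)
  have h3 := K801.EvIdeal.ev_le H hS (J₀ ^ (n - 1)) I₀ ((comap_pow_le p J₀ (n - 1)).trans (by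
    rw [hJ]
    exact radical_pow_le hufd hI hn hfree))
  have h23 := onField_of_ev (Φ := fun κ _ φ => ∀ (X' : Scheme.{u}) (q : X' ⟶ X₀) (g : X' ⟶ Spec (CommRingCat.of κ)),
      IsPullback q g f₀ (sp φ) → I₀.comap q ≤ J₀.comap q ∧ (J₀ ^ (n - 1)).comap q ≤ I₀.comap q) (h2.and h3)
    fun κ _ φ h X' q g Hq => ⟨h.1 X' q g Hq, h.2 X' q g Hq⟩
  refine (h1.and h23).mono fun T _ φ h κ _ e X' q g Hq _ _ hE => ?_
  have h4 := h.1 κ e X' q g Hq
  have h5 := h.2 κ e X' q g Hq
  exact nfree_of_radical hE hn h5.1 ((pow_comap_le q J₀ (n - 1)).trans h5.2)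

end Ev

end K801.EvFree
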