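import Groth.Agent.AdjLin.K801.StageDesc
import Groth.Agent.Ega4late.H533.DescScheme
import Groth.Agent.Dix.IdealQuot

/-!
# Spreading out properties of ideals

`X₀ → Spec S` a model of `X → Spec k`, `p : X ⟶ X₀`.
* `ev_le`: `K₀.comap p ≤ I₀.comap p` implies `K₀.comap q ≤ I₀.comap q` for general base changes;
* `exists_eff_stage`: if `I₀.comap p` is effective Cartier, so is the inverse image of `I₀` on a localization of `X₀`.
-/

set_option autoImplicit false
universe u
open CategoryTheory CategoryTheory.Limits AlgebraicGeometry Opposite Topology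

namespace K801.EvIdeal

open K890.Spread K890.Model K890.Generic Groth.Agent K801.Stage
open Groth.Agent.Divis.CartierBasic Groth.Agent.Dix.IdealQuot Groth.Agent.Ega4late.H533.DescScheme

section General

variable {X : Scheme.{u}}

theorem stalkIdeal_colon (I K : X.IdealSheafData) (hK : ∀ U, (K.ideal U).FG) (x : X) :
    stalkIdeal (colon I K hK) x = (stalkIdeal I x).colon (stalkIdeal K x : Set (X.presheaf.stalk x)) := by
  obtain ⟨U, hx⟩ := exists_affine x
  let := X.presheaf.algebra_section_stalk (⟨x, hx⟩ : U.1)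
  have := U.2.isLocalization_stalk ⟨x, hx⟩
  rw [stalkIdeal_eq _ U hx, stalkIdeal_eq I U hx, stalkIdeal_eq K U hx, ideal_colon]
  exact map_colon (U.2.primeIdealOf ⟨x, hx⟩).asIdeal.primeCompl (X.presheaf.stalk x) (I.ideal U) (K.ideal U) (hK U)

/-- the open set where `K ≤ I` -/
noncomputable def leLocus (I K : X.IdealSheafData) (hK : ∀ U, (K.ideal U).FG) : X.Opens :=
  ⟨((colon I K hK).support : Set X)ᶜ, (colon I K hK).support.2.isOpen_compl⟩

theorem mem_leLocus (I K : X.IdealSheafData) (hK : ∀ U, (K.ideal U).FG) (x : X) :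
    x ∈ leLocus I K hK ↔ stalkIdeal K x ≤ stalkIdeal I x := by
  change x ∉ (colon I K hK).support ↔ _
  rw [notMem_support_iff_stalkIdeal_eq_top, stalkIdeal_colon, Ideal.eq_top_iff_one, Submodule.mem_colon]
  constructor
  · intro h a ha
    have := h a ha
    rwa [one_smul] at this
  · intro h a ha
    rw [one_smul]
    exact h ha

/-- the open set where `I` is generated by a nonzerodivisor -/
def effLocus (I : X.IdealSheafData) : X.Opens :=
  ⟨{x | ∃ U : X.affineOpens, x ∈ U.1 ∧ ∃ f ∈ nonZeroDivisors Γ(X, U.1), I.ideal U = Ideal.span {f}}, by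
    rw [isOpen_iff_forall_mem_open]
    rintro x ⟨U, hx, f, hf, h⟩
    exact ⟨U.1, fun y hy => ⟨U, hy, f, hf, h⟩, U.1.2, hx⟩⟩

theorem stalk_of_mem_effLocus {I : X.IdealSheafData} {x : X} (hx : x ∈ effLocus I) :
    ∃ g ∈ nonZeroDivisors (X.presheaf.stalk x), stalkIdeal I x = Ideal.span {g} := by
  obtain ⟨U, hxU, f, hf, h⟩ := hx
  let := X.presheaf.algebra_section_stalk (⟨x, hxU⟩ : U.1)
  have := U.2.isLocalization_stalk ⟨x, hxU⟩
  refine ⟨X.presheaf.germ U.1 x hxU f, ?_, ?_⟩
  · exact IsLocalization.map_nonZeroDivisors_le (U.2.primeIdealOf ⟨x, hxU⟩).asIdeal.primeCompl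
      (X.presheaf.stalk x) ⟨f, hf, rfl⟩
  · rw [stalkIdeal_eq I U hxU, h, Ideal.map_span, Set.image_singleton]

theorem mem_effLocus_of_comap {Y : Scheme.{u}} (f : Y ⟶ X) [Flat f] [IsLocallyNoetherian X] {I : X.IdealSheafData}
    (y : Y) (h : ∃ g ∈ nonZeroDivisors (Y.presheaf.stalk y), stalkIdeal (I.comap f) y = Ideal.span {g}) :
    f y ∈ effLocus I := by
  obtain ⟨g, hg, hgx⟩ := h
  rw [stalkIdeal_comap] at hgx
  algebraize [(f.stalkMap y).hom]
  have hfl : Module.Flat (X.presheaf.stalk (f y)) (Y.presheaf.stalk y) := Flat.stalkMap f y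
  have hloc : IsLocalHom (algebraMap (X.presheaf.stalk (f y)) (Y.presheaf.stalk y)) :=
    inferInstanceAs (IsLocalHom (f.stalkMap y).hom)
  have : Module.FaithfullyFlat (X.presheaf.stalk (f y)) (Y.presheaf.stalk y) :=
    Module.FaithfullyFlat.of_flat_of_isLocalHom
  obtain ⟨a, ha, ha'⟩ := exists_generator_of_map _ g hg hgx
  exact exists_generator_of_stalkIdeal I (f y) a ha ha'

end General

variable {k : Type u} [Field k] {S : Subalgebra ℤ k} {X X₀ : Scheme.{u}} {f : X ⟶ Spec (CommRingCat.of k)}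
  {f₀ : X₀ ⟶ Spec (CommRingCat.of S)} {p : X ⟶ X₀}

theorem isLocallyNoetherian_model [LocallyOfFiniteType f₀] (hS : S.FG) : IsLocallyNoetherian X₀ := by
  have hft : Algebra.FiniteType ℤ S := (Subalgebra.fg_iff_finiteType S).mp hS
  have hno : IsNoetherianRing S := Algebra.FiniteType.isNoetherianRing ℤ S
  have : IsLocallyNoetherian (Spec (CommRingCat.of S)) := inferInstance
  exact LocallyOfFiniteType.isLocallyNoetherian f₀

/-- Inclusions of ideals spread out. -/
theorem ev_le [LocallyOfFiniteType f₀] [UniversallyClosed f₀] (H : IsPullback p f f₀ (sv S)) (hS : S.FG)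
    (K₀ I₀ : X₀.IdealSheafData) (h : K₀.comap p ≤ I₀.comap p) :
    Ev S (BC f₀ (fun _ _ _ q _ => K₀.comap q ≤ I₀.comap q)) := by
  have hno := isLocallyNoetherian_model (f₀ := f₀) hS
  have hK : ∀ U, (K₀.ideal U).FG := fun U => fg_of_isLocallyNoetherian K₀ U
  have hfl := isFlat_p S H
  refine (ev_range H hS (leLocus I₀ K₀ hK) fun x => ?_).mono fun T _ φ hT X' q g Hq => ?_
  · rw [mem_leLocus]
    apply le_of_map_stalkMap_le p x
    rw [← stalkIdeal_comap, ← stalkIdeal_comap]
    exact stalkIdeal_mono h x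
  · refine le_of_stalkIdeal fun x' => ?_
    rw [stalkIdeal_comap, stalkIdeal_comap]
    exact Ideal.map_mono ((mem_leLocus _ _ _ _).mp (hT X' q g Hq x'))

/-- Equalities of ideals spread out. -/
theorem ev_eq [LocallyOfFiniteType f₀] [UniversallyClosed f₀] (H : IsPullback p f f₀ (sv S)) (hS : S.FG)
    (K₀ I₀ : X₀.IdealSheafData) (h : K₀.comap p = I₀.comap p) :
    Ev S (BC f₀ (fun _ _ _ q _ => K₀.comap q = I₀.comap q)) :=
  ((ev_le H hS K₀ I₀ h.le).and (ev_le H hS I₀ K₀ h.ge)).mono fun _ _ _ hT X' q g Hq =>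
    le_antisymm (hT.1 X' q g Hq) (hT.2 X' q g Hq)

/-- After a localization the ideal is effective Cartier. -/
theorem exists_eff_stage [LocallyOfFiniteType f₀] [UniversallyClosed f₀] (H : IsPullback p f f₀ (sv S)) (hS : S.FG)
    (I₀ : X₀.IdealSheafData) (h : BlowUp.IsEffCartierIdeal (I₀.comap p)) :
    ∃ (S' : Subalgebra ℤ k) (hle : S ≤ S') (_ : S'.FG), IsOpenImmersion (sp (inc hle)) ∧
      BlowUp.IsEffCartierIdeal (I₀.comap (pullback.fst f₀ (sp (inc hle)))) := by
  have hno := isLocallyNoetherian_model (f₀ := f₀) hS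
  have hfl := isFlat_p S H
  obtain ⟨S', hle, hS', hop, hV⟩ := exists_loc_stage hS (mem_nhds_of_range H (effLocus I₀) fun x =>
    mem_effLocus_of_comap p x (exists_stalkIdeal_eq_span h x))
  refine ⟨S', hle, hS', hop, ?_⟩
  let t := pullback.fst f₀ (sp (inc hle))
  have hno' : IsLocallyNoetherian (pullback f₀ (sp (inc hle))) :=
    isLocallyNoetherian_of_isOpenImmersion t
  rw [isEffCartierIdeal_iff_stalkIdeal]
  intro z
  have h1 : t z ∈ effLocus I₀ := by
    refine hV (pullback.snd f₀ (sp (inc hle)) z) (t z) ?_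
    rw [← Scheme.Hom.comp_apply, pullback.condition, Scheme.Hom.comp_apply]
  obtain ⟨g, hg, hgz⟩ := stalk_of_mem_effLocus h1
  refine ⟨(t.stalkMap z).hom g, ?_, ?_⟩
  · have h2 : Function.Bijective (t.stalkMap z).hom := ConcreteCategory.bijective_of_isIso (t.stalkMap z)
    rw [mem_nonZeroDivisors_iff_right] at hg ⊢
    intro b hb
    obtain ⟨a, rfl⟩ := h2.2 b
    rw [← map_mul] at hb
    rw [hg a (h2.1 (by rw [hb, map_zero])), map_zero]
  · rw [stalkIdeal_comap, hgz, Ideal.map_span, Set.image_singleton]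

end K801.EvIdeal
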