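import Mathlib.RingTheory.UniqueFactorizationDomain.Multiplicity
import Mathlib.RingTheory.UniqueFactorizationDomain.NormalizedFactors
import Mathlib.RingTheory.Ideal.Operations
import Mathlib.RingTheory.Radical.Basic

/-!
# `n`-th power free elements and radical ideals

* `radical_pow_le`: if no `π ^ n` (`π` prime) divides `a` then `(√(a)) ^ (n - 1) ≤ (a)`.
* `not_dvd_of_radical`: conversely, if `J` is a radical ideal containing `a` with `J ^ (n - 1) ≤ (a)`, then no
  `π ^ n` divides `a`.
-/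

set_option autoImplicit false

namespace K801.NFreeAlg

open UniqueFactorizationMonoid

theorem radical_pow_le {R : Type*} [CommRing R] [IsDomain R] [UniqueFactorizationMonoid R] {a : R} (ha : a ≠ 0) {n : ℕ}
    (hn : 1 ≤ n) (h : ∀ π : R, Prime π → ¬ π ^ n ∣ a) : (Ideal.span {a}).radical ^ (n - 1) ≤ Ideal.span {a} := by
  classical
  let _ : StrongNormalizationMonoid R := UniqueFactorizationMonoid.strongNormalizationMonoid
  let r : R := UniqueFactorizationMonoid.radical a
  have hr0 : r ≠ 0 := UniqueFactorizationMonoid.radical_ne_zero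
  have hrs : Squarefree r := UniqueFactorizationMonoid.squarefree_radical
  have hpr : ∀ π : R, Prime π → (π ∣ r ↔ π ∣ a) := fun π hπ =>
    (UniqueFactorizationMonoid.dvd_radical_iff_of_irreducible hπ.irreducible ha)
  have h1 : (Ideal.span {a}).radical ≤ Ideal.span {r} := by
    intro x hx
    obtain ⟨m, hm⟩ := hx
    rw [Ideal.mem_span_singleton] at hm ⊢
    by_cases hx0 : x = 0
    · rw [hx0]; exact dvd_zero _
    rw [UniqueFactorizationMonoid.dvd_iff_emultiplicity_le hr0]
    intro π hπ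
    by_cases hπr : π ∣ r
    · have h2 : emultiplicity π r ≤ 1 := by
        have := (squarefree_iff_emultiplicity_le_one r).mp hrs π
        rcases this with h | h
        · exact h
        · exact absurd h hπ.not_isUnit
      have h3 : π ∣ x := hπ.dvd_of_dvd_pow (((hpr π hπ).mp hπr).trans hm)
      refine h2.trans ?_
      have h4 : π ^ 1 ∣ x := by rwa [pow_one]
      exact_mod_cast le_emultiplicity_of_pow_dvd h4
    · rw [emultiplicity_eq_zero.mpr hπr]
      exact zero_le
  refine (Ideal.pow_right_mono h1 _).trans ?_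
  rw [Ideal.span_singleton_pow, Ideal.span_singleton_le_span_singleton,
    UniqueFactorizationMonoid.dvd_iff_emultiplicity_le ha]
  intro π hπ
  by_cases hπa : π ∣ a
  · have h2 : emultiplicity π a < n := by
      rw [emultiplicity_lt_iff_not_dvd]
      exact h π hπ
    have h3 : emultiplicity π a ≤ ((n - 1 : ℕ) : ℕ∞) := by
      have h5 : ((n - 1 : ℕ) : ℕ∞) + 1 = n := by
        exact_mod_cast Nat.sub_add_cancel hn
      rw [← h5] at h2
      exact Order.lt_add_one_iff_of_not_isMax (by simp) |>.mp h2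
    refine h3.trans ?_
    have h4 : π ^ (n - 1) ∣ r ^ (n - 1) := pow_dvd_pow_of_dvd ((hpr π hπ).mpr hπa) _
    exact le_emultiplicity_of_pow_dvd h4
  · rw [emultiplicity_eq_zero.mpr hπa]
    exact zero_le

theorem not_dvd_of_radical {R : Type*} [CommRing R] [IsDomain R] [WfDvdMonoid R] {a : R} (ha : a ≠ 0) {n : ℕ}
    (hn : 1 ≤ n) {J : Ideal R} (hJ : J.IsRadical) (haJ : a ∈ J) (hle : J ^ (n - 1) ≤ Ideal.span {a}) (π : R)
    (hπ : Prime π) : ¬ π ^ n ∣ a := by
  intro hdvd
  have key : ∀ j ∈ J, π ^ 2 ∣ j := by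
    intro j hj
    have h1 : π ^ n ∣ j ^ (n - 1) :=
      hdvd.trans (Ideal.mem_span_singleton.mp (hle (Ideal.pow_mem_pow hj _)))
    obtain ⟨c, rfl⟩ : π ∣ j := by
      rcases Nat.eq_zero_or_pos (n - 1) with h0 | h0
      · rw [h0, pow_zero] at h1
        exact absurd (isUnit_of_dvd_one ((dvd_pow_self π (by omega)).trans h1)) hπ.not_isUnit
      · exact hπ.dvd_of_dvd_pow ((dvd_pow_self π (by omega)).trans h1)
    rw [mul_pow] at h1
    obtain ⟨m, rfl⟩ : ∃ m, n = m + 1 := ⟨n - 1, by omega⟩
    rw [Nat.add_sub_cancel, pow_succ, mul_dvd_mul_iff_left (pow_ne_zero _ hπ.ne_zero)] at h1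
    rw [pow_two, mul_dvd_mul_iff_left hπ.ne_zero]
    exact hπ.dvd_of_dvd_pow h1
  obtain ⟨e, b, hb, rfl⟩ := WfDvdMonoid.max_power_factor ha hπ.irreducible
  have he : e ≠ 0 := by
    rintro rfl
    rw [pow_zero, one_mul] at hdvd
    exact hb ((dvd_pow_self π (by omega)).trans hdvd)
  have h1 : (π * b) ^ e ∈ J := by
    obtain ⟨e, rfl⟩ := Nat.exists_eq_succ_of_ne_zero he
    have : (π * b) ^ (e + 1) = (π ^ (e + 1) * b) * b ^ e := by ring
    rw [this]
    exact Ideal.mul_mem_right _ _ haJ
  have h2 := key _ (hJ ⟨e, h1⟩)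
  rw [pow_two, mul_dvd_mul_iff_left hπ.ne_zero] at h2
  exact hb h2

end K801.NFreeAlg
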