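import Groth.Agent.AdjLin.K801.EvIdeal
import Groth.Agent.AdjLin.K801.CharP
import Groth.Agent.AdjLin.K801.NFreeAlg
import Groth.Agent.S2535
import Groth.Agent.S0434
import Groth.Agent.FBase.K107.Sep
import Groth.Agent.Divis.RadStalk

/-!
# Spreading out: reduced closed subschemes, multiplicities `< n`

* `ev_reduced`: if the closed subscheme of `J₀.comap p` is reduced (`k` perfect) then so are those of `J₀.comap q` for
  general base changes to fields.
* `nfree_of_stalk`, `stalk_nfree`.
-/

set_option autoImplicit false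
universe u
open CategoryTheory CategoryTheory.Limits AlgebraicGeometry Opposite Topology

namespace K801.EvReduced

open K890.Spread K890.Model K890.Generic Groth.Agent K801.Stage
open Groth.Agent.Divis.CartierBasic

theorem stalkIdeal_radical {X : Scheme.{u}} (I : X.IdealSheafData) (x : X) :
    stalkIdeal I.radical x = (stalkIdeal I x).radical := by
  obtain ⟨U, hx⟩ := exists_affine x
  rw [stalkIdeal_eq _ U hx, stalkIdeal_eq _ U hx]
  let := X.presheaf.algebra_section_stalk (⟨x, hx⟩ : U.1)
  have := U.2.isLocalization_stalk ⟨x, hx⟩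
  exact IsLocalization.map_radical (U.2.primeIdealOf ⟨x, hx⟩).asIdeal.primeCompl
      (X.presheaf.stalk x) (I.ideal U)

/-- The closed subscheme of an inverse image ideal is the inverse image. -/
theorem exists_isPullback_comap {X Y : Scheme.{u}} (q : Y ⟶ X) (J : X.IdealSheafData) :
    ∃ a : (J.comap q).subscheme ⟶ J.subscheme, IsPullback a (J.comap q).subschemeι J.subschemeι q := by
  refine ⟨(J.comapIso q).hom ≫ pullback.snd q J.subschemeι, ?_⟩
  have h := (IsPullback.of_hasPullback q J.subschemeι).flip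
  refine h.of_iso (J.comapIso q).symm (Iso.refl _) (Iso.refl _) (Iso.refl _) ?_ ?_ (by simp) (by simp)
  · rw [Iso.refl_hom, Category.comp_id, Iso.symm_hom, Iso.inv_hom_id_assoc]
  · rw [Iso.refl_hom, Category.comp_id, Iso.symm_hom, Scheme.IdealSheafData.comapIso_inv_subschemeι]

variable {k : Type u} [Field k] {S : Subalgebra ℤ k} {X X₀ : Scheme.{u}} {f : X ⟶ Spec (CommRingCat.of k)}
  {f₀ : X₀ ⟶ Spec (CommRingCat.of S)} {p : X ⟶ X₀}

theorem geometricallyReduced_generic {Z Z₀ : Scheme.{u}} {h : Z ⟶ Spec (CommRingCat.of k)}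
    {h₀ : Z₀ ⟶ Spec (CommRingCat.of S)} {r : Z ⟶ Z₀} (H : IsPullback r h h₀ (sv S)) [PerfectField k]
    [AlgebraicGeometry.IsReduced Z] :
    GeometricallyReduced (h₀.fiberToSpecResidueField (genericPoint (Spec (CommRingCat.of S)))) := by
  obtain ⟨⟨y', ψ⟩, hy⟩ := (Scheme.SpecToEquivOfField k (Spec (CommRingCat.of S))).symm.surjective (sv S)
  have hy' : y' = genericPoint (Spec (CommRingCat.of S)) := by
    rw [← sv_apply S (IsLocalRing.closedPoint k), ← hy]
    simp [Scheme.SpecToEquivOfField]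
  subst hy'
  have hy2 : Spec.map ψ ≫ (Spec (CommRingCat.of S)).fromSpecResidueField _ = sv S := by
    rw [← hy]
    simp [Scheme.SpecToEquivOfField]
  let _ : Algebra ((Spec (CommRingCat.of S)).residueField (genericPoint (Spec (CommRingCat.of S)))) k := ψ.hom.toAlgebra
  let g : h₀.fiber (genericPoint (Spec (CommRingCat.of S))) ⟶
      Spec (CommRingCat.of ((Spec (CommRingCat.of S)).residueField (genericPoint (Spec (CommRingCat.of S))))) :=
    h₀.fiberToSpecResidueField (genericPoint (Spec (CommRingCat.of S)))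
  let b : Spec (CommRingCat.of k) ⟶
      Spec (CommRingCat.of ((Spec (CommRingCat.of S)).residueField (genericPoint (Spec (CommRingCat.of S))))) :=
    Spec.map ψ
  have h1 : IsPullback (pullback.fst g b) (pullback.snd g b) g b := IsPullback.of_hasPullback g b
  have h2 : IsPullback (pullback.fst g b ≫ pullback.fst h₀ _) (pullback.snd g b) h₀
      (b ≫ (Spec (CommRingCat.of S)).fromSpecResidueField (genericPoint (Spec (CommRingCat.of S)))) :=
    h1.paste_horiz (IsPullback.of_hasPullback h₀
      ((Spec (CommRingCat.of S)).fromSpecResidueField (genericPoint (Spec (CommRingCat.of S)))))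
  have h3 : b ≫ (Spec (CommRingCat.of S)).fromSpecResidueField (genericPoint (Spec (CommRingCat.of S))) = sv S := hy2
  rw [h3] at h2
  have e : pullback g b ≅ Z := h2.isoIsPullback _ _ H
  have : AlgebraicGeometry.IsReduced (FBase.bc g k) := isReduced_of_isOpenImmersion e.hom
  exact Groth.Agent.S2535.result (k := (Spec (CommRingCat.of S)).residueField (genericPoint (Spec (CommRingCat.of S))))
    (Ω := k) g


theorem isPullback_sub {T : Type u} [CommRing T] {φ : S →+* T} {X' : Scheme.{u}} {q : X' ⟶ X₀}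
    {g : X' ⟶ Spec (CommRingCat.of T)} (Hq : IsPullback q g f₀ (sp φ)) (J₀ : X₀.IdealSheafData) :
    ∃ a : (J₀.comap q).subscheme ⟶ J₀.subscheme,
      IsPullback a ((J₀.comap q).subschemeι ≫ g) (J₀.subschemeι ≫ f₀) (sp φ) := by
  obtain ⟨a, ha⟩ := exists_isPullback_comap q J₀
  exact ⟨a, ha.paste_vert Hq⟩

/-- Reducedness of closed subschemes spreads out. -/
theorem ev_reduced [LocallyOfFiniteType f₀] [QuasiCompact f₀] (H : IsPullback p f f₀ (sv S)) (hS : S.FG)
    [PerfectField k] (J₀ : X₀.IdealSheafData) [hr : AlgebraicGeometry.IsReduced (J₀.comap p).subscheme] :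
    Ev S (OnField fun κ _ φ => ∀ (X' : Scheme.{u}) (q : X' ⟶ X₀) (g : X' ⟶ Spec (CommRingCat.of κ)),
      IsPullback q g f₀ (sp φ) → AlgebraicGeometry.IsReduced (J₀.comap q).subscheme) := by
  have hno : IsLocallyNoetherian X₀ := K801.EvIdeal.isLocallyNoetherian_model (f₀ := f₀) hS
  obtain ⟨a, ha⟩ := exists_isPullback_comap p J₀
  have ha' : IsPullback a ((J₀.comap p).subschemeι ≫ f) (J₀.subschemeι ≫ f₀) (sv S) := ha.paste_vert H
  have h1 := geometricallyReduced_generic ha'
  obtain ⟨V, hV, hgr⟩ := Groth.Agent.S0434.result (J₀.subschemeι ≫ f₀) h1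
  have hη : genericPoint (Spec (CommRingCat.of S)) ∈ V := by
    obtain ⟨y, hy⟩ := hV
    exact (genericPoint_specializes y).mem_open V.2 hy
  refine onField_of_ev (ev_of_nhds hS (V.2.mem_nhds hη)) fun κ _ φ h X' q g Hq => ?_
  obtain ⟨b, hb⟩ := isPullback_sub Hq J₀
  let l : Spec (CommRingCat.of κ) ⟶ V := IsOpenImmersion.lift V.ι (sp φ) (by
    rintro _ ⟨y, rfl⟩
    rw [Scheme.Opens.range_ι]
    exact h y)
  have hl : l ≫ V.ι = sp φ := IsOpenImmersion.lift_fac _ _ _
  have h2 := (isPullback_morphismRestrict (J₀.subschemeι ≫ f₀) V).flip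
  let b' : (J₀.comap q).subscheme ⟶ ↑((J₀.subschemeι ≫ f₀) ⁻¹ᵁ V) := h2.lift b (((J₀.comap q).subschemeι ≫ g) ≫ l) (by
    rw [Category.assoc, hl, hb.w])
  have h3 : IsPullback b' ((J₀.comap q).subschemeι ≫ g) ((J₀.subschemeι ≫ f₀) ∣_ V) l := by
    refine IsPullback.of_right ?_ (h2.lift_snd _ _ _) h2
    rw [hl, h2.lift_fst]
    exact hb
  exact hgr.geometrically_isReduced l b' _ h3

end K801.EvReduced
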