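import Groth.Agent.AdjLin.K801.Reider
import Groth.Agent.AdjLin.K801.Bridge
import Groth.Agent.Pi1C.ZeroScheme

/-!
# Translation of the hypotheses of the frozen statements
-/

set_option autoImplicit false
universe u
open CategoryTheory CategoryTheory.Limits AlgebraicGeometry TopologicalSpace

namespace K801.Stmt

open Groth.Agent Groth.Agent.Grpsch.PicGrp K464.Base K464.Curves

variable (k : Type u) [Field k] {X : Scheme.{u}} [X.Over (Spec (CommRingCat.of k))]
  [IsProper (X ↘ Spec (CommRingCat.of k))]

theorem isIntegral (X : Scheme.{u}) [X.Over (Spec (CommRingCat.of k))]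
    [IsProper (X ↘ Spec (CommRingCat.of k))] [Smooth (X ↘ Spec (CommRingCat.of k))] [IrreducibleSpace X] :
    IsIntegral X := by
  have : IsNoetherian X := Fga.IntAdd.isNoetherian k X
  exact K455.RelDim.isIntegral_of_regular (fun x => S1535.result k X x)

theorem nef (hdim : topologicalKrullDim X = 2) {L : X.Modules} (hL : PicF.IsInvertible L)
    (hnef : (∀ (C : Scheme.{u}) (i : C ⟶ X) [IsClosedImmersion i], IsIntegral C → topologicalKrullDim C = 1 →
      0 ≤ Pic13.curveDeg k (i ≫ (X ↘ (Spec (CommRingCat.of k)))) ((Scheme.Modules.pullback i).obj L)))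
    (D : X.IdealSheafData) (hD : IsCurve D) : 0 ≤ degOn k X D (mk L hL) := by
  have hC : topologicalKrullDim D.subscheme = 1 := (dim_sub X D).trans hD.dim
  have h := hnef D.subscheme D.subschemeι hD.integral hC
  rwa [K801.Bridge.curveDeg_eq k hdim.le D.subschemeι hC hL, ker_subschemeι] at h

variable {k}

theorem mk_inv {L Linv : X.Modules} (hL : PicF.IsInvertible L) (hLinv : ClSub.IsInverseOf Linv L)
    (h : PicF.IsInvertible Linv) : mk Linv h = (mk L hL)⁻¹ := by
  rw [eq_inv_iff_mul_eq_one, mk_mul_mk, mk_eq_one_iff]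
  exact hLinv

theorem intNum_inv_inv (hdim : topologicalKrullDim X = 2) {L Linv : X.Modules} (hL : PicF.IsInvertible L)
    (hLinv : ClSub.IsInverseOf Linv L) :
    FGA.intNum k X 2 ![Linv, Linv] (Coh.structureModule X) = dot k X (mk L hL) (mk L hL) := by
  have h := (Dix.IdealModCartier.isInvertible_of_isInverseOf hLinv).1
  rw [intNum_eq_dot k X hdim.le h h, mk_inv hL hLinv h, dot_inv_inv k X hdim.le]

theorem fin2 {α : Type*} (a : α) : (fun _ : Fin 2 => a) = ![a, a] := by
  funext i
  fin_cases i <;> rfl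

theorem intNum_inv_inv' (hdim : topologicalKrullDim X = 2) {L Linv : X.Modules} (hL : PicF.IsInvertible L)
    (hLinv : ClSub.IsInverseOf Linv L) :
    FGA.intNum k X 2 (fun _ : Fin 2 => Linv) (Coh.structureModule X) = dot k X (mk L hL) (mk L hL) := by
  rw [fin2]
  exact intNum_inv_inv hdim hL hLinv

theorem intNum_inv_ic (hdim : topologicalKrullDim X = 2) {L Linv : X.Modules} (hL : PicF.IsInvertible L)
    (hLinv : ClSub.IsInverseOf Linv L) {D : X.IdealSheafData} (hD : BlowUp.IsEffCartierIdeal D) :
    FGA.intNum k X 2 ![Linv, ClSub.idealMod D] (Coh.structureModule X) = - dot k X (mk L hL) (ic D hD) := by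
  have h := (Dix.IdealModCartier.isInvertible_of_isInverseOf hLinv).1
  rw [intNum_eq_dot k X hdim.le h (Dix.IdealModCartier.isInvertible_idealMod hD), mk_inv hL hLinv h,
    dot_inv_left k X hdim.le]
  rfl

theorem intNum_ic_inv (hdim : topologicalKrullDim X = 2) {L Linv : X.Modules} (hL : PicF.IsInvertible L)
    (hLinv : ClSub.IsInverseOf Linv L) {D : X.IdealSheafData} (hD : BlowUp.IsEffCartierIdeal D) :
    FGA.intNum k X 2 ![ClSub.idealMod D, Linv] (Coh.structureModule X) = - dot k X (ic D hD) (mk L hL) := by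
  have h := (Dix.IdealModCartier.isInvertible_of_isInverseOf hLinv).1
  rw [intNum_eq_dot k X hdim.le (Dix.IdealModCartier.isInvertible_idealMod hD) h, mk_inv hL hLinv h,
    dot_inv_right k X hdim.le]
  rfl

theorem intNum_ic_ic (hdim : topologicalKrullDim X = 2) {D : X.IdealSheafData} (hD : BlowUp.IsEffCartierIdeal D) :
    FGA.intNum k X 2 ![ClSub.idealMod D, ClSub.idealMod D] (Coh.structureModule X) =
      dot k X (ic D hD) (ic D hD) :=
  intNum_eq_dot k X hdim.le (Dix.IdealModCartier.isInvertible_idealMod hD)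
    (Dix.IdealModCartier.isInvertible_idealMod hD)

theorem intNum_mixed (hdim : topologicalKrullDim X = 2) {L Linv H Hinv : X.Modules} (hL : PicF.IsInvertible L)
    (hLinv : ClSub.IsInverseOf Linv L) (hH : PicF.IsInvertible H) (hHinv : ClSub.IsInverseOf Hinv H) :
    FGA.intNum k X 2 ![Linv, Hinv] (Coh.structureModule X) = dot k X (mk L hL) (mk H hH) := by
  have h := (Dix.IdealModCartier.isInvertible_of_isInverseOf hLinv).1
  have h' := (Dix.IdealModCartier.isInvertible_of_isInverseOf hHinv).1
  rw [intNum_eq_dot k X hdim.le h h', mk_inv hL hLinv h, mk_inv hH hHinv h', dot_inv_inv k X hdim.le]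

end K801.Stmt
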