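import Groth.Agent.AdjLin.K801.NefBig
import Groth.Agent.AdjLin.K801.Stmt
import Groth.Agent.CurvesB.HZero

/-!
# Vanishing with a floor disjoint from a divisor

`Y` a smooth projective surface in characteristic zero, `l = [F]` nef and big, `E` an effective divisor with
`l^m = O(q E + J)`, `r m < q`, and each curve `C_i` in `J` either has `r w_i < q` or is disjoint from `E`. Then
`H^1(Y, (F(-rE))^{-1}) = 0`.
-/

set_option autoImplicit false
universe u
open CategoryTheory CategoryTheory.Limits AlgebraicGeometry TopologicalSpace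

namespace K801.Floor

set_option linter.unusedSectionVars false

open Groth.Agent Groth.Agent.Grpsch.PicGrp K464.Base K464.Curves K464.DivLat K801.DotForm K801.Bridge
  Groth.Agent.Dix.IdealModCartier Groth.Agent.Divis.EffCartier K458.Ram

/-- An invertible module with sections is the inverse of an effective ideal. -/
theorem exists_eff_of_hasSec {X : Scheme.{u}} [IsIntegral X] {M : X.Modules} (hM : PicF.IsInvertible M)
    (h : HasSec M) : ∃ (D : X.IdealSheafData) (hD : BlowUp.IsEffCartierIdeal D), mk M hM = (ic D hD)⁻¹ := by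
  have : Nontrivial (Coh.HH X M 0) := h
  obtain ⟨a, ha⟩ := exists_ne (0 : Coh.HH X M 0)
  refine K465.Eff.exists_eff' hM (CurvesB.HZero.equivAdd M a) fun h0 => ha ?_
  exact (AddEquiv.map_eq_zero_iff (CurvesB.HZero.equivAdd M)).1 h0

/-- Modules with the same class on the closed subscheme `N`. -/
theorem hasSec_quotMod_congr {X : Scheme.{u}} (N : X.IdealSheafData) {A B : X.Modules} (hA : PicF.IsInvertible A)
    (hB : PicF.IsInvertible B) (h : pull N.subschemeι (mk A hA) = pull N.subschemeι (mk B hB))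
    (hs : HasSec (CohB1.tensorMod A (ClSub.quotMod N))) : HasSec (CohB1.tensorMod B (ClSub.quotMod N)) := by
  obtain ⟨eA⟩ := nonempty_iso_push X N hA
  obtain ⟨eB⟩ := nonempty_iso_push X N hB
  rw [pull_mk, pull_mk, mk_eq_iff] at h
  obtain ⟨e⟩ := h
  exact hs.of_iso (Ega2.Tens.swap _ _ ≪≫ eA ≪≫ (Scheme.Modules.pushforward N.subschemeι).mapIso e ≪≫ eB.symm ≪≫
    Ega2.Tens.swap _ _)

/-- An effective divisor disjoint from `N` is trivial on `N`. -/
theorem pull_ic_eq_one {X : Scheme.{u}} {N E : X.IdealSheafData} (hE : BlowUp.IsEffCartierIdeal E)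
    (h : Disjoint (N.support : Set X) E.support) : pull N.subschemeι (ic E hE) = 1 := by
  have h1 := nonempty_pullback_idealMod N.subschemeι hE (fun y hy => by
    refine Set.disjoint_left.1 h ?_ hy
    rw [← Scheme.IdealSheafData.range_subschemeι]
    exact ⟨y, rfl⟩)
  change pull N.subschemeι (mk (ClSub.idealMod E) _) = 1
  rw [pull_mk, mk_eq_one_iff]
  exact h1

variable {k : Type u} [Field k] [IsAlgClosed k] [CharZero k] {X : Scheme.{u}} [X.Over (Spec (CommRingCat.of k))]
  [IsProper (X ↘ Spec (CommRingCat.of k))] [Smooth (X ↘ Spec (CommRingCat.of k))] [IsIntegral X]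
  (hdim : topologicalKrullDim X = 2) {H : X.Modules} (hH : CohB1.IsAmple H)

include hdim hH

/-- Ramanujam vanishing. -/
theorem h1_nefBig {F F' : X.Modules} (hF : PicF.IsInvertible F) (hF' : ClSub.IsInverseOf F' F)
    (hnef : ∀ C : X.IdealSheafData, IsCurve C → 0 ≤ degOn k X C (mk F hF))
    (hbig : 0 < dot k X (mk F hF) (mk F hF)) : Subsingleton (Coh.HH X F' 1) := by
  have h1 : mk F hF ^ 1 * ic (⊤ : X.IdealSheafData) isEff_top = mk F hF := by rw [ic_top, pow_one, mul_one]
  refine K801.NefBig.main' (k := k) hdim hH hF hF' le_rfl (D := ⊤) isEff_top (fun C hC j hj => ?_) ?_ ?_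
  · by_contra hcon
    have hj1 : j ≠ 0 := by omega
    obtain ⟨j, rfl⟩ := Nat.exists_eq_succ_of_ne_zero hj1
    have h2 : (⊤ : X.IdealSheafData) ≤ C := hj.trans (by rw [pow_succ]; exact mul_le_right' _ _)
    have h3 := (le_iff_gp_mem hC _).1 h2
    rw [Scheme.IdealSheafData.support_top] at h3
    exact Set.notMem_empty _ h3
  · rw [h1]; exact hnef
  · rw [h1]; exact hbig

theorem main {F M M' : X.Modules} (hF : PicF.IsInvertible F) (hM : PicF.IsInvertible M)
    (hM' : ClSub.IsInverseOf M' M)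
    (hnef : ∀ C : X.IdealSheafData, IsCurve C → 0 ≤ degOn k X C (mk F hF))
    (hbig : 0 < dot k X (mk F hF) (mk F hF)) {E J : X.IdealSheafData} (hE : BlowUp.IsEffCartierIdeal E)
    (hJ : BlowUp.IsEffCartierIdeal J) {r m q : ℕ} (hq : r * m < q)
    (hmJ : mk F hF ^ m * (ic E hE ^ q * ic J hJ) = 1) (hcl : mk M hM = mk F hF * ic E hE ^ r)
    (hJE : ∀ C : X.IdealSheafData, IsCurve C → ∀ j : ℕ, J ≤ C ^ j →
      r * j < q ∨ Disjoint (C.support : Set X) E.support) : Subsingleton (Coh.HH X M' 1) := by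
  have hNoe : IsNoetherian X := Fga.IntAdd.isNoetherian k X
  have h2 := hdim.le
  set l := mk F hF with hl
  set e := ic E hE with he
  have hq0 : 0 < q := by omega
  obtain ⟨n, C, w, hC, hinj, -, hJc⟩ := K464.Comp.exists_eq_cyc k (X ↘ Spec (CommRingCat.of k)) hdim
    (K801.BlowY.regular (k := k)) J hJ
  have hEC : ∀ i, BlowUp.IsEffCartierIdeal (C i) := fun i => isEff_of_smooth k hdim (hC i)
  have hJi : ∀ i, J ≤ C i ^ w i := fun i => by
    classical
    have h1 : cyc C (w i • (Pi.single i 1 : Fin n → ℕ)) = C i ^ w i := by rw [cyc_nsmul, cyc_single]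
    rw [hJc, ← h1]
    refine cyc_antitone (C := C) ?_
    intro j
    by_cases h : j = i
    · subst h; simp
    · simp [h]
  set v : Fin n → ℕ := fun i => r * w i / q with hv
  set ρ : Fin n → ℕ := fun i => r * w i % q with hρ
  have hvρ : q • v + ρ = r • w := by
    funext i
    simp only [hv, hρ, Pi.add_apply, Pi.smul_apply, smul_eq_mul]
    exact Nat.div_add_mod _ _
  set N := cyc C v with hN
  have hNe : BlowUp.IsEffCartierIdeal N := isEff_cyc hEC v
  -- the classes
  have hcN : ic N hNe = ic (cyc C v) (isEff_cyc hEC v) := rfl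
  have hvz : ic N hNe ^ q * ic (cyc C ρ) (isEff_cyc hEC ρ) = ic J hJ ^ r := by
    have h1 : K801.ZarKV.z hEC (q • v + ρ) = K801.ZarKV.z hEC (r • w) := by rw [hvρ]
    rw [K801.ZarKV.z_add, K801.ZarKV.z_nsmul, K801.ZarKV.z_nsmul] at h1
    rw [ic_congr hJ (isEff_cyc hEC w) hJc]
    exact h1
  -- the module `G = M(-N)`
  have hGi : PicF.IsInvertible (CohB1.tensorMod M (ClSub.idealMod N)) :=
    Fdesc.LocGen.isInvertible_tensorMod hM (isInvertible_idealMod hNe)
  have hGc : mk _ hGi = l * e ^ r * ic N hNe := by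
    rw [← hcl, ← mk_mul_mk hM (isInvertible_idealMod hNe)]
    rfl
  obtain ⟨G', hG'i, hG'⟩ := K890.Polarized.exists_inverse hGi
  have hkey : mk _ hGi ^ q * ic (cyc C ρ) (isEff_cyc hEC ρ) = l ^ (q - r * m) := by
    have h3 : l ^ q = l ^ (q - r * m) * (l ^ m) ^ r := by
      rw [← pow_mul, ← pow_add]
      congr 1
      rw [mul_comm m r]
      omega
    have h4 : (l ^ m) ^ r * ((e ^ q) ^ r * ic J hJ ^ r) = 1 := by
      rw [← mul_pow, ← mul_pow, hmJ, one_pow]
    rw [hGc, mul_pow, mul_pow, mul_assoc, hvz, ← pow_mul, mul_comm r q, pow_mul, h3, mul_assoc, mul_assoc, h4, mul_one]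
  have hH1G : Subsingleton (Coh.HH X G' 1) := by
    refine K801.NefBig.main (k := k) hdim hH hGi hG' hq0 hC hinj hEC (v := ρ) (fun i => Nat.mod_lt _ hq0) (fun B hB => ?_) ?_
    · rw [hkey, degOn_pow k hB]
      exact mul_nonneg (by positivity) (hnef B hB)
    · rw [hkey, dot_pow_left k X h2, dot_pow_right k X h2]
      have : 0 < q - r * m := by omega
      positivity
  -- the module `P = F⁻¹(N)`
  obtain ⟨F', hF'i, hF'⟩ := K890.Polarized.exists_inverse hF
  obtain ⟨P, hP, hPc⟩ := exists_mk (l⁻¹ * (ic N hNe)⁻¹)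
  have hH1F := h1_nefBig hdim hH hF hF' hnef hbig
  have hPN : Nonempty (F' ≅ CohB1.tensorMod P (ClSub.idealMod N)) := by
    rw [← mk_eq_iff hF'i (Fdesc.LocGen.isInvertible_tensorMod hP (isInvertible_idealMod hNe)),
      ← mk_mul_mk hP (isInvertible_idealMod hNe), K801.Stmt.mk_inv hF hF' hF'i, ← hPc]
    change _ = l⁻¹ * (ic N hNe)⁻¹ * ic N hNe
    rw [mul_assoc, inv_mul_cancel, mul_one]
  -- numerics
  have hle : ∀ i, 0 ≤ degOn k X (C i) l := fun i => hnef (C i) (hC i)
  have hNl : dot k X (ic N hNe) l = - ∑ i, (v i : ℤ) * degOn k X (C i) l := by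
    rw [hcN, dot_cyc_left k hEC h2, ← Finset.sum_neg_distrib]
    refine Finset.sum_congr rfl fun i _ => ?_
    rw [dot_ic_eq]
    ring
  have hJl : dot k X (ic J hJ) l = - ∑ i, (w i : ℤ) * degOn k X (C i) l := by
    rw [ic_congr hJ (isEff_cyc hEC w) hJc, dot_cyc_left k hEC h2, ← Finset.sum_neg_distrib]
    refine Finset.sum_congr rfl fun i _ => ?_
    rw [dot_ic_eq]
    ring
  have hel : dot k X e l ≤ 0 := by
    rw [he, dot_ic_eq]
    have := K464.Comp.degOn_nonneg_of_forall k hdim hnef hE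
    linarith
  have hsum : (q : ℤ) * ∑ i, (v i : ℤ) * degOn k X (C i) l ≤ r * ∑ i, (w i : ℤ) * degOn k X (C i) l := by
    rw [Finset.mul_sum, Finset.mul_sum]
    refine Finset.sum_le_sum fun i _ => ?_
    rw [← mul_assoc, ← mul_assoc]
    refine mul_le_mul_of_nonneg_right ?_ (hle i)
    have := Nat.div_add_mod (r * w i) q
    have h3 : q * (r * w i / q) ≤ r * w i := Nat.mul_div_le _ _
    exact_mod_cast h3
  have hml : (m : ℤ) * dot k X l l + (q * dot k X e l + dot k X (ic J hJ) l) = 0 := by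
    have h3 : dot k X (l ^ m * (e ^ q * ic J hJ)) l = 0 := by rw [hmJ, dot_one_left]
    rw [dot_mul_left k X h2, dot_mul_left k X h2, dot_pow_left k X h2, dot_pow_left k X h2] at h3
    exact h3
  have hNlt : ∑ i, (v i : ℤ) * degOn k X (C i) l < dot k X l l := by
    have hq' : (0 : ℤ) < q := by exact_mod_cast hq0
    have hrm : ((r * m : ℕ) : ℤ) < q := by exact_mod_cast hq
    push_cast at hrm
    have h3 : ∑ i, (w i : ℤ) * degOn k X (C i) l ≤ m * dot k X l l := by
      rw [hJl] at hml
      have : (q : ℤ) * dot k X e l ≤ 0 := mul_nonpos_of_nonneg_of_nonpos hq'.le hel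
      linarith
    have h4 : (q : ℤ) * ∑ i, (v i : ℤ) * degOn k X (C i) l ≤ r * (m * dot k X l l) :=
      hsum.trans (mul_le_mul_of_nonneg_left h3 (by positivity))
    have h5 : (r : ℤ) * (m * dot k X l l) < q * dot k X l l := by
      rw [← mul_assoc]
      exact mul_lt_mul_of_pos_right hrm hbig
    exact lt_of_mul_lt_mul_left (h4.trans_lt h5) hq'.le
  have hnoP : ¬ HasSec P := fun hs => by
    obtain ⟨V, hV, hVc⟩ := exists_eff_of_hasSec hP hs
    have h3 : l * ic N hNe = ic V hV := by
      rw [← inv_inj, ← hVc, ← hPc, mul_inv]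
    have h4 : dot k X (l * ic N hNe) l ≤ 0 := by
      rw [h3, dot_ic_eq]
      have := K464.Comp.degOn_nonneg_of_forall k hdim hnef hV
      linarith
    rw [dot_mul_left k X h2, hNl] at h4
    linarith
  have hnoPN : ¬ HasSec (CohB1.tensorMod P (ClSub.quotMod N)) := fun hs => by
    have hS := Fga.TwistCoh.shortExact_tensorBi hP _ (VarietyB.RestrSeq.idealSeq_shortExact N)
    have h0 : Subsingleton (Coh.HH X (CohB1.tensorMod P (Coh.structureModule X)) 0) :=
      not_nontrivial_iff_subsingleton.mp fun h => hnoP (HasSec.of_iso (Ega2.Tens.runit P) h)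
    obtain ⟨ePN⟩ := hPN
    have h1 : Subsingleton (Coh.HH X (CohB1.tensorMod P (ClSub.idealMod N)) 1) :=
      Fga.HShift.subsingleton_of_iso ePN 1 hH1F
    have h3 : Subsingleton (Coh.HH X (CohB1.tensorMod P (ClSub.quotMod N)) 0) := by
      have key : ∀ y : Coh.HH X (CohB1.tensorMod P (ClSub.quotMod N)) 0, y = 0 := by
        intro y
        obtain ⟨w, hw⟩ := CohqB.HSeqMod.exact₃ hS 0 y (Subsingleton.elim (α :=
          Coh.HH X (CohB1.tensorMod P (ClSub.idealMod N)) 1) _ _)
        exact (hw.symm.trans (congrArg _ (Subsingleton.elim (α :=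
          Coh.HH X (CohB1.tensorMod P (Coh.structureModule X)) 0) w 0))).trans (map_zero _)
      exact ⟨fun a b => by rw [key a, key b]⟩
    exact (not_nontrivial_iff_subsingleton.mpr h3) hs
  -- comparison on `N`
  have hdisj : Disjoint (N.support : Set X) E.support := by
    classical
    rw [Set.disjoint_left]
    intro y hy hyE
    have h3 : cyc (fun i => if v i = 0 then ⊤ else C i) v = N := by
      rw [hN]
      refine Finset.prod_congr rfl fun i _ => ?_
      by_cases h : v i = 0
      · simp [h]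
      · simp [h]
    rw [← h3] at hy
    obtain ⟨i, hi⟩ := Set.mem_iUnion.1 (support_cyc_subset _ hy)
    by_cases h : v i = 0
    · rw [if_pos h, Scheme.IdealSheafData.support_top] at hi
      exact hi
    · rw [if_neg h] at hi
      rcases hJE (C i) (hC i) (w i) (hJi i) with h4 | h4
      · exact h (Nat.div_eq_of_lt h4)
      · exact Set.disjoint_left.1 h4 hi hyE
  have hnoG : ¬ HasSec (CohB1.tensorMod G' (ClSub.quotMod N)) := fun hs => by
    refine hnoPN (hasSec_quotMod_congr N hG'i hP ?_ hs)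
    rw [K801.Stmt.mk_inv hGi hG' hG'i, hGc, ← hPc, map_inv, map_mul, map_mul, map_mul, map_pow, map_inv, map_inv,
      pull_ic_eq_one hE hdisj, one_pow, mul_one, mul_inv]
  have h5 := K801.Core.subsingleton_H1 hG'i N hH1G hnoG
  have e5 : Nonempty (CohB1.tensorMod G' (ClSub.idealMod N) ≅ M') := by
    have hM'i : PicF.IsInvertible M' := (isInvertible_of_isInverseOf hM').1
    rw [← mk_eq_iff (Fdesc.LocGen.isInvertible_tensorMod hG'i (isInvertible_idealMod hNe)) hM'i,
      ← mk_mul_mk hG'i (isInvertible_idealMod hNe), K801.Stmt.mk_inv hM hM' hM'i, hcl,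
      K801.Stmt.mk_inv hGi hG' hG'i, hGc]
    change (l * e ^ r * ic N hNe)⁻¹ * ic N hNe = _
    rw [mul_inv, mul_assoc, inv_mul_cancel, mul_one]
  obtain ⟨e5⟩ := e5
  exact Fga.HShift.subsingleton_of_iso e5 1 h5

end K801.Floor
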