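import Groth.Agent.AdjLin.K801.EvIdeal

/-!
# A model of a smooth proper scheme with an ample module, an invertible module, an effective Cartier ideal and
another ideal
-/

set_option autoImplicit false
universe u
open CategoryTheory CategoryTheory.Limits AlgebraicGeometry Opposite Topology

namespace K801.FullModel

open K890.Spread K890.Model K890.Generic K890.Polarized Groth.Agent K801.Stage K801.StageDesc K801.EvIdeal

variable {k : Type u} [Field k] {X : Scheme.{u}}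

/-- a model with an ample module -/
structure Base (f : X ⟶ Spec (CommRingCat.of k)) (A : X.Modules) (S : Subalgebra ℤ k) (X₀ : Scheme.{u})
    (f₀ : X₀ ⟶ Spec (CommRingCat.of S)) (p : X ⟶ X₀) (A₀ : X₀.Modules) : Prop where
  fg : S.FG
  H : IsPullback p f f₀ (sv S)
  prop : IsProper f₀
  sm : Smooth f₀
  amp : CohB1.IsAmple A₀
  iso : Nonempty ((Scheme.Modules.pullback p).obj A₀ ≅ A)

variable {f : X ⟶ Spec (CommRingCat.of k)} {A : X.Modules} {S : Subalgebra ℤ k} {X₀ : Scheme.{u}}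
    {f₀ : X₀ ⟶ Spec (CommRingCat.of S)} {p : X ⟶ X₀} {A₀ : X₀.Modules}

theorem nonempty_pull {X₁ : Scheme.{u}} {t : X₁ ⟶ X₀} {p' : X ⟶ X₁} (hp' : p' ≫ t = p) {M₀ : X₀.Modules}
    {M : X.Modules} (e : Nonempty ((Scheme.Modules.pullback p).obj M₀ ≅ M)) :
    Nonempty ((Scheme.Modules.pullback p').obj ((Scheme.Modules.pullback t).obj M₀) ≅ M) := by
  obtain ⟨e⟩ := e
  exact ⟨(Scheme.Modules.pullbackComp p' t).app M₀ ≪≫ (Scheme.Modules.pullbackCongr hp').app M₀ ≪≫ e⟩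

theorem Base.up (h : Base f A S X₀ f₀ p A₀) {S' : Subalgebra ℤ k} (hle : S ≤ S') (hS' : S'.FG)
    {p' : X ⟶ pullback f₀ (sp (inc hle))} (hp' : p' ≫ pullback.fst f₀ (sp (inc hle)) = p)
    (H' : IsPullback p' f (pullback.snd f₀ (sp (inc hle))) (sv S')) :
    Base f A S' (pullback f₀ (sp (inc hle))) (pullback.snd f₀ (sp (inc hle))) p'
      ((Scheme.Modules.pullback (pullback.fst f₀ (sp (inc hle)))).obj A₀) where
  fg := hS'
  H := H'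
  prop := MorphismProperty.pullback_snd f₀ (sp (inc hle)) h.prop
  sm := MorphismProperty.pullback_snd f₀ (sp (inc hle)) h.sm
  amp := isAmple_bc h.amp (inc hle) (IsPullback.of_hasPullback f₀ (sp (inc hle)))
  iso := nonempty_pull hp' h.iso

theorem Base.exists_up (h : Base f A S X₀ f₀ p A₀) {S' : Subalgebra ℤ k} (hle : S ≤ S') (hS' : S'.FG) :
    ∃ (p' : X ⟶ pullback f₀ (sp (inc hle))), p' ≫ pullback.fst f₀ (sp (inc hle)) = p ∧
      Base f A S' (pullback f₀ (sp (inc hle))) (pullback.snd f₀ (sp (inc hle))) p'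
        ((Scheme.Modules.pullback (pullback.fst f₀ (sp (inc hle)))).obj A₀) := by
  obtain ⟨p', hp', H'⟩ := K890.Model.exists_up f₀ h.H hle
  exact ⟨p', hp', h.up hle hS' hp' H'⟩

/-- add an invertible module -/
theorem Base.exists_invertible (h : Base f A S X₀ f₀ p A₀) {G : X.Modules} (hG : PicF.IsInvertible G) :
    ∃ (S' : Subalgebra ℤ k) (X₁ : Scheme.{u}) (f₁ : X₁ ⟶ Spec (CommRingCat.of S')) (p₁ : X ⟶ X₁) (t : X₁ ⟶ X₀)
      (A₁ G₁ : X₁.Modules), p₁ ≫ t = p ∧ Base f A S' X₁ f₁ p₁ A₁ ∧ PicF.IsInvertible G₁ ∧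
      Nonempty ((Scheme.Modules.pullback p₁).obj G₁ ≅ G) := by
  have i1 := h.prop
  have i2 := h.sm
  have hGfp : CohB1.IsFP G := Desc.FinLocFreeSections.isFP_of_isFinLocFree (isFinLocFree_of_isInvertible hG)
  obtain ⟨S₁, hle₁, hS₁, p₁, F₁, hp₁, H₁, hF₁, ⟨e₁⟩⟩ := exists_module h.H h.fg hGfp
  have h₁ := h.up hle₁ hS₁ hp₁ H₁
  have i3 := h₁.prop
  have i4 := h₁.sm
  obtain ⟨C, hC, hCinv⟩ := PerfB.ApproxHom.exists_up_invertible (mdl H₁ hS₁ hF₁)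
    (PerfB.LimMod.isInvertible_of_iso e₁.symm hG)
  have hle₂ : S₁ ≤ C.1 := hC
  obtain ⟨p₂, hp₂, h₂⟩ := h₁.exists_up hle₂ C.2
  exact ⟨C.1, _, _, p₂, pullback.fst (pullback.snd f₀ (sp (inc hle₁))) (sp (inc hle₂)) ≫
    pullback.fst f₀ (sp (inc hle₁)), _, (Scheme.Modules.pullback
      (pullback.fst (pullback.snd f₀ (sp (inc hle₁))) (sp (inc hle₂)))).obj F₁,
    by rw [← Category.assoc, hp₂, hp₁], h₂, hCinv C le_rfl, nonempty_pull hp₂ ⟨e₁⟩⟩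

/-- add an ideal -/
theorem Base.exists_ideal (h : Base f A S X₀ f₀ p A₀) (J : X.IdealSheafData) (hJ : ∀ U : X.affineOpens, (J.ideal U).FG) :
    ∃ (S' : Subalgebra ℤ k) (X₁ : Scheme.{u}) (f₁ : X₁ ⟶ Spec (CommRingCat.of S')) (p₁ : X ⟶ X₁) (t : X₁ ⟶ X₀)
      (A₁ : X₁.Modules) (J₁ : X₁.IdealSheafData), p₁ ≫ t = p ∧ Base f A S' X₁ f₁ p₁ A₁ ∧ J₁.comap p₁ = J := by
  have i1 := h.prop
  have i2 := h.sm
  obtain ⟨S₁, hle₁, hS₁, p₁, J₁, hp₁, H₁, e₁⟩ := StageDesc.exists_ideal h.H h.fg J hJ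
  exact ⟨S₁, _, _, p₁, pullback.fst f₀ (sp (inc hle₁)), _, J₁, hp₁, h.up hle₁ hS₁ hp₁ H₁, e₁⟩

/-- add an effective Cartier ideal -/
theorem Base.exists_eff (h : Base f A S X₀ f₀ p A₀) {I : X.IdealSheafData} (hI : BlowUp.IsEffCartierIdeal I)
    (hIfg : ∀ U : X.affineOpens, (I.ideal U).FG) :
    ∃ (S' : Subalgebra ℤ k) (X₁ : Scheme.{u}) (f₁ : X₁ ⟶ Spec (CommRingCat.of S')) (p₁ : X ⟶ X₁) (t : X₁ ⟶ X₀)
      (A₁ : X₁.Modules) (I₁ : X₁.IdealSheafData), p₁ ≫ t = p ∧ Base f A S' X₁ f₁ p₁ A₁ ∧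
      BlowUp.IsEffCartierIdeal I₁ ∧ I₁.comap p₁ = I := by
  obtain ⟨S₁, X₁, f₁, p₁, t, A₁, I₁, hp₁, h₁, e₁⟩ := h.exists_ideal I hIfg
  have i1 := h₁.prop
  have i2 := h₁.sm
  obtain ⟨S₂, hle₂, hS₂, -, hE⟩ := exists_eff_stage h₁.H h₁.fg I₁ (by rw [e₁]; exact hI)
  obtain ⟨p₂, hp₂, h₂⟩ := h₁.exists_up hle₂ hS₂
  refine ⟨S₂, _, _, p₂, pullback.fst f₁ (sp (inc hle₂)) ≫ t, _, I₁.comap (pullback.fst f₁ (sp (inc hle₂))),
    by rw [← Category.assoc, hp₂, hp₁], h₂, hE, ?_⟩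
  rw [← Scheme.IdealSheafData.comap_comp, hp₂, e₁]

/-- **The full model.** -/
theorem exists_full [IsProper f] [Smooth f] (hA : CohB1.IsAmple A) {G : X.Modules} (hG : PicF.IsInvertible G)
    {I J : X.IdealSheafData} (hI : BlowUp.IsEffCartierIdeal I) (hIfg : ∀ U : X.affineOpens, (I.ideal U).FG)
    (hJfg : ∀ U : X.affineOpens, (J.ideal U).FG) :
    ∃ (S : Subalgebra ℤ k) (X₀ : Scheme.{u}) (f₀ : X₀ ⟶ Spec (CommRingCat.of S)) (p : X ⟶ X₀)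
      (A₀ G₀ : X₀.Modules) (I₀ J₀ : X₀.IdealSheafData), Base f A S X₀ f₀ p A₀ ∧ PicF.IsInvertible G₀ ∧
      Nonempty ((Scheme.Modules.pullback p).obj G₀ ≅ G) ∧ BlowUp.IsEffCartierIdeal I₀ ∧ I₀.comap p = I ∧
      J₀.comap p = J := by
  obtain ⟨S, hS, X₀, f₀, p, A₀, H, hprop, hsm, hamp, hiso⟩ := exists_smooth_ample_model f hA
  have h : Base f A S X₀ f₀ p A₀ := ⟨hS, H, hprop, hsm, hamp, hiso⟩
  obtain ⟨S₁, X₁, f₁, p₁, t₁, A₁, J₁, hp₁, h₁, e₁⟩ := h.exists_ideal J hJfg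
  obtain ⟨S₂, X₂, f₂, p₂, t₂, A₂, G₂, hp₂, h₂, hG₂, e₂⟩ := h₁.exists_invertible hG
  obtain ⟨S₃, X₃, f₃, p₃, t₃, A₃, I₃, hp₃, h₃, hI₃, e₃⟩ := h₂.exists_eff hI hIfg
  refine ⟨S₃, X₃, f₃, p₃, A₃, (Scheme.Modules.pullback t₃).obj G₂, I₃, (J₁.comap t₂).comap t₃, h₃,
    PerfB.LimMod.isInvertible_pullback t₃ hG₂, nonempty_pull hp₃ e₂, hI₃, e₃, ?_⟩
  rw [← Scheme.IdealSheafData.comap_comp, hp₃, ← Scheme.IdealSheafData.comap_comp, hp₂, e₁]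

end K801.FullModel
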