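import Groth.Agent.Krr.H463.HomBasis
import Groth.Agent.Krr.H487.LocBasisPull
import Groth.Agent.CohqB.HomPost
import Groth.Agent.Ega2.AmpleGlobGen
import Groth.Agent.Ega2.AmpleSec
import Groth.Agent.Fdesc.StructMod
import Groth.Agent.Vancyc.H878.RelOmega

/-!
# Extension of homomorphisms into twists

* `contr E N : Hom(E, O) ⊗ N ⟶ Hom(E, N)`;
* `exists_family`: for `E` finite locally free and `H` ample there are homomorphisms `θ i : E ⟶ N`, `N` a power of
  `H`, which near a given point are the dual basis of a basis of `E`, times a generator of `N`;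
* `joint_injective`: such a family is jointly injective after base change to an integral scheme which meets
  the neighbourhood.
-/

set_option autoImplicit false
universe u
open CategoryTheory CategoryTheory.Limits AlgebraicGeometry TopologicalSpace Opposite
open Groth.Agent.Fdesc.LocGen Groth.Agent.Ega2

noncomputable section

namespace K801.HomExt

open Groth.Agent.CohqB.HomSheaf (homSheaf comp mkSec comp_map sec_ext comp_self_smul comp_mkSec toHom)

variable {X : Scheme.{u}}

/-- `e ↦ φ(e) n` on one open -/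
def mulLin {E N : X.Modules} {U : X.Opens} (φ : Γ(homSheaf E (Coh.structureModule X), U)) (n : Γ(N, U))
    (V : X.Opens) (hV : V ≤ U) : Γ(E, V) →ₗ[Γ(X, V)] Γ(N, V) where
  toFun e := (ofFun.symm (comp φ V hV e) : Γ(X, V)) • res N hV n
  map_add' e e' := by rw [map_add, map_add, add_smul]
  map_smul' r e := by
    rw [map_smul, RingHom.id_apply]
    exact mul_smul (α := Γ(X, V)) r (ofFun.symm (comp φ V hV e)) (res N hV n)

theorem mulLin_apply {E N : X.Modules} {U : X.Opens} (φ : Γ(homSheaf E (Coh.structureModule X), U)) (n : Γ(N, U))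
    (V : X.Opens) (hV : V ≤ U) (e : Γ(E, V)) :
    mulLin φ n V hV e = (ofFun.symm (comp φ V hV e) : Γ(X, V)) • res N hV n := rfl

/-- `e ↦ φ(e) n` -/
def mulSec {E N : X.Modules} {U : X.Opens} (φ : Γ(homSheaf E (Coh.structureModule X), U)) (n : Γ(N, U)) :
    Γ(homSheaf E N, U) :=
  mkSec (mulLin φ n)
    (fun V W hV h m => by
      rw [mulLin_apply, mulLin_apply, comp_map]
      change (ores h (ofFun.symm (comp φ V hV m)) : Γ(X, W)) • res N (h.trans hV) n =
        res N h ((ofFun.symm (comp φ V hV m) : Γ(X, V)) • res N hV n)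
      rw [res_smul, res_res])

theorem comp_mulSec {E N : X.Modules} {U : X.Opens} (φ : Γ(homSheaf E (Coh.structureModule X), U)) (n : Γ(N, U))
    (V : X.Opens) (hV : V ≤ U) (e : Γ(E, V)) :
    comp (mulSec φ n) V hV e = (ofFun.symm (comp φ V hV e) : Γ(X, V)) • res N hV n := rfl

/-- `Hom(E, O) ⊗ N ⟶ Hom(E, N)` -/
def contr (E N : X.Modules) : CohB1.tensorMod (homSheaf E (Coh.structureModule X)) N ⟶ homSheaf E N :=
  Tens.lift (fun U => LinearMap.mk₂ _ mulSec
      (fun φ φ' n => sec_ext fun V hV m => by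
        rw [comp_mulSec]
        change _ = comp (mulSec φ n) V hV m + comp (mulSec φ' n) V hV m
        rw [comp_mulSec, comp_mulSec, ← add_smul]
        rfl)
      (fun r φ n => sec_ext fun V hV m => by
        rw [comp_mulSec]
        change _ = (ores hV r) • comp (mulSec φ n) V hV m
        rw [comp_mulSec, ← mul_smul]
        rfl)
      (fun φ n n' => sec_ext fun V hV m => by
        rw [comp_mulSec, map_add, smul_add]
        rfl)
      (fun r φ n => sec_ext fun V hV m => by
        rw [comp_mulSec, res_smul]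
        change _ = (ores hV r) • comp (mulSec φ n) V hV m
        rw [comp_mulSec, smul_comm]))
    (fun U V i φ n => sec_ext fun W hW m => by
      change comp (mulSec φ n) W (hW.trans i.le) m = comp (mulSec (res _ i.le φ) (res _ i.le n)) W hW m
      rw [comp_mulSec, comp_mulSec, res_res]
      rfl)

theorem contr_tmul (E N : X.Modules) (U : X.Opens) (φ : Γ(homSheaf E (Coh.structureModule X), U)) (n : Γ(N, U)) :
    (contr E N).app U (tmul φ n) = mulSec φ n := Tens.lift_tmul _ _ U φ n


open Groth.Agent.Sga67.Sec (Sec appS)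
open Groth.Agent.Sga67.LocBasis (IsLocBasis comb comb_apply)
open Groth.Agent.Krr.H463.HomBasis (hsec ev_hsec ev_apply cS)

theorem isLocBasis_of_isGen {M : X.Modules} {V : X.Opens} {ν : Γ(M, V)} (h : IsGen ν) :
    IsLocBasis (M := M) (fun _ : Fin 1 => ν) := by
  intro W hW
  have h1 := h W hW
  constructor
  · intro a b hab
    rw [comb_apply, comb_apply, Fin.sum_univ_one, Fin.sum_univ_one] at hab
    funext i
    obtain rfl : i = 0 := Subsingleton.elim _ _
    exact h1.1 hab
  · intro m
    obtain ⟨a, ha⟩ := h1.2 m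
    refine ⟨fun _ => a, ?_⟩
    rw [comb_apply, Fin.sum_univ_one]
    exact ha

/-- Homomorphisms into a power of an ample module, near a given point the dual basis times a generator. -/
theorem exists_family [QuasiSeparatedSpace X] {E H : X.Modules} (hE : FlatMod.IsFinLocFree E)
    (hH : CohB1.IsAmple H) (x : X) :
    ∃ (N : X.Modules) (_ : PicF.IsInvertible N) (n : ℕ) (θ : Fin n → (E ⟶ N)) (V : X.Opens) (_ : x ∈ V)
      (e : Fin n → Sec E V) (ν : Sec N V), IsLocBasis e ∧ IsLocBasis (fun _ : Fin 1 => ν) ∧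
        ∀ i j, appS (θ i) V (e j) = if j = i then ν else 0 := by
  have hc : CompactSpace X := hH.2.1
  obtain ⟨V₁, -, hxV₁, n, e₁, he₁⟩ := Groth.Agent.Sga67.TensorOps.exists_basis_nhd hE (show x ∈ (⊤ : X.Opens) from trivial)
  obtain ⟨d, w, hxw, hw, -⟩ := AmpleSec.exists_affine_genLocus_nhd hH V₁ x hxV₁
  let K := CohB1.tensorPow H (d + 1)
  let V := CohB1.genLocus K w
  have hK : PicF.IsInvertible K := isInvertible_tensorPow hH.1 (d + 1)
  let e : Fin n → Sec E V := fun i => Groth.Agent.Sga67.Sec.res E hw (e₁ i)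
  have he : IsLocBasis e := he₁.restrict hw
  let F := homSheaf E (Coh.structureModule X)
  have hF : Coh.IsQCoh F := Groth.Agent.CohqB.HomPost.isQCoh_homSheaf_of_isFinLocFree hE
    (Groth.Agent.Fdesc.StructMod.isQCoh_structureModule X)
  choose N hN using fun i : Fin n => AmpleGlobGen.exists_extend_top hF hK w
    (hsec (N := Coh.structureModule X) he (one V) i)
  let m := Finset.univ.sup N
  choose t ht using fun i => hN i m (Finset.le_sup (Finset.mem_univ i))
  refine ⟨CohB1.tensorPow K m, isInvertible_tensorPow hK m, n,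
    fun i => toHom ((contr E (CohB1.tensorPow K m)).app ⊤ (t i)), V, hxw, e, pow (sec w V) m, he,
    isLocBasis_of_isGen ((isGen_sec_genLocus w).pow m), fun i j => ?_⟩
  have h1 : appS (toHom ((contr E (CohB1.tensorPow K m)).app ⊤ (t i))) V (e j) =
      cS (E := E) (N := CohB1.tensorPow K m) ((contr E (CohB1.tensorPow K m)).app V
        (res _ (le_top : V ≤ ⊤) (t i))) le_rfl (e j) := by
    rw [app_res]
    rfl
  rw [h1, ht i, contr_tmul]
  change (ofFun.symm (comp (hsec (N := Coh.structureModule X) he (one V) i) V le_rfl (e j)) : Γ(X, V)) •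
    res (CohB1.tensorPow K m) le_rfl (pow (sec w V) m) = _
  rw [res_refl]
  have h2 := congrFun (ev_hsec (N := Coh.structureModule X) he (one V) i) j
  rw [ev_apply, Groth.Agent.Sga67.Sec.res_self] at h2
  have h3 : comp (hsec (N := Coh.structureModule X) he (one V) i) V le_rfl (e j) =
    (Pi.single i (one V) : Fin n → Sec (Coh.structureModule X) V) j := h2
  rw [h3]
  by_cases h : j = i
  · subst h
    rw [Pi.single_eq_same, if_pos rfl]
    exact one_smul Γ(X, V) _
  · rw [Pi.single_eq_of_ne h, if_neg h]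
    exact zero_smul Γ(X, V) _

section BaseChange

open Groth.Agent.Krr.H487.LocBasisPull (pbS isLocBasis_pbS appS_pbS)
open Groth.Agent.Sga67.Sec (appS_res appS_comp)

/-- Such a family is jointly injective after pull-back, over the inverse image of the neighbourhood. -/
theorem eq_zero_of_family {X' : Scheme.{u}} (q : X' ⟶ X) {E N : X.Modules} {n : ℕ} (θ : Fin n → (E ⟶ N))
    {V : X.Opens} {e : Fin n → Sec E V} {ν : Sec N V} (he : IsLocBasis e)
    (hν : IsLocBasis (fun _ : Fin 1 => ν)) (hθ : ∀ i j, appS (θ i) V (e j) = if j = i then ν else 0)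
    (U : X'.Opens) (hU : U ≤ q ⁻¹ᵁ V) (s : Sec ((Scheme.Modules.pullback q).obj E) U)
    (hs : ∀ i, appS ((Scheme.Modules.pullback q).map (θ i)) U s = 0) : s = 0 := by
  have he' := isLocBasis_pbS q he
  have hν' := isLocBasis_pbS q hν
  obtain ⟨a, ha⟩ := (he' U hU).2 s
  have key : ∀ i, a i = 0 := by
    intro i
    have h1 : appS ((Scheme.Modules.pullback q).map (θ i)) U s =
        comb (fun _ : Fin 1 => pbS q N ν) hU (fun _ => a i) := by
      rw [← ha, comb_apply, map_sum, comb_apply, Fin.sum_univ_one]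
      rw [Finset.sum_eq_single i]
      · rw [map_smul, appS_res, appS_pbS, hθ, if_pos rfl]
      · intro j _ hj
        rw [map_smul, appS_res, appS_pbS, hθ, if_neg hj, map_zero, map_zero, smul_zero]
      · intro h
        exact absurd (Finset.mem_univ i) h
    have h2 := (hν' U hU).1 ((h1.symm.trans (hs i)).trans (map_zero _).symm)
    exact congrFun h2 0
  rw [← ha]
  have : a = 0 := funext key
  rw [this, map_zero]

/-- The same, for the differentials of a base change. -/
theorem exists_family_omega {S₀ : Scheme.{u}} {f₀ : X ⟶ S₀} [Smooth f₀] [IsSeparated f₀] {N : X.Modules}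
    {n : ℕ} (θ : Fin n → (Omega.sheaf f₀ ⟶ N)) {V : X.Opens} {e : Fin n → Sec (Omega.sheaf f₀) V} {ν : Sec N V}
    (he : IsLocBasis e) (hν : IsLocBasis (fun _ : Fin 1 => ν))
    (hθ : ∀ i j, appS (θ i) V (e j) = if j = i then ν else 0)
    {X' T : Scheme.{u}} {q : X' ⟶ X} {g : X' ⟶ T} {t : T ⟶ S₀} (Hq : IsPullback q g f₀ t) :
    ∃ θ' : Fin n → (Omega.sheaf g ⟶ (Scheme.Modules.pullback q).obj N),
      ∀ (U : X'.Opens), U ≤ q ⁻¹ᵁ V → ∀ (s : Γ(Omega.sheaf g, U)), (∀ i, (θ' i).app U s = 0) → s = 0 := by
  have i1 : Smooth g := MorphismProperty.of_isPullback Hq inferInstance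
  have i2 : IsSeparated g := MorphismProperty.of_isPullback Hq inferInstance
  let ω := Groth.Agent.Vancyc.H878.RelOmega.omegaBC Hq
  refine ⟨fun i => ω.inv ≫ (Scheme.Modules.pullback q).map (θ i), fun U hU s hs => ?_⟩
  have h1 : appS ω.inv U s = 0 :=
    eq_zero_of_family q θ he hν hθ U hU (appS ω.inv U s) fun i => hs i
  have h2 : appS ω.hom U (appS ω.inv U s) = s := Groth.Agent.Sga67.Sec.appS_hom_inv ω.symm U s
  rw [← h2, h1]
  exact map_zero (appS ω.hom U)

end BaseChange

end K801.HomExt
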