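import Groth.Agent.AdjLin.K801.AlmIso
import Groth.Agent.S0002
import Groth.Prelude.Def_W4c2seshadriposJets

/-!
# `H^1(X, m_x^{s+1} ⊗ L ⊗ ω) = 0` from the blow-up
-/

set_option autoImplicit false
universe u
open CategoryTheory CategoryTheory.Limits AlgebraicGeometry TopologicalSpace

namespace K801.Jet340

open Groth.Agent Groth.Agent.Grpsch.PicGrp Groth.Agent.Dix.PointIdeal K464.Base K464.Curves
  Groth.Agent.Divis.CartierBasic Groth.Agent.Divis.EffCartier

variable {k : Type u} [Field k] [IsAlgClosed k] {X : Scheme.{u}} [X.Over (Spec (CommRingCat.of k))]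
  [IsProper (X ↘ Spec (CommRingCat.of k))] [Smooth (X ↘ Spec (CommRingCat.of k))] [IsIntegral X]
  (hdim : topologicalKrullDim X = 2)
  {Y : Scheme.{u}} [Y.Over (Spec (CommRingCat.of k))] [IsProper (Y ↘ Spec (CommRingCat.of k))]
  [Smooth (Y ↘ Spec (CommRingCat.of k))] [IsIntegral Y] (hdY : topologicalKrullDim Y = 2)
  (x : X) (hx : IsClosed ({x} : Set X)) (f : Y ⟶ X) (hf : BlowUp.IsBlowUp f (pt x hx))
  (hover : f ≫ (X ↘ Spec (CommRingCat.of k)) = Y ↘ Spec (CommRingCat.of k))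

include hdY in
/-- Serre duality on the blow-up. -/
theorem subsingleton_adj {F W' M M' : Y.Modules} (hF : PicF.IsInvertible F) {E : Y.IdealSheafData}
    (hE : BlowUp.IsEffCartierIdeal E) (hW' : ExtPow.IsExtPow 2 (Omega.sheaf (Y ↘ (Spec (CommRingCat.of k)))) W')
    (hWi' : PicF.IsInvertible W') (hM : PicF.IsInvertible M) (hM' : ClSub.IsInverseOf M' M) {r : ℕ}
    (hcl : mk M hM = mk F hF * ic E hE ^ r) (h : Subsingleton (Coh.HH Y M' 1)) :
    Subsingleton (Coh.HH Y (CohB1.tensorMod (ClSub.idealMod (E ^ r)) (CohB1.tensorMod F W')) 1) := by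
  have h3 := K801.BlowY.smoothOfRel (k := k) hdY
  have hMi' : PicF.IsInvertible M' := (Dix.IdealModCartier.isInvertible_of_isInverseOf hM').1
  obtain ⟨e⟩ := K461.SerreDual.nonempty_dual_equiv k 2 hW' hM' (Ega2.QCohLocal.isQCoh_of_isInvertible hMi') 1 1 rfl
  have h4 : Subsingleton (Coh.HH Y (CohB1.tensorMod W' M) 1) := e.toEquiv.symm.subsingleton
  have hEr := Dix.IdealModCartier.isInvertible_idealMod (isEff_pow hE r)
  have h5 : Nonempty (CohB1.tensorMod W' M ≅ CohB1.tensorMod (ClSub.idealMod (E ^ r)) (CohB1.tensorMod F W')) := by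
    rw [← mk_eq_iff (Fdesc.LocGen.isInvertible_tensorMod hWi' hM) (Fdesc.LocGen.isInvertible_tensorMod
      hEr (Fdesc.LocGen.isInvertible_tensorMod hF hWi')), ← mk_mul_mk hWi' hM, hcl, ← mk_mul_mk hEr
      (Fdesc.LocGen.isInvertible_tensorMod hF hWi'), ← mk_mul_mk hF hWi']
    have h6 : mk (ClSub.idealMod (E ^ r)) hEr = ic E hE ^ r := ic_pow hE r
    rw [h6]
    ac_rfl
  obtain ⟨e5⟩ := h5
  exact Fga.HShift.subsingleton_of_iso e5 1 h4

end K801.Jet340

namespace K801.Jet340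

open Groth.Agent Groth.Agent.Grpsch.PicGrp Groth.Agent.Dix.PointIdeal K464.Base K464.Curves
  Groth.Agent.Divis.CartierBasic Groth.Agent.Divis.EffCartier

theorem main (k : Type u) [Field k] [IsAlgClosed k] [CharZero k]
    (X : Scheme.{u}) [X.Over (Spec (CommRingCat.of k))] [IsProper (X ↘ (Spec (CommRingCat.of k)))]
    [Smooth (X ↘ (Spec (CommRingCat.of k)))] [IsIntegral X] (hdim : topologicalKrullDim X = 2)
    (H : X.Modules) (hH : CohB1.IsAmple H) (L : X.Modules) (hL : PicF.IsInvertible L)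
    (hnef : ∀ C : X.IdealSheafData, IsCurve C → 0 ≤ degOn k X C (mk L hL))
    (hbig : 0 < dot k X (mk L hL) (mk L hL))
    (ω : X.Modules) (hω : ExtPow.IsExtPow 2 (Omega.sheaf (X ↘ (Spec (CommRingCat.of k)))) ω)
    (x : X) (hx : IsClosed ({x} : Set X)) (s m : ℕ)
    (I : X.IdealSheafData) (hI : BlowUp.IsEffCartierIdeal I)
    (hIL : ClSub.IsInverseOf (CohB1.tensorPow L m) (ClSub.idealMod I))
    (q : ℕ) (hq : (s + 2) * m < q)
    (hqx : (∀ (V : X.affineOpens) (hyV : x ∈ (V : X.Opens)),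
        (I.ideal V).map (X.presheaf.germ V x hyV).hom ≤ (IsLocalRing.maximalIdeal (X.presheaf.stalk x)) ^ q))
    (U : X.Opens) (hxU : x ∈ U)
    (hU : ∀ y : X, y ∈ U → y ≠ x → ∀ n : ℕ, (∀ (V : X.affineOpens) (hyV : y ∈ (V : X.Opens)),
        (I.ideal V).map (X.presheaf.germ V y hyV).hom ≤
          (IsLocalRing.maximalIdeal (X.presheaf.stalk y)) ^ n) → (s + 2) * n < q)
    (h346 : ∀ (Y : Scheme.{u}) [Y.Over (Spec (CommRingCat.of k))] (f : Y ⟶ X)
      (_ : f ≫ (X ↘ (Spec (CommRingCat.of k))) = Y ↘ (Spec (CommRingCat.of k)))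
      (_ : BlowUp.IsBlowUp f (W4c2seshadripos.pointIdeal x hx)) (ωY : Y.Modules)
      (_ : ExtPow.IsExtPow 2 (Omega.sheaf (Y ↘ (Spec (CommRingCat.of k)))) ωY),
      Module.finrank k (Coh.HH X (CohB1.tensorMod (ClSub.idealMod ((W4c2seshadripos.pointIdeal x hx) ^ (s + 1)))
        (CohB1.tensorMod L ω)) 1) =
      Module.finrank k (Coh.HH Y (CohB1.tensorMod
        (ClSub.idealMod ((BlowUp.exceptional f (W4c2seshadripos.pointIdeal x hx)) ^ (s + 1 + 1)))
        (CohB1.tensorMod ((Scheme.Modules.pullback f).obj L) ωY)) 1)) :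
    Subsingleton (Coh.HH X (CohB1.tensorMod (ClSub.idealMod ((W4c2seshadripos.pointIdeal x hx) ^ (s + 1)))
      (CohB1.tensorMod L ω)) 1) := by
  obtain ⟨Y, iY, f, hf, hover, hYi, hYp, hYs, hdY⟩ := K801.BlowY.exists_blow (k := k) hdim x hx
  have hωi : PicF.IsInvertible ω := by
    have := K801.BlowY.smoothOfRel (k := k) hdim
    exact K455.Canon.isInvertible (X ↘ Spec (CommRingCat.of k)) 2 hω
  have h3 := K801.BlowY.smoothOfRel (k := k) hdY
  obtain ⟨W', hW', hWi'⟩ := K455.Canon.exists_canonical (Y ↘ Spec (CommRingCat.of k)) 2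
  have h1 := h346 Y f hover hf W' hW'
  obtain ⟨M, hM, hMcl⟩ := exists_mk (pull f (mk L hL) * ic _ hf.1 ^ (s + 2))
  obtain ⟨M', -, hM'⟩ := K890.Polarized.exists_inverse hM
  have hDL : mk L hL ^ m * ic I hI = 1 := by
    have hLm := Fdesc.LocGen.isInvertible_tensorPow hL m
    have h2 := mk_eq_ic_inv hIL hLm hI
    rw [mk_tensorPow hL] at h2
    rw [h2, inv_mul_cancel]
  have hst : ∀ y : X, ∀ n : ℕ, stalkIdeal I y ≤ IsLocalRing.maximalIdeal (X.presheaf.stalk y) ^ n →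
      ∀ (V : X.affineOpens) (hyV : y ∈ (V : X.Opens)), (I.ideal V).map (X.presheaf.germ V y hyV).hom ≤
          (IsLocalRing.maximalIdeal (X.presheaf.stalk y)) ^ n := fun y n h V hyV => by
    rw [← stalkIdeal_eq I V hyV]
    exact h
  obtain ⟨V, hV, hxV, -⟩ := exists_isAffineOpen_mem_and_subset (U := (⊤ : X.Opens)) (x := x) trivial
  have h4 := K801.AlmIso.h1_blow (k := k) hdim hdY x hx f hf hover hH hL hnef hbig (r := s + 2) hq hI hDL
    (by rw [stalkIdeal_eq I ⟨V, hV⟩ hxV]; exact hqx ⟨V, hV⟩ hxV) U hxU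
    (fun y hy hyx n h => hU y hy hyx n (hst y n h)) hM hM' hMcl.symm
  have h5 := subsingleton_adj (k := k) hdY (Fdesc.LocGen.isInvertible_pullback f hL) hf.1 hW' hWi' hM hM' (r := s + 2)
    hMcl.symm h4
  have h6 : Module.finrank k (Coh.HH Y (CohB1.tensorMod
        (ClSub.idealMod ((BlowUp.exceptional f (W4c2seshadripos.pointIdeal x hx)) ^ (s + 1 + 1)))
        (CohB1.tensorMod ((Scheme.Modules.pullback f).obj L) W')) 1) = 0 := by
    have : Subsingleton (Coh.HH Y (CohB1.tensorMod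
        (ClSub.idealMod ((BlowUp.exceptional f (W4c2seshadripos.pointIdeal x hx)) ^ (s + 1 + 1)))
        (CohB1.tensorMod ((Scheme.Modules.pullback f).obj L) W')) 1) := h5
    exact Module.finrank_zero_of_subsingleton
  rw [h6] at h1
  have hcoh : Coh.IsCoh (CohB1.tensorMod (ClSub.idealMod ((W4c2seshadripos.pointIdeal x hx) ^ (s + 1)))
      (CohB1.tensorMod L ω)) :=
    isCoh_tensorMod X (isCoh_idealMod k X _) (Fdesc.LocGen.isInvertible_tensorMod hL hωi)
  have hfin := S0002.result k X _ hcoh 1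
  exact Module.finrank_zero_iff.mp h1

end K801.Jet340
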