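import Groth.Agent.DelIll.K890.Spread
import Mathlib.RingTheory.Flat.TorsionFree
import Mathlib.RingTheory.Spectrum.Prime.Chevalley
import Mathlib.RingTheory.DedekindDomain.PID

/-!
# Closed points of every large residue characteristic

`exists_point`: a domain `S` of finite type over `ℤ` and of characteristic `0`, `s ≠ 0`: for all large primes `p` there
is a maximal ideal `Q`, `s ∉ Q`, with finite residue field of characteristic `p`.
`ev_exists_point`: the version for `Spread.Ev`.
-/

set_option autoImplicit false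
universe u

namespace K801.Pts

theorem exists_point (S : Type u) [CommRing S] [IsDomain S] [CharZero S] [Algebra.FiniteType ℤ S]
    (s : S) (hs : s ≠ 0) :
    ∃ N : ℕ, ∀ p : ℕ, p.Prime → N < p → ∃ (Q : Ideal S) (_ : Q.IsMaximal), s ∉ Q ∧ CharP (S ⧸ Q) p ∧
      Finite (S ⧸ Q) := by
  let T := Localization.Away s
  have hle : Submonoid.powers s ≤ nonZeroDivisors S := powers_le_nonZeroDivisors_of_noZeroDivisors hs
  have hdom : IsDomain T := IsLocalization.isDomain_localization hle
  have hinj : Function.Injective (algebraMap S T) := IsLocalization.injective T hle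
  have hcz : CharZero T := charZero_of_injective_algebraMap hinj
  have hft0 : Algebra.FiniteType S T := IsLocalization.finiteType_of_monoid_fg (Submonoid.powers s) T
  have hft : Algebra.FiniteType ℤ T := Algebra.FiniteType.trans (S := S) inferInstance hft0
  have hfp : Algebra.FinitePresentation ℤ T := Algebra.FinitePresentation.of_finiteType.mp inferInstance
  have htf : Module.IsTorsionFree ℤ T := inferInstance
  have hfl : Module.Flat ℤ T := inferInstance
  have hopen : IsOpenMap (PrimeSpectrum.comap (algebraMap ℤ T)) :=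
    PrimeSpectrum.isOpenMap_comap_of_hasGoingDown_of_finitePresentation
  have hbot : (⊥ : PrimeSpectrum ℤ) ∈ Set.range (PrimeSpectrum.comap (algebraMap ℤ T)) := by
    refine ⟨⊥, ?_⟩
    apply PrimeSpectrum.ext
    change Ideal.comap (algebraMap ℤ T) ⊥ = ⊥
    rw [← RingHom.ker_eq_comap_bot, RingHom.ker_eq_bot_iff_eq_zero]
    intro a ha
    rw [eq_intCast] at ha
    exact_mod_cast ha
  obtain ⟨_, ⟨a, rfl⟩, ha, hsub⟩ :=
    PrimeSpectrum.isTopologicalBasis_basic_opens.exists_subset_of_mem_open hbot hopen.isOpen_range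
  have ha0 : a ≠ 0 := by
    rintro rfl
    simp at ha
  refine ⟨a.natAbs, fun p hp hN => ?_⟩
  have hp0 : (p : ℤ) ≠ 0 := by exact_mod_cast hp.ne_zero
  have hpz : Prime (p : ℤ) := Nat.prime_iff_prime_int.mp hp
  let P : PrimeSpectrum ℤ := ⟨Ideal.span {(p : ℤ)}, (Ideal.span_singleton_prime hp0).mpr hpz⟩
  have hP : P ∈ (PrimeSpectrum.basicOpen a : Set (PrimeSpectrum ℤ)) := by
    change a ∉ Ideal.span {(p : ℤ)}
    rw [Ideal.mem_span_singleton]
    intro hdvd
    have h1 := Int.le_of_dvd (by positivity) ((dvd_abs _ _).mpr hdvd)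
    rw [Int.abs_eq_natAbs] at h1
    omega
  obtain ⟨q, hq⟩ := hsub hP
  obtain ⟨Q', hQ', hqQ'⟩ := Ideal.exists_le_maximal q.asIdeal q.isPrime.ne_top
  have hpQ' : (p : T) ∈ Q' := by
    apply hqQ'
    have h1 : (p : ℤ) ∈ (PrimeSpectrum.comap (algebraMap ℤ T) q).asIdeal := by
      rw [hq]
      exact Ideal.mem_span_singleton_self _
    have h2 : algebraMap ℤ T (p : ℤ) ∈ q.asIdeal := h1
    rwa [eq_intCast, Int.cast_natCast] at h2
  let _ : Field (T ⧸ Q') := Ideal.Quotient.field Q'
  have hft' : Algebra.FiniteType ℤ (T ⧸ Q') := Algebra.FiniteType.of_surjective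
    (Ideal.Quotient.mkₐ ℤ Q') Ideal.Quotient.mk_surjective
  have hfin : Finite (T ⧸ Q') := K890.Points.finite_of_isField (T ⧸ Q')
    ((Ideal.Quotient.maximal_ideal_iff_isField_quotient _).mp hQ')
  have hFp : Fact p.Prime := ⟨hp⟩
  have hchar' : CharP (T ⧸ Q') p := by
    have h1 : ((p : ℕ) : T ⧸ Q') = 0 := by
      rw [← map_natCast (Ideal.Quotient.mk Q'), Ideal.Quotient.eq_zero_iff_mem]
      exact hpQ'
    exact (CharP.charP_iff_prime_eq_zero hp).mpr h1
  let Q : Ideal S := Q'.comap (algebraMap S T)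
  let j : S ⧸ Q →+* T ⧸ Q' := Ideal.quotientMap Q' (algebraMap S T) le_rfl
  have hj : Function.Injective j := Ideal.quotientMap_injective
  have hQp : Q.IsPrime := Ideal.IsPrime.comap _
  have hfinQ : Finite (S ⧸ Q) := Finite.of_injective j hj
  have hQm : Q.IsMaximal := Ideal.Quotient.maximal_of_isField _ (Finite.isField_of_domain _)
  refine ⟨Q, hQm, ?_, ?_, hfinQ⟩
  · intro hsQ
    exact hQ'.ne_top (Ideal.eq_top_of_isUnit_mem _ hsQ (IsLocalization.Away.algebraMap_isUnit s))
  · exact (RingHom.charP_iff j hj p).mpr hchar'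

open K890.Spread

theorem ev_exists_point {k : Type u} [Field k] [CharZero k] {S : Subalgebra ℤ k}
    {Φ : ∀ (T : Type u) [CommRing T], (S →+* T) → Prop} (h : Ev S Φ) :
    ∃ N : ℕ, ∀ p : ℕ, p.Prime → N < p → ∃ (κ : Type u) (_ : Field κ) (_ : Finite κ) (_ : CharP κ p) (φ : S →+* κ),
      Φ κ φ := by
  obtain ⟨S', hS, s, hfg, hs, H⟩ := h
  have hft : Algebra.FiniteType ℤ S' := (Subalgebra.fg_iff_finiteType S').mp hfg
  have hcz : CharZero S' := inferInstance
  obtain ⟨N, hN⟩ := @exists_point S' _ _ hcz hft s hs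
  refine ⟨N, fun p hp hNp => ?_⟩
  obtain ⟨Q, hQ, hsQ, hchar, hfin⟩ := hN p hp hNp
  let _ : Field (S' ⧸ Q) := Ideal.Quotient.field Q
  have hu : IsUnit (Ideal.Quotient.mk Q s) := IsUnit.mk0 _ (by rwa [Ne, Ideal.Quotient.eq_zero_iff_mem])
  exact ⟨S' ⧸ Q, Ideal.Quotient.field Q, hfin, hchar, (Ideal.Quotient.mk Q).comp (Subalgebra.inclusion hS).toRingHom,
    H _ _ hu⟩

end K801.Pts
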