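import Groth.Agent.AdjLin.K801.KVFib
import Groth.Agent.AdjLin.K801.FullModel
import Groth.Agent.AdjLin.K801.HomExt
import Groth.Agent.AdjLin.K801.Pts
import Groth.Agent.AdjLin.K801.EvFree
import Groth.Agent.CohqB.FinAmple
import Groth.Agent.Dix.IdealQuot
import Groth.Agent.Ega2.BlowBasic
import Mathlib.NumberTheory.PrimesCongruentOne

/-!
# A Kawamata-Viehweg type vanishing theorem for `H^1` in characteristic zero

`vanish`: `X` smooth proper irreducible of dimension `≥ 2` over an algebraically closed field of characteristic zero, `D`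
effective Cartier without components of multiplicity `≥ n`, `G^n(-D)` ample: `H^1(X, G^-1) = 0`.
-/

set_option autoImplicit false
universe u
open CategoryTheory CategoryTheory.Limits AlgebraicGeometry Opposite Topology
open Groth.Agent

namespace K801.KV

open K890.Spread K890.Model K890.Generic K890.Fibres K890.Polarized K801.Stage K801.StageDesc K801.EvIdeal
  K801.FullModel K801.CharP Groth.Agent.Fga.PicMon Groth.Agent.Dix.IdealModCartier

section Pull

variable {X Y : Scheme.{u}} (q : Y ⟶ X)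

theorem mc_pull_tensor (M N : X.Modules) : mc ((Scheme.Modules.pullback q).obj (CohB1.tensorMod M N)) =
    mc ((Scheme.Modules.pullback q).obj M) * mc ((Scheme.Modules.pullback q).obj N) := by
  rw [← mc_tensor]
  exact mc_eq (pullTensor q M N)

theorem mc_pull_pow {L : X.Modules} (hL : PicF.IsInvertible L) (n : ℕ) :
    mc ((Scheme.Modules.pullback q).obj (CohB1.tensorPow L n)) = mc ((Scheme.Modules.pullback q).obj L) ^ n := by
  rw [← mc_tensorPow, mc_eq_iff]
  exact CohqB.FinAmple.nonempty_pullback_tensorPow q hL n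

theorem mc_pull_ideal {D : X.IdealSheafData} (hD : BlowUp.IsEffCartierIdeal D)
    (hD' : BlowUp.IsEffCartierIdeal (D.comap q)) :
    mc ((Scheme.Modules.pullback q).obj (ClSub.idealMod D)) = mc (ClSub.idealMod (D.comap q)) := by
  rw [mc_eq_iff]
  exact pullback_idealMod q hD hD'

/-- `G^n(-D)` -/
noncomputable def AA (G : X.Modules) (n : ℕ) (D : X.IdealSheafData) : X.Modules :=
  CohB1.tensorMod (CohB1.tensorPow G n) (ClSub.idealMod D)

/-- `G ⊗ (G^n(-D))^m(-D) ⊗ M'` -/
noncomputable def BB (G : X.Modules) (n : ℕ) (D : X.IdealSheafData) (m : ℕ) (M' : X.Modules) : X.Modules :=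
  CohB1.tensorMod (CohB1.tensorMod (CohB1.tensorMod G (CohB1.tensorPow (AA G n D) m)) (ClSub.idealMod D)) M'

theorem isInvertible_AA {G : X.Modules} (hG : PicF.IsInvertible G) (n : ℕ) {D : X.IdealSheafData}
    (hD : BlowUp.IsEffCartierIdeal D) : PicF.IsInvertible (AA G n D) :=
  Fdesc.LocGen.isInvertible_tensorMod (Fdesc.LocGen.isInvertible_tensorPow hG n) (isInvertible_idealMod hD)

theorem isInvertible_BB {G M' : X.Modules} (hG : PicF.IsInvertible G) (hM' : PicF.IsInvertible M') (n m : ℕ)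
    {D : X.IdealSheafData} (hD : BlowUp.IsEffCartierIdeal D) : PicF.IsInvertible (BB G n D m M') :=
  Fdesc.LocGen.isInvertible_tensorMod (Fdesc.LocGen.isInvertible_tensorMod
    (Fdesc.LocGen.isInvertible_tensorMod hG (Fdesc.LocGen.isInvertible_tensorPow (isInvertible_AA hG n hD) m))
    (isInvertible_idealMod hD)) hM'

theorem mc_AA (G : X.Modules) (n : ℕ) (D : X.IdealSheafData) : mc (AA G n D) = mc G ^ n * mc (ClSub.idealMod D) := by
  rw [AA, mc_tensor, mc_tensorPow]

theorem mc_BB (G : X.Modules) (n : ℕ) (D : X.IdealSheafData) (m : ℕ) (M' : X.Modules) :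
    mc (BB G n D m M') = mc G * (mc G ^ n * mc (ClSub.idealMod D)) ^ m * mc (ClSub.idealMod D) * mc M' := by
  rw [BB, mc_tensor, mc_tensor, mc_tensor, mc_tensorPow, mc_AA]

theorem nonempty_pull_AA {G : X.Modules} (hG : PicF.IsInvertible G) (n : ℕ) {D : X.IdealSheafData}
    (hD : BlowUp.IsEffCartierIdeal D) {D' : Y.IdealSheafData} (hD' : BlowUp.IsEffCartierIdeal D')
    (h : D.comap q = D') {G' : Y.Modules} (e : Nonempty ((Scheme.Modules.pullback q).obj G ≅ G')) :
    Nonempty ((Scheme.Modules.pullback q).obj (AA G n D) ≅ AA G' n D') := by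
  subst h
  rw [← mc_eq_iff] at e ⊢
  rw [mc_AA, AA, mc_pull_tensor, mc_pull_pow q hG, mc_pull_ideal q hD hD', e]

theorem nonempty_pull_BB {G M : X.Modules} (hG : PicF.IsInvertible G) (n m : ℕ) {D : X.IdealSheafData}
    (hD : BlowUp.IsEffCartierIdeal D) {D' : Y.IdealSheafData} (hD' : BlowUp.IsEffCartierIdeal D')
    (h : D.comap q = D') {G' M' : Y.Modules} (e : Nonempty ((Scheme.Modules.pullback q).obj G ≅ G'))
    (e' : Nonempty ((Scheme.Modules.pullback q).obj M ≅ M')) :
    Nonempty ((Scheme.Modules.pullback q).obj (BB G n D m M) ≅ BB G' n D' m M') := by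
  have h1 := nonempty_pull_AA q hG n hD hD' h e
  subst h
  rw [← mc_eq_iff] at e e' h1 ⊢
  rw [mc_BB, BB, mc_pull_tensor, mc_pull_tensor, mc_pull_tensor, mc_pull_pow q (isInvertible_AA hG n hD),
    mc_pull_ideal q hD hD', e, e', h1, mc_AA]

end Pull

theorem genericPoint_notMem_support {X : Scheme.{u}} [IsIntegral X] {D : X.IdealSheafData}
    (hD : BlowUp.IsEffCartierIdeal D) : genericPoint X ∉ D.support := by
  intro h
  obtain ⟨x, hx⟩ := (Ega2.BlowBasic.dense_offSupport hD).nonempty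
  exact hx ((genericPoint_specializes x).mem_closed D.support.2 h)

theorem vanish {k : Type u} [Field k] [IsAlgClosed k] [CharZero k] {X : Scheme.{u}}
    [X.Over (Spec (CommRingCat.of k))] [IsProper (X ↘ Spec (CommRingCat.of k))]
    [Smooth (X ↘ Spec (CommRingCat.of k))] [IrreducibleSpace X] {N : ℕ} (hN : 2 ≤ N)
    (hdim : topologicalKrullDim X = N) {G G' : X.Modules} (hG' : ClSub.IsInverseOf G' G) {n : ℕ} (hn : 1 ≤ n)
    {D : X.IdealSheafData} (hD : BlowUp.IsEffCartierIdeal D) (hfree : NFree n D)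
    (hA : CohB1.IsAmple (CohB1.tensorMod (CohB1.tensorPow G n) (ClSub.idealMod D))) :
    Subsingleton (Coh.HH X G' 1) := by
  have hXi := SmDim.isIntegral_of_smooth k X
  have hXn : IsLocallyNoetherian X := LocallyOfFiniteType.isLocallyNoetherian (X ↘ Spec (CommRingCat.of k))
  have hufd := fun x => (SmDim.ufd_of_smooth k X x).2
  have hG : PicF.IsInvertible G := (isInvertible_of_isInverseOf hG').2
  obtain ⟨S, X₀, f₀, p, A₀, G₀, I₀, J₀, hb, hG₀, eG, hI₀, eI, eJ⟩ :=
    exists_full (f := X ↘ Spec (CommRingCat.of k)) hA hG (I := D) (J := D.radical) hD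
      (Dix.IdealQuot.fg_of_isLocallyNoetherian D) (Dix.IdealQuot.fg_of_isLocallyNoetherian D.radical)
  have hS := hb.fg
  have H := hb.H
  have iprop := hb.prop
  have ism := hb.sm
  have icp : CompactSpace X := hA.2.1
  have iqs : QuasiSeparatedSpace X₀ := quasiSeparatedSpace_of_quasiSeparated f₀
  have isep : X.IsSeparated := by
    have h1 : IsSeparated ((X ↘ Spec (CommRingCat.of k)) ≫ Limits.terminal.from _) := inferInstance
    exact ⟨by rwa [Limits.terminal.comp_from] at h1⟩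
  -- the differentials
  obtain ⟨M, hM, r, θ, V, hxV, e, ν, he, hν, hθ⟩ := HomExt.exists_family
    (Vancyc.H878.OmegaRank.isFinLocFree_omega f₀) hb.amp (p (genericPoint X))
  obtain ⟨M', hM'i, hM'⟩ := exists_inverse hM
  -- ample modules
  obtain ⟨m₁, -, hm₁⟩ := S2329.result X _ (CohB1.tensorMod (CohB1.tensorMod G (ClSub.idealMod D))
    ((Scheme.Modules.pullback p).obj M')) hA (Fdesc.LocGen.isInvertible_tensorMod
      (Fdesc.LocGen.isInvertible_tensorMod hG (isInvertible_idealMod hD))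
      (PerfB.LimMod.isInvertible_pullback p hM'i))
  have hAX : CohB1.IsAmple ((Scheme.Modules.pullback p).obj (AA G₀ n I₀)) := by
    obtain ⟨e1⟩ := nonempty_pull_AA p hG₀ n hI₀ hD eI eG
    exact S2329.isAmple_of_iso e1.symm hA
  have hBX : CohB1.IsAmple ((Scheme.Modules.pullback p).obj (BB G₀ n I₀ m₁ M')) := by
    obtain ⟨e1⟩ := nonempty_pull_BB p (M := M') hG₀ n m₁ hI₀ hD eI eG ⟨Iso.refl _⟩
    refine S2329.isAmple_of_iso e1.symm ?_
    have e2 : Nonempty (CohB1.tensorMod (CohB1.tensorPow (CohB1.tensorMod (CohB1.tensorPow G n) (ClSub.idealMod D)) m₁)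
        (CohB1.tensorMod (CohB1.tensorMod G (ClSub.idealMod D)) ((Scheme.Modules.pullback p).obj M')) ≅
          BB G n D m₁ ((Scheme.Modules.pullback p).obj M')) := by
      rw [← mc_eq_iff]
      simp only [mc_BB, mc_tensor, mc_tensorPow]
      ac_rfl
    obtain ⟨e2⟩ := e2
    exact S2329.isAmple_of_iso e2 (hm₁ m₁ le_rfl).1
  -- the inverse of `G`
  obtain ⟨Gi, hGi, hGinv⟩ := exists_inverse hG₀
  have hGilf := isFinLocFree_of_isInvertible hGi
  have hfp := Desc.FinLocFreeSections.isFP_of_isFinLocFree hGilf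
  have hfl := Sga2lef.H298.VanX0Core.isFlatOver_of_isFinLocFree f₀ hGilf
  have hconn : ConnectedSpace X := inferInstance
  have hgc : GeometricallyConnected (X ↘ Spec (CommRingCat.of k)) := geometricallyConnected_of_isSepClosed
  -- the complement of the divisor
  let W₀ : X₀.Opens := ⟨(I₀.support : Set X₀)ᶜ, I₀.support.2.isOpen_compl⟩
  have hxW : p (genericPoint X) ∈ W₀ := by
    intro h
    refine genericPoint_notMem_support hD ?_
    rw [← eI, Scheme.IdealSheafData.support_comap]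
    exact h
  -- a good point
  obtain ⟨N₀, hN₀⟩ := Pts.ev_exists_point (((((((ev_finrank H hS hfp hfl 1).and (ev_irreducible H hS)).and
    (ev_dim H hS N hdim)).and (ev_meets H hS V (genericPoint X) hxV)).and
    (ev_meets H hS W₀ (genericPoint X) hxW)).and
    (EvFree.ev_nfree H hS hufd hn (by rw [eI]; exact hD) (by rw [eI]; exact hfree) (by rw [eJ, eI]))).and
    ((ev_ample H hS (isInvertible_AA hG₀ n hI₀) hAX).and
      (ev_ample H hS (isInvertible_BB hG₀ hM'i n m₁ hI₀) hBX)))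
  obtain ⟨ℓ, hℓp, hℓ, hℓn⟩ := Nat.exists_prime_gt_modEq_one (k := n) (N₀ + n * (m₁ + 1)) (by omega)
  have hFact : Fact ℓ.Prime := ⟨hℓp⟩
  obtain ⟨c, hc⟩ : ∃ c, ℓ = n * c + 1 := by
    obtain ⟨c, hc⟩ := (Nat.modEq_iff_dvd' hℓp.one_lt.le).mp hℓn.symm
    exact ⟨c, by have := hℓp.one_lt; omega⟩
  have hc1 : m₁ + 1 ≤ c := by
    by_contra h
    push Not at h
    have h1 : n * (c + 1) ≤ n * (m₁ + 1) := Nat.mul_le_mul_left n h
    rw [mul_add n c 1] at h1
    omega
  obtain ⟨κ, _, hfin, hchar, φ, ⟨⟨⟨⟨⟨⟨h1, h2⟩, h3⟩, h4⟩, h5⟩, h6⟩, h7, h8⟩⟩ := hN₀ ℓ hℓp (by omega)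
  let X' : Scheme.{u} := pullback f₀ (sp φ)
  let q : X' ⟶ X₀ := pullback.fst f₀ (sp φ)
  let _ : X'.Over (Spec (CommRingCat.of κ)) := ⟨pullback.snd f₀ (sp φ)⟩
  have Hq : IsPullback q (X' ↘ Spec (CommRingCat.of κ)) f₀ (sp φ) := IsPullback.of_hasPullback f₀ (sp φ)
  have i1 : IsProper (X' ↘ Spec (CommRingCat.of κ)) := MorphismProperty.of_isPullback Hq iprop
  have i2 : Smooth (X' ↘ Spec (CommRingCat.of κ)) := MorphismProperty.of_isPullback Hq ism
  have i3 : IrreducibleSpace X' := h2.apply X' q _ Hq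
  have i4 : IsIntegral X' := SmDim.isIntegral_of_smooth κ X'
  have i5 : IsLocallyNoetherian X' := LocallyOfFiniteType.isLocallyNoetherian (X' ↘ Spec (CommRingCat.of κ))
  have hdim' : topologicalKrullDim X' = N := h3.apply X' q _ Hq
  obtain ⟨y, hy, -⟩ := h5 X' q _ Hq (IsLocalRing.closedPoint κ)
  have hD' : BlowUp.IsEffCartierIdeal (I₀.comap q) := EvFree.isEff_comap_of_meets q hI₀ y hy
  have hfree' : NFree n (I₀.comap q) := h6.apply X' q _ Hq hD'
  obtain ⟨θ', hθ'⟩ := HomExt.exists_family_omega θ he hν hθ Hq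
  obtain ⟨y', hy', -⟩ := h4 X' q _ Hq (IsLocalRing.closedPoint κ)
  have hA' : CohB1.IsAmple (AA ((Scheme.Modules.pullback q).obj G₀) n (I₀.comap q)) := by
    obtain ⟨e1⟩ := nonempty_pull_AA q (G := G₀) hG₀ n hI₀ hD' rfl ⟨Iso.refl _⟩
    exact S2329.isAmple_of_iso e1 (h7 X' q _ Hq)
  have hB' : CohB1.IsAmple (BB ((Scheme.Modules.pullback q).obj G₀) n (I₀.comap q) m₁
      ((Scheme.Modules.pullback q).obj M')) := by
    obtain ⟨e1⟩ := nonempty_pull_BB q (G := G₀) (M := M') hG₀ n m₁ hI₀ hD' rfl ⟨Iso.refl _⟩ ⟨Iso.refl _⟩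
    exact S2329.isAmple_of_iso e1 (h8 X' q _ Hq)
  have hvan : Subsingleton (Coh.HH X' ((Scheme.Modules.pullback q).obj Gi) 1) :=
    KVFib.vanish hc (by omega) (by omega) hN hdim' (Sga2lef.H298.VanX0Core.isInverseOf_pullback q hGinv) hD' hfree'
      hA' (Sga2lef.H298.VanX0Core.isInverseOf_pullback q hM') θ' ⟨y', hy'⟩ hθ' hB'
  have hfr := h1.apply X' q Hq
  rw [Module.finrank_zero_of_subsingleton] at hfr
  have hX : Subsingleton (Coh.HH X ((Scheme.Modules.pullback p).obj Gi) 1) :=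
    subsingleton_of_finrank (k := k) (Desc.FinLocFreeSections.isFP_of_isFinLocFree
      (PerfB.FlatPull.isFinLocFree_pullback p hGilf)) 1 hfr.symm
  obtain ⟨e2⟩ : Nonempty ((Scheme.Modules.pullback p).obj Gi ≅ G') :=
    Sga2lef.H24.ToPn.nonempty_iso_of_inverse (Sga2lef.H24.ToPn.isInverseOf_congr eG
      (Sga2lef.H298.VanX0Core.isInverseOf_pullback p hGinv)) hG'
  exact Fga.HShift.subsingleton_of_iso e2 1 hX

end K801.KV
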