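import Groth.Agent.AdjLin.K801.CharP
import Groth.Agent.AdjLin.K801.Asym
import Groth.Agent.AdjLin.K801.SmDim
import Mathlib.FieldTheory.Perfect

/-!
# The vanishing theorem on a smooth proper variety over a finite field
-/

set_option autoImplicit false
universe u
open CategoryTheory CategoryTheory.Limits AlgebraicGeometry Opposite Topology
open Groth.Agent

namespace K801.KVFib

open K801.CharP

/-- `CharP.main` for smooth varieties over finite fields. -/
theorem vanish {κ : Type u} [Field κ] [Finite κ] {p n q m₁ : ℕ} [Fact p.Prime] [CharP κ p]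
    (hp : p = n * q + 1) (hq : 1 ≤ q) (hm₁ : m₁ ≤ q)
    {X : Scheme.{u}} [X.Over (Spec (CommRingCat.of κ))] [IsProper (X ↘ Spec (CommRingCat.of κ))]
    [Smooth (X ↘ Spec (CommRingCat.of κ))] [IsIntegral X] {N : ℕ} (hN : 2 ≤ N) (hdim : topologicalKrullDim X = N)
    {G G' : X.Modules} (hG' : ClSub.IsInverseOf G' G)
    {D : X.IdealSheafData} (hD : BlowUp.IsEffCartierIdeal D) (hfree : NFree n D)
    (hA : CohB1.IsAmple (CohB1.tensorMod (CohB1.tensorPow G n) (ClSub.idealMod D)))
    {M M' : X.Modules} (hM' : ClSub.IsInverseOf M' M)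
    {ι : Type*} (θ : ι → (Omega.sheaf (X ↘ Spec (CommRingCat.of κ)) ⟶ M)) {V₀ : X.Opens}
    (hV₀ : (V₀ : Set X).Nonempty)
    (hθ : ∀ (U : X.Opens), U ≤ V₀ → ∀ (s : Γ(Omega.sheaf (X ↘ Spec (CommRingCat.of κ)), U)),
      (∀ i, (θ i).app U s = 0) → s = 0)
    (hB : CohB1.IsAmple (CohB1.tensorMod (CohB1.tensorMod (CohB1.tensorMod G (CohB1.tensorPow
      (CohB1.tensorMod (CohB1.tensorPow G n) (ClSub.idealMod D)) m₁)) (ClSub.idealMod D)) M')) :
    Subsingleton (Coh.HH X G' 1) := by
  have hperf : PerfectRing κ p := PerfectRing.ofFiniteOfIsReduced p κ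
  have hpf : PerfectField κ := inferInstance
  have hG : PicF.IsInvertible G := (Dix.IdealModCartier.isInvertible_of_isInverseOf hG').2
  have hM : PicF.IsInvertible M := (Dix.IdealModCartier.isInvertible_of_isInverseOf hM').2
  have h1 := SmDim.relDim_of_smooth κ X N hdim
  exact main hp hq hm₁ (X ↘ Spec (CommRingCat.of κ)) (SmDim.not_isAffineOpen_top (X ↘ Spec (CommRingCat.of κ)) (by omega) hdim)
    (fun x => (SmDim.ufd_of_smooth κ X x).2) hG hG' hD hfree hA hM hM' θ hV₀ hθ hB (Asym.asym (k := κ) hN hG hA)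

end K801.KVFib
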