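import Groth.Agent.AdjLin.K801.CharP
import Groth.Agent.Surf.K464.DivLat
import Groth.Agent.Divis.StalkPrime

/-!
# Multiplicities of a sum of distinct integral curves
-/

set_option autoImplicit false
universe u
open CategoryTheory CategoryTheory.Limits AlgebraicGeometry Opposite TopologicalSpace

namespace K801.NFreeCyc

open Groth.Agent Groth.Agent.Divis.EffCartier Groth.Agent.Divis.CartierBasic K464.Base K464.Curves K464.DivLat
  K801.CharP

theorem not_pow_dvd_prod {R : Type*} [CommRing R] [IsDomain R] {ι : Type*} (s : Finset ι) (c : ι → R) (δ : ι → ℕ)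
    {n : ℕ} (hc : ∀ i ∈ s, IsUnit (c i) ∨ Prime (c i))
    (hne : ∀ i ∈ s, ∀ j ∈ s, Prime (c i) → Associated (c i) (c j) → i = j) (hδ : ∀ i ∈ s, δ i < n)
    (hn : 1 ≤ n) {π : R} (hπ : Prime π) : ¬ π ^ n ∣ ∏ i ∈ s, c i ^ δ i := by
  classical
  intro h
  obtain ⟨m, rfl⟩ : ∃ m, n = m + 1 := ⟨n - 1, by omega⟩
  have h1 : π ∣ ∏ i ∈ s, c i ^ δ i := (dvd_pow_self π (by omega)).trans h
  obtain ⟨i, hi, hdvd⟩ := (Prime.dvd_finsetProd_iff hπ _).mp h1
  have h2 : π ∣ c i := hπ.dvd_of_dvd_pow hdvd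
  have hci : Prime (c i) := (hc i hi).resolve_left fun hu => hπ.not_unit (isUnit_of_dvd_unit h2 hu)
  have hass : Associated π (c i) := hπ.associated_of_dvd hci h2
  have hr : ¬ π ∣ ∏ j ∈ s.erase i, c j ^ δ j := by
    intro h3
    obtain ⟨j, hj, hdvd'⟩ := (Prime.dvd_finsetProd_iff hπ _).mp h3
    have h4 : π ∣ c j := hπ.dvd_of_dvd_pow hdvd'
    have hj' := Finset.mem_of_mem_erase hj
    have hcj : Prime (c j) := (hc j hj').resolve_left fun hu => hπ.not_unit (isUnit_of_dvd_unit h4 hu)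
    have hass' : Associated π (c j) := hπ.associated_of_dvd hcj h4
    exact Finset.ne_of_mem_erase hj (hne i hi j hj' hci (hass.symm.trans hass')).symm
  rw [← Finset.mul_prod_erase s _ hi] at h
  obtain ⟨e, he⟩ : ∃ e, m + 1 = δ i + (e + 1) := ⟨m - δ i, by have := hδ i hi; omega⟩
  rw [he, pow_add] at h
  have h5 : Associated (c i ^ δ i) (π ^ δ i) := (hass.symm.pow_pow)
  have h6 : π ^ δ i * π ^ (e + 1) ∣ π ^ δ i * ∏ j ∈ s.erase i, c j ^ δ j :=
    h.trans ((h5.mul_right _).dvd)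
  have h7 : π ^ (e + 1) ∣ ∏ j ∈ s.erase i, c j ^ δ j :=
    (mul_dvd_mul_iff_left (pow_ne_zero _ hπ.ne_zero)).mp h6
  exact hr ((dvd_pow_self π (by omega)).trans h7)

variable {X : Scheme.{u}} [IsIntegral X] {ι : Type*} [Fintype ι] {C : ι → X.IdealSheafData}

theorem eq_of_stalkIdeal_eq (hC : ∀ i, IsCurve (C i)) (hinj : Function.Injective C) {i j : ι} {x : X}
    (hi : x ∈ (C i).support) (h : stalkIdeal (C i) x = stalkIdeal (C j) x) : i = j := by
  have hj : x ∈ (C j).support := by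
    rw [mem_support_iff_stalkIdeal_ne_top] at hi ⊢
    rwa [← h]
  have := (hC i).integral
  have := (hC j).integral
  have h1 := Divis.StalkPrime.ptOf_stalkIdeal (C i) hi
  have h2 := Divis.StalkPrime.ptOf_stalkIdeal (C j) hj
  have h3 : (⟨stalkIdeal (C i) x, Divis.StalkPrime.isPrime_stalkIdeal (C i) hi⟩ :
      PrimeSpectrum (X.presheaf.stalk x)) = ⟨stalkIdeal (C j) x, Divis.StalkPrime.isPrime_stalkIdeal (C j) hj⟩ :=
    PrimeSpectrum.ext h
  rw [h3, h2] at h1
  refine hinj (eq_of_gp_mem (hC i) (hC j) ?_)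
  have h4 : gp (hC i) = gp (hC j) := h1.symm
  rw [h4]
  exact gp_mem (hC j)

/-- The multiplicities of a cycle `∑ δ_i C_i`. -/
theorem nfree_cyc (hC : ∀ i, IsCurve (C i)) (hE : ∀ i, BlowUp.IsEffCartierIdeal (C i))
    (hinj : Function.Injective C) {δ : ι → ℕ} {n : ℕ} (hn : 1 ≤ n) (hδ : ∀ i, δ i < n) : NFree n (cyc C δ) := by
  classical
  intro U a x hx ha π hπ hdvd
  choose c hc0 hc using fun i => exists_stalkIdeal_eq_span (hE i) x
  have h1 : stalkIdeal (cyc C δ) x = Ideal.span {X.presheaf.germ U.1 x hx a} := by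
    rw [stalkIdeal_eq _ U hx, ha, Ideal.map_span, Set.image_singleton]
  have h2 : stalkIdeal (cyc C δ) x = Ideal.span {∏ i, c i ^ δ i} := by
    unfold cyc
    rw [stalkIdeal_prod, ← Ideal.prod_span_singleton]
    exact Finset.prod_congr rfl fun i _ => by rw [stalkIdeal_pow, hc, Ideal.span_singleton_pow]
  have h3 : Associated (X.presheaf.germ U.1 x hx a) (∏ i, c i ^ δ i) := by
    rw [← Ideal.span_singleton_eq_span_singleton, ← h1, h2]
  refine not_pow_dvd_prod Finset.univ c δ (fun i _ => ?_) (fun i _ j _ hp hass => ?_) (fun i _ => hδ i) hn hπ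
    (hdvd.trans h3.dvd)
  · by_cases hxi : x ∈ (C i).support
    · right
      have := (hC i).integral
      have h4 := Divis.StalkPrime.isPrime_stalkIdeal (C i) hxi
      rw [hc i] at h4
      exact (Ideal.span_singleton_prime (nonZeroDivisors.ne_zero (hc0 i))).mp h4
    · left
      have h4 := stalkIdeal_eq_top hxi
      rw [hc i] at h4
      exact Ideal.span_singleton_eq_top.mp h4
  · have hxi : x ∈ (C i).support := by
      rw [mem_support_iff_stalkIdeal_ne_top, hc i]
      intro h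
      exact hp.not_unit (Ideal.span_singleton_eq_top.mp h)
    refine eq_of_stalkIdeal_eq hC hinj hxi ?_
    rw [hc i, hc j, Ideal.span_singleton_eq_span_singleton]
    exact hass

end K801.NFreeCyc
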