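import Groth.Agent.AdjLin.K801.Reider

/-!
# Kawamata–Viehweg vanishing for nef and big `Q`-divisors on surfaces, `H^1(G^{-1}) = 0`

`main`: `G^n(-D)` nef with positive self-intersection, `D = ∑ v_i C_i`, `v_i < n`.
`main'`: the same with the condition on `D` as: `D ≤ C^j` implies `j < n` for all integral curves `C`.
-/

set_option autoImplicit false
universe u
open CategoryTheory CategoryTheory.Limits AlgebraicGeometry TopologicalSpace

namespace K801.NefBig

set_option linter.unusedSectionVars false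

open Groth.Agent Groth.Agent.Grpsch.PicGrp K464.Base K464.Curves K464.DivLat K801.DotForm K801.Bridge
  Groth.Agent.Dix.IdealModCartier Groth.Agent.Divis.EffCartier

variable {k : Type u} [Field k] [IsAlgClosed k] [CharZero k] {X : Scheme.{u}} [X.Over (Spec (CommRingCat.of k))]
  [IsProper (X ↘ Spec (CommRingCat.of k))] [Smooth (X ↘ Spec (CommRingCat.of k))] [IsIntegral X]
  (hdim : topologicalKrullDim X = 2) {H : X.Modules} (hH : CohB1.IsAmple H)

include hdim hH

theorem main' {G G' : X.Modules} (hG : PicF.IsInvertible G) (hG' : ClSub.IsInverseOf G' G) {n : ℕ} (hn : 1 ≤ n)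
    {D : X.IdealSheafData} (hD : BlowUp.IsEffCartierIdeal D)
    (hmult : ∀ C : X.IdealSheafData, IsCurve C → ∀ j : ℕ, D ≤ C ^ j → j < n)
    (hnef : ∀ C : X.IdealSheafData, IsCurve C → 0 ≤ degOn k X C (mk G hG ^ n * ic D hD))
    (hbig : 0 < dot k X (mk G hG ^ n * ic D hD) (mk G hG ^ n * ic D hD)) :
    Subsingleton (Coh.HH X G' 1) := by
  have hNoe : IsNoetherian X := Fga.IntAdd.isNoetherian k X
  obtain ⟨P, hP, hPc⟩ := exists_mk (mk G hG ^ n * ic D hD)
  rw [hPc] at hbig
  have hnef' : ∀ C : X.IdealSheafData, IsCurve C → 0 ≤ degOn k X C (mk P hP) := fun C hC => by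
    rw [← hPc]
    exact hnef C hC
  have hPH : 0 < dot k X (mk P hP) (mk H hH.1) :=
    K801.Reider.dot_pos_of_nonneg hdim hH hbig (dot_ample_pos hdim hH) (K801.Reider.dot_ample_nonneg hdim hnef' hH)
  obtain ⟨N, A, hA, DA, F, hDA, hF, hN, hAc, hPN⟩ := exists_big hdim hH hP hbig hPH
  -- the curves of `D + F`
  obtain ⟨r, C, v₀, hC, hinj, -, hDF⟩ := K464.Comp.exists_eq_cyc k (X ↘ Spec (CommRingCat.of k)) hdim
    (K801.BlowY.regular (k := k)) (D * F) (isEff_mul hD hF)
  have hE : ∀ i, BlowUp.IsEffCartierIdeal (C i) := fun i => isEff_of_smooth k hdim (hC i)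
  have hsupp : ∀ J : X.IdealSheafData, D * F ≤ J → (J.support : Set X) ⊆ ⋃ i, ((C i).support : Set X) := fun J hJ => by
    have h1 : (J.support : Set X) ⊆ ((cyc C v₀).support : Set X) := by
      rw [← hDF]
      exact Scheme.IdealSheafData.support_antitone hJ
    exact h1.trans (support_cyc_subset v₀)
  obtain ⟨v, hv⟩ := exists_cyc hC hE hD (hsupp D (mul_le_left D F))
  obtain ⟨w, hw⟩ := exists_cyc hC hE hF (hsupp F (mul_le_right' D F))
  have hvn : ∀ i, v i < n := fun i => by
    refine hmult (C i) (hC i) (v i) ?_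
    rw [hv]
    have h1 : cyc C (Pi.single i (v i)) = C i ^ v i := by
      have h2 : Pi.single i (v i) = v i • (Pi.single i 1 : Fin r → ℕ) := by
        rw [← Pi.single_smul]
        simp
      rw [h2, cyc_nsmul, cyc_single]
    rw [← h1]
    refine cyc_antitone (C := C) ?_
    intro j
    by_cases h : j = i
    · subst h; simp
    · simp [Pi.single_apply, h]
  -- the multiplier
  obtain ⟨T, hT⟩ : ∃ T : ℕ, ∀ i, w i < T := by
    refine ⟨(Finset.univ.sup w) + 1, fun i => ?_⟩
    exact Nat.lt_succ_of_le (Finset.le_sup (f := w) (Finset.mem_univ i))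
  have hu : ∀ i, (N * (T + 1)) * v i + w i < n * (N * (T + 1)) := fun i => by
    have h1 := hvn i
    have h2 := hT i
    have h3 : N * (T + 1) * v i + N * (T + 1) ≤ n * (N * (T + 1)) := by
      calc N * (T + 1) * v i + N * (T + 1) = (v i + 1) * (N * (T + 1)) := by ring
        _ ≤ n * (N * (T + 1)) := Nat.mul_le_mul_right _ h1
    have h4 : w i < N * (T + 1) := lt_of_lt_of_le (lt_trans h2 (Nat.lt_succ_self T)) (Nat.le_mul_of_pos_left _ hN)
    omega
  have hn' : 1 ≤ n * (N * (T + 1)) := Nat.mul_pos hn (Nat.mul_pos hN (Nat.succ_pos T))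
  set u : Fin r → ℕ := (N * (T + 1)) • v + w with hudef
  have hcyc : cyc C u = D ^ (N * (T + 1)) * F := by
    rw [hudef, cyc_add, cyc_nsmul, ← hv, ← hw]
  have hnefP : K909.Kleiman.Nef k X P := (nef_iff k hdim.le hP).2 hnef'
  have hamp := K909.Kleiman.isAmple_combo (nak := K424.NakMain.nak k) (hd := hdim.le) (hnef := hnefP) hP hA (N * T) 1
    one_pos
  refine K801.KV.vanish (k := k) le_rfl hdim hG' hn' (isEff_cyc hE u)
    (NFreeCyc.nfree_cyc hC hE hinj hn' hu) ?_
  have hGi := Fdesc.LocGen.isInvertible_tensorPow hG (n * (N * (T + 1)))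
  have e : Nonempty (K909.Kleiman.combo X P A (N * T) 1 ≅ CohB1.tensorMod (CohB1.tensorPow G (n * (N * (T + 1))))
      (ClSub.idealMod (cyc C u))) := by
    rw [← mk_eq_iff (K909.Kleiman.isInvertible_combo X hP hA.1 (N * T) 1)
      (Fdesc.LocGen.isInvertible_tensorMod hGi (isInvertible_idealMod (isEff_cyc hE u))), K909.Kleiman.mk_combo X hP hA.1,
      ← mk_mul_mk hGi (isInvertible_idealMod (isEff_cyc hE u)), mk_tensorPow hG]
    have h1 : mk (ClSub.idealMod (cyc C u)) (isInvertible_idealMod (isEff_cyc hE u)) =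
        ic D hD ^ (N * (T + 1)) * ic F hF := by
      change ic (cyc C u) (isEff_cyc hE u) = _
      rw [ic_congr (isEff_cyc hE u) (isEff_mul (isEff_pow hD _) hF) hcyc, ic_mul (isEff_pow hD _) hF, ic_pow hD]
    rw [h1, pow_one, hAc]
    have h2 : mk P hP ^ (N * (T + 1)) = (mk P hP) ^ (N * T) * ((ic DA hDA)⁻¹ * (ic F hF)⁻¹) := by
      rw [← hPN, ← pow_add]
      congr 1
    have h3 : mk G hG ^ (n * (N * (T + 1))) * (ic D hD ^ (N * (T + 1)) * ic F hF) =
        mk P hP ^ (N * (T + 1)) * ic F hF := by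
      rw [← hPc, mul_pow, ← pow_mul, mul_assoc]
    rw [h3, h2, mul_assoc, mul_assoc, inv_mul_cancel, mul_one]
  obtain ⟨e⟩ := e
  exact S2329.isAmple_of_iso e hamp

theorem main {G G' : X.Modules} (hG : PicF.IsInvertible G) (hG' : ClSub.IsInverseOf G' G) {n : ℕ} (hn : 1 ≤ n)
    {ι : Type*} [Fintype ι] {C : ι → X.IdealSheafData} (hC : ∀ i, IsCurve (C i)) (hinj : Function.Injective C)
    (hE : ∀ i, BlowUp.IsEffCartierIdeal (C i)) {v : ι → ℕ} (hv : ∀ i, v i < n)
    (hnef : ∀ B : X.IdealSheafData, IsCurve B → 0 ≤ degOn k X B (mk G hG ^ n * ic (cyc C v) (isEff_cyc hE v)))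
    (hbig : 0 < dot k X (mk G hG ^ n * ic (cyc C v) (isEff_cyc hE v))
      (mk G hG ^ n * ic (cyc C v) (isEff_cyc hE v))) :
    Subsingleton (Coh.HH X G' 1) := by
  classical
  refine main' hdim hH hG hG' hn (isEff_cyc hE v) (fun B hB j hj => ?_) hnef hbig
  by_cases hi : ∃ i, C i = B
  · obtain ⟨i, rfl⟩ := hi
    have h1 : cyc C (j • (Pi.single i 1 : ι → ℕ)) = C i ^ j := by rw [cyc_nsmul, cyc_single]
    rw [← h1, cyc_le_iff hC hE hinj] at hj
    have h2 := hj i
    simp at h2
    exact lt_of_le_of_lt h2 (hv i)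
  · rcases Nat.eq_zero_or_pos j with h0 | h0
    · omega
    · exfalso
      have h1 : cyc C v ≤ B := hj.trans (by
        obtain ⟨j, rfl⟩ := Nat.exists_eq_succ_of_ne_zero h0.ne'
        rw [pow_succ]
        exact mul_le_right' _ _)
      have h2 := support_cyc_subset (C := C) v ((le_iff_gp_mem hB _).1 h1)
      obtain ⟨i, h3⟩ := Set.mem_iUnion.1 h2
      exact hi ⟨i, (eq_of_gp_mem hB (hC i) h3).symm⟩

end K801.NefBig
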