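import Groth.Agent.DelIll.K890.Generic
import Mathlib.AlgebraicGeometry.PullbackCarrier

/-!
# Models near the generic fibre

`X₀ → Spec S` a model of `X → Spec k`, `p : X ⟶ X₀`.
* `flat_sv`, `exists_preimage`: `p` is flat and covers the generic fibre.
* `mem_nhds_of_range`: an open `U₀` containing the image of `p` contains the fibres over a neighbourhood of `η`.
* `ev_range`: base changes along general `φ` map to `U₀`.
* `ev_meets`: base changes along general `φ` meet `U₀` if `p` does (`X₀` flat).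
-/

set_option autoImplicit false
universe u
open CategoryTheory CategoryTheory.Limits AlgebraicGeometry Topology

namespace K801.Stage

open K890.Spread K890.Model K890.Generic

variable {k : Type u} [Field k] (S : Subalgebra ℤ k)

theorem flat_sv : Flat (sv S) := by
  let _ : Algebra (FractionRing S) k := FractionRing.liftAlgebra S k
  have : IsScalarTower S (FractionRing S) k := FractionRing.isScalarTower_liftAlgebra S k
  have h1 : Module.Flat S k := Module.Flat.trans S (FractionRing S) k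
  rw [Flat.SpecMap_iff]
  exact h1


theorem isFlat_p {X X₀ : Scheme.{u}} {f : X ⟶ Spec (CommRingCat.of k)} {f₀ : X₀ ⟶ Spec (CommRingCat.of S)}
    {p : X ⟶ X₀} (H : IsPullback p f f₀ (sv S)) : Flat p :=
  have := flat_sv S
  MorphismProperty.of_isPullback H.flip inferInstance

theorem exists_preimage {X Y Z T : Scheme.{u}} {p : X ⟶ Y} {f : X ⟶ T} {g : Y ⟶ Z} {t : T ⟶ Z}
    (H : IsPullback p f g t) (y : Y) (z : T) (h : g y = t z) : ∃ x : X, p x = y ∧ f x = z := by
  obtain ⟨w, h1, h2⟩ := Scheme.Pullback.exists_preimage_pullback (f := g) (g := t) y z h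
  refine ⟨H.isoPullback.inv w, ?_, ?_⟩
  · rw [← h1, ← H.isoPullback_inv_fst, Scheme.Hom.comp_apply]
  · rw [← h2, ← H.isoPullback_inv_snd, Scheme.Hom.comp_apply]

variable {S} {X X₀ : Scheme.{u}} {f : X ⟶ Spec (CommRingCat.of k)} {f₀ : X₀ ⟶ Spec (CommRingCat.of S)}
  {p : X ⟶ X₀}

theorem exists_of_generic (H : IsPullback p f f₀ (sv S)) (x₀ : X₀)
    (h : f₀ x₀ = genericPoint (Spec (CommRingCat.of S))) : ∃ x : X, p x = x₀ := by
  obtain ⟨x, hx, -⟩ := exists_preimage H x₀ (IsLocalRing.closedPoint k) (by rw [h, sv_apply])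
  exact ⟨x, hx⟩

theorem map_p (H : IsPullback p f f₀ (sv S)) (x : X) : f₀ (p x) = genericPoint (Spec (CommRingCat.of S)) := by
  rw [← Scheme.Hom.comp_apply, H.w, Scheme.Hom.comp_apply, sv_apply]

/-- An open containing the image of `X` contains the fibres over a neighbourhood of the generic point. -/
theorem mem_nhds_of_range [UniversallyClosed f₀] (H : IsPullback p f f₀ (sv S)) (U₀ : X₀.Opens)
    (hU₀ : ∀ x : X, p x ∈ U₀) :
    {y | ∀ x₀, f₀ x₀ = y → x₀ ∈ U₀} ∈ 𝓝 (genericPoint (Spec (CommRingCat.of S))) := by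
  have h1 : {y | ∀ x₀, f₀ x₀ = y → x₀ ∈ U₀} = (f₀ '' (U₀ : Set X₀)ᶜ)ᶜ := by
    ext y
    constructor
    · rintro h ⟨x₀, hx₀, rfl⟩
      exact hx₀ (h x₀ rfl)
    · intro h x₀ hx₀
      by_contra hc
      exact h ⟨x₀, hc, hx₀⟩
  rw [h1]
  refine (Scheme.Hom.isClosedMap f₀ _ U₀.2.isClosed_compl).isOpen_compl.mem_nhds ?_
  rintro ⟨x₀, hx₀, h⟩
  obtain ⟨x, rfl⟩ := exists_of_generic H x₀ h
  exact hx₀ (hU₀ x)

theorem ev_range [UniversallyClosed f₀] (H : IsPullback p f f₀ (sv S)) (hS : S.FG) (U₀ : X₀.Opens)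
    (hU₀ : ∀ x : X, p x ∈ U₀) : Ev S (BC f₀ (fun _ _ X' q _ => ∀ x' : X', q x' ∈ U₀)) := by
  refine (ev_of_nhds hS (mem_nhds_of_range H U₀ hU₀)).mono fun T _ φ h X' q g Hq x' => ?_
  refine h (g x') (q x') ?_
  rw [← Scheme.Hom.comp_apply, Hq.w, Scheme.Hom.comp_apply]

theorem ev_meets [Flat f₀] [LocallyOfFinitePresentation f₀] (H : IsPullback p f f₀ (sv S)) (hS : S.FG)
    (U₀ : X₀.Opens) (x : X) (hx : p x ∈ U₀) :
    Ev S (BC f₀ (fun T _ X' q g => ∀ y : Spec (CommRingCat.of T), ∃ x' : X', q x' ∈ U₀ ∧ g x' = y)) := by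
  have h1 : IsOpen (f₀ '' (U₀ : Set X₀)) := f₀.isOpenMap _ U₀.2
  have h2 : f₀ '' (U₀ : Set X₀) ∈ 𝓝 (genericPoint (Spec (CommRingCat.of S))) :=
    h1.mem_nhds ⟨p x, hx, map_p H x⟩
  refine (ev_of_nhds hS h2).mono fun T _ φ h X' q g Hq y => ?_
  obtain ⟨x₀, hx₀, h3⟩ := h y
  obtain ⟨x', hx', h4⟩ := exists_preimage Hq x₀ y h3
  exact ⟨x', hx' ▸ hx₀, h4⟩

/-- Localization: a larger finitely generated subring `S'` with `Spec S' ⟶ Spec S` an open immersion into a given
neighbourhood of the generic point. -/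
theorem exists_loc_stage (hS : S.FG) {V : Set (Spec (CommRingCat.of S))}
    (hV : V ∈ 𝓝 (genericPoint (Spec (CommRingCat.of S)))) :
    ∃ (S' : Subalgebra ℤ k) (h : S ≤ S'), S'.FG ∧ IsOpenImmersion (sp (inc h)) ∧ ∀ y, sp (inc h) y ∈ V := by
  obtain ⟨U, hUV, hU, hη⟩ := mem_nhds_iff.mp hV
  obtain ⟨_, ⟨s, rfl⟩, hs, hle⟩ := PrimeSpectrum.isTopologicalBasis_basic_opens.exists_subset_of_mem_open hη hU
  rw [genericPoint_eq_bot_of_affine] at hs
  have hs0 : s ≠ 0 := by
    rintro rfl
    simp at hs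
  let T := Localization.Away s
  have hu : IsUnit (S.val.toRingHom s) := IsUnit.mk0 _ (fun h => hs0 (Subtype.ext h))
  let j : T →+* k := IsLocalization.Away.lift s hu
  have hj : ∀ a : S, j (algebraMap S T a) = (a : k) := fun a => IsLocalization.Away.lift_eq s hu a
  have hinj : Function.Injective j := by
    rw [injective_iff_map_eq_zero]
    intro t ht
    obtain ⟨a, ⟨_, n, rfl⟩, rfl⟩ := IsLocalization.exists_mk'_eq (Submonoid.powers s) t
    rw [IsLocalization.mk'_eq_zero_iff]
    have h1 := congrArg j (IsLocalization.mk'_spec T a (⟨s ^ n, n, rfl⟩ : Submonoid.powers s))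
    rw [map_mul, ht, zero_mul, hj] at h1
    refine ⟨1, ?_⟩
    rw [OneMemClass.coe_one, one_mul]
    exact Subtype.ext h1.symm
  let S' : Subalgebra ℤ k := subalgebraOfSubring j.range
  have hle' : S ≤ S' := fun a ha => ⟨algebraMap S T ⟨a, ha⟩, hj ⟨a, ha⟩⟩
  have hft : Algebra.FiniteType ℤ S := (Subalgebra.fg_iff_finiteType S).mp hS
  have hft0 : Algebra.FiniteType S T := IsLocalization.finiteType_of_monoid_fg (Submonoid.powers s) T
  have hft1 : (algebraMap ℤ T).FiniteType := by
    have h1 : ((algebraMap S T).comp (algebraMap ℤ S)).FiniteType :=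
      RingHom.FiniteType.comp (RingHom.finiteType_algebraMap.mpr hft0) (RingHom.finiteType_algebraMap.mpr hft)
    rwa [Subsingleton.elim (algebraMap ℤ T) ((algebraMap S T).comp (algebraMap ℤ S))]
  let j' : T →+* S' :=
    { toFun := fun t => ⟨j t, t, rfl⟩
      map_one' := Subtype.ext (map_one j)
      map_mul' := fun a b => Subtype.ext (map_mul j a b)
      map_zero' := Subtype.ext (map_zero j)
      map_add' := fun a b => Subtype.ext (map_add j a b) }
  have hj' : Function.Surjective j' := by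
    rintro ⟨_, t, rfl⟩
    exact ⟨t, rfl⟩
  have hj'i : Function.Injective j' := fun a b h => hinj (congrArg Subtype.val h)
  have he : j'.comp (algebraMap S T) = inc hle' := by
    ext a
    exact hj a
  have h3 : sp (inc hle') = Spec.map (CommRingCat.ofHom j') ≫ Spec.map (CommRingCat.ofHom (algebraMap S T)) := by
    rw [← Spec.map_comp, ← CommRingCat.ofHom_comp, he]
  have i1 : IsIso (Spec.map (CommRingCat.ofHom j')) := by
    have : IsIso (CommRingCat.ofHom j') := (RingEquiv.ofBijective j' ⟨hj'i, hj'⟩).toCommRingCatIso.isIso_hom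
    infer_instance
  refine ⟨S', hle', ?_, ?_, ?_⟩
  · rw [Subalgebra.fg_iff_finiteType, ← RingHom.finiteType_algebraMap]
    have h1 : (j'.comp (algebraMap ℤ T)).FiniteType := hft1.comp_surjective hj'
    rwa [Subsingleton.elim (algebraMap ℤ S') (j'.comp (algebraMap ℤ T))]
  · rw [h3]
    infer_instance
  · intro y
    apply hUV
    apply hle
    change s ∉ _
    intro hmem
    rw [h3] at hmem
    have h4 : algebraMap S T s ∈ ((Spec.map (CommRingCat.ofHom j')) y).asIdeal := hmem
    exact ((Spec.map (CommRingCat.ofHom j')) y).isPrime.ne_top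
      (Ideal.eq_top_of_isUnit_mem _ h4 (IsLocalization.Away.algebraMap_isUnit s))

end K801.Stage
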