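import Groth.Agent.AdjLin.K801.Stage
import Groth.Agent.DelIll.K890.Polarized
import Groth.Agent.S9223
import Groth.Agent.S9220
import Groth.Agent.S4788
import Groth.Agent.S2329

/-!
# Descent of modules, ideals and ampleness to a finitely generated stage

`X₀ → Spec S` a model of `X → Spec k`, `p : X ⟶ X₀`.
* `exists_module`, `exists_ideal`: a finitely presented module / ideal on `X` comes from a larger stage.
* `exists_ample_stage`, `ev_ample`: ampleness.
-/

set_option autoImplicit false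
universe u
open CategoryTheory CategoryTheory.Limits AlgebraicGeometry Opposite Topology

namespace K801.StageDesc

open K890.Spread K890.Model K890.Generic K890.Polarized Groth.Agent K801.Stage
open Groth.Agent.PerfB.ApproxRing Groth.Agent.CalgA.LimFP

variable {k : Type u} [Field k] {S : Subalgebra ℤ k} {X X₀ : Scheme.{u}} {f : X ⟶ Spec (CommRingCat.of k)}
  {f₀ : X₀ ⟶ Spec (CommRingCat.of S)} {p : X ⟶ X₀}

/-- the index of the stage -/
abbrev ix (hS : S.FG) : (Idx k)ᵒᵖ := op ⟨S, hS⟩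

theorem compat (H : IsPullback p f f₀ (sv S)) {S' : Subalgebra ℤ k} (h : S ≤ S')
    {q : X ⟶ pullback f₀ (sp (inc h))} (h1 : q ≫ pullback.fst f₀ (sp (inc h)) = p)
    (h2 : q ≫ pullback.snd f₀ (sp (inc h)) = f ≫ sv S') :
    IsPullback q f (pullback.snd f₀ (sp (inc h))) (sv S') := by
  refine IsPullback.of_right ?_ h2 (IsPullback.of_hasPullback f₀ (sp (inc h)))
  rw [h1, sv_inc]
  exact H

section Desc

variable [QuasiCompact f₀] [QuasiSeparated f₀]

/-- Every finitely presented module comes from a larger stage. -/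
theorem exists_module (H : IsPullback p f f₀ (sv S)) (hS : S.FG) {F : X.Modules} (hF : CohB1.IsFP F) :
    ∃ (S' : Subalgebra ℤ k) (hle : S ≤ S') (_ : S'.FG) (p' : X ⟶ pullback f₀ (sp (inc hle)))
      (F' : (pullback f₀ (sp (inc hle))).Modules), p' ≫ pullback.fst f₀ (sp (inc hle)) = p ∧
      IsPullback p' f (pullback.snd f₀ (sp (inc hle))) (sv S') ∧ CohB1.IsFP F' ∧
      Nonempty ((Scheme.Modules.pullback p').obj F' ≅ F) := by
  let i : (Idx k)ᵒᵖ := ix hS
  let g₀ : X₀ ⟶ (specDiag k).obj i := f₀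
  have H' : IsPullback p f g₀ ((specCone k).π.app i) := H
  have i1 : QuasiCompact g₀ := inferInstanceAs (QuasiCompact f₀)
  have i2 : QuasiSeparated g₀ := inferInstanceAs (QuasiSeparated f₀)
  let C : Cone (bcDiagram (specDiag k) g₀) := bcCone (c := specCone k) (f' := (f : X ⟶ (specCone k).pt)) H'
  have hc : IsLimit C := isLimitBcCone (specIsLimit k) H'
  have h1 : ∀ (j l : Over i) (a : j ⟶ l), IsAffineHom ((bcDiagram (specDiag k) g₀).map a) :=
    fun _ _ a => isAffineHom_bcDiagram_map a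
  have h2 : ∀ j : Over i, CompactSpace ((bcDiagram (specDiag k) g₀).obj j) :=
    fun j => compactSpace_bcDiagram_obj j
  have h3 : ∀ j : Over i, QuasiSeparatedSpace ((bcDiagram (specDiag k) g₀).obj j) :=
    fun j => quasiSeparatedSpace_bcDiagram_obj j
  have hFq : Coh.IsQCoh F := Groth.Agent.Models2.FPCoh.isQCoh_of_isFP hF
  obtain ⟨j, -, F', -, hF', ⟨e⟩⟩ := @Groth.Agent.S4788.result _ _ _ (bcDiagram (specDiag k) g₀)
    C hc h1 (Over.mk (𝟙 i)) (h2 _) (h3 _) F hFq hF
  have hle : S ≤ j.left.unop.1 := j.hom.unop.le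
  let p' : X ⟶ pullback f₀ (sp (inc hle)) := C.π.app j
  have e1 : p' ≫ pullback.fst f₀ (sp (inc hle)) = p := pullback.lift_fst _ _ _
  have e2 : p' ≫ pullback.snd f₀ (sp (inc hle)) = f ≫ sv j.left.unop.1 := pullback.lift_snd _ _ _
  exact ⟨j.left.unop.1, hle, j.left.unop.2, p', F', e1, compat H hle e1 e2, hF', ⟨e⟩⟩

/-- Every finitely generated ideal comes from a larger stage. -/
theorem exists_ideal (H : IsPullback p f f₀ (sv S)) (hS : S.FG) (J : X.IdealSheafData)
    (hJ : ∀ U : X.affineOpens, (J.ideal U).FG) :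
    ∃ (S' : Subalgebra ℤ k) (hle : S ≤ S') (_ : S'.FG) (p' : X ⟶ pullback f₀ (sp (inc hle)))
      (J' : (pullback f₀ (sp (inc hle))).IdealSheafData), p' ≫ pullback.fst f₀ (sp (inc hle)) = p ∧
      IsPullback p' f (pullback.snd f₀ (sp (inc hle))) (sv S') ∧ J'.comap p' = J := by
  let i : (Idx k)ᵒᵖ := ix hS
  let g₀ : X₀ ⟶ (specDiag k).obj i := f₀
  have H' : IsPullback p f g₀ ((specCone k).π.app i) := H
  have i1 : QuasiCompact g₀ := inferInstanceAs (QuasiCompact f₀)
  have i2 : QuasiSeparated g₀ := inferInstanceAs (QuasiSeparated f₀)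
  let C : Cone (bcDiagram (specDiag k) g₀) := bcCone (c := specCone k) (f' := (f : X ⟶ (specCone k).pt)) H'
  have hc : IsLimit C := isLimitBcCone (specIsLimit k) H'
  have h1 : ∀ (j l : Over i) (a : j ⟶ l), IsAffineHom ((bcDiagram (specDiag k) g₀).map a) :=
    fun _ _ a => isAffineHom_bcDiagram_map a
  have h2 : ∀ j : Over i, CompactSpace ((bcDiagram (specDiag k) g₀).obj j) :=
    fun j => compactSpace_bcDiagram_obj j
  have h3 : ∀ j : Over i, QuasiSeparatedSpace ((bcDiagram (specDiag k) g₀).obj j) :=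
    fun j => quasiSeparatedSpace_bcDiagram_obj j
  obtain ⟨j, J', -, e⟩ := @Groth.Agent.S9220.result _ _ _ (bcDiagram (specDiag k) g₀)
    C hc h1 h2 h3 J hJ
  have hle : S ≤ j.left.unop.1 := j.hom.unop.le
  let p' : X ⟶ pullback f₀ (sp (inc hle)) := C.π.app j
  have e1 : p' ≫ pullback.fst f₀ (sp (inc hle)) = p := pullback.lift_fst _ _ _
  have e2 : p' ≫ pullback.snd f₀ (sp (inc hle)) = f ≫ sv j.left.unop.1 := pullback.lift_snd _ _ _
  exact ⟨j.left.unop.1, hle, j.left.unop.2, p', J', e1, compat H hle e1 e2, e⟩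

end Desc

section Ample

variable [QuasiCompact f₀] [QuasiSeparated f₀]

/-- If the pull-back to `X` is ample then so is the pull-back to a larger stage. -/
theorem exists_ample_stage (H : IsPullback p f f₀ (sv S)) (hS : S.FG) {L : X₀.Modules} (hL : PicF.IsInvertible L)
    (h : CohB1.IsAmple ((Scheme.Modules.pullback p).obj L)) :
    ∃ (S' : Subalgebra ℤ k) (hle : S ≤ S') (_ : S'.FG),
      CohB1.IsAmple ((Scheme.Modules.pullback (pullback.fst f₀ (sp (inc hle)))).obj L) := by
  let i : (Idx k)ᵒᵖ := ix hS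
  let g₀ : X₀ ⟶ (specDiag k).obj i := f₀
  have H' : IsPullback p f g₀ ((specCone k).π.app i) := H
  have i1 : QuasiCompact g₀ := inferInstanceAs (QuasiCompact f₀)
  have i2 : QuasiSeparated g₀ := inferInstanceAs (QuasiSeparated f₀)
  let C : Cone (bcDiagram (specDiag k) g₀) := bcCone (c := specCone k) (f' := (f : X ⟶ (specCone k).pt)) H'
  have hc : IsLimit C := isLimitBcCone (specIsLimit k) H'
  have h1 : ∀ (j l : Over i) (a : j ⟶ l), IsAffineHom ((bcDiagram (specDiag k) g₀).map a) :=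
    fun _ _ a => isAffineHom_bcDiagram_map a
  have h2 : ∀ j : Over i, CompactSpace ((bcDiagram (specDiag k) g₀).obj j) :=
    fun j => compactSpace_bcDiagram_obj j
  have h3 : ∀ j : Over i, QuasiSeparatedSpace ((bcDiagram (specDiag k) g₀).obj j) :=
    fun j => quasiSeparatedSpace_bcDiagram_obj j
  let i₀ : Over i := Over.mk (𝟙 i)
  let t₀ : (bcDiagram (specDiag k) g₀).obj i₀ ⟶ X₀ := pullback.fst g₀ ((specDiag k).map i₀.hom)
  have e0 : C.π.app i₀ ≫ t₀ = p := pullback.lift_fst _ _ _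
  have hamp : CohB1.IsAmple ((Scheme.Modules.pullback (C.π.app i₀)).obj
      ((Scheme.Modules.pullback t₀).obj L)) :=
    Groth.Agent.S2329.isAmple_of_iso (((Scheme.Modules.pullbackComp _ t₀).app L ≪≫
      (Scheme.Modules.pullbackCongr e0).app L).symm) h
  obtain ⟨j, a, hj⟩ := @Groth.Agent.S9223.result _ _ _ (bcDiagram (specDiag k) g₀)
    C hc h1 h2 h3 i₀ _ (Groth.Agent.PerfB.LimMod.isInvertible_pullback t₀ hL) hamp
  have hle : S ≤ j.left.unop.1 := j.hom.unop.le
  have e1 : (bcDiagram (specDiag k) g₀).map a ≫ t₀ = pullback.fst f₀ (sp (inc hle)) := pullback.lift_fst _ _ _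
  exact ⟨j.left.unop.1, hle, j.left.unop.2, Groth.Agent.S2329.isAmple_of_iso
    ((Scheme.Modules.pullbackComp _ t₀).app L ≪≫ (Scheme.Modules.pullbackCongr e1).app L) hj⟩

/-- Ampleness spreads out. -/
theorem ev_ample (H : IsPullback p f f₀ (sv S)) (hS : S.FG) {L : X₀.Modules} (hL : PicF.IsInvertible L)
    (h : CohB1.IsAmple ((Scheme.Modules.pullback p).obj L)) :
    Ev S (BC f₀ (fun _ _ _ q _ => CohB1.IsAmple ((Scheme.Modules.pullback q).obj L))) := by
  obtain ⟨S', hle, hS', hamp⟩ := exists_ample_stage H hS hL h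
  refine ev_of_stage f₀ hle (Ev.of_forall hS' fun T _ φ X' q g hq => ?_)
  exact Groth.Agent.S2329.isAmple_of_iso ((Scheme.Modules.pullbackComp q _).app L) (isAmple_bc hamp φ hq)

end Ample

end K801.StageDesc
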