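import Mathlib.Topology.Order.Compact
import Mathlib.Topology.Instances.Real.Lemmas
import Mathlib.LinearAlgebra.Matrix.ToLinearEquiv
import Mathlib.Topology.Algebra.Module.FiniteDimension
import Mathlib.Tactic

/-!
# The linear algebra of Zariski decompositions

`exists_zariski`: `q` a square matrix of integers, nonnegative off the diagonal, `a ≥ 0`: among the `0 ≤ y ≤ a` with `q y ≥ 0`
there is a largest one `x`; it is rational and `(q x)_i = 0` whenever `x_i < a_i`.
-/

set_option autoImplicit false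

open Topology Filter

namespace K801.ZarLin

variable {ι : Type*} [Fintype ι]

/-- the set of candidates -/
def K (q : ι → ι → ℤ) (a : ι → ℕ) : Set (ι → ℝ) :=
  {y | (∀ i, 0 ≤ y i) ∧ (∀ i, y i ≤ a i) ∧ ∀ i, 0 ≤ ∑ j, y j * q i j}

theorem isCompact_K (q : ι → ι → ℤ) (a : ι → ℕ) : IsCompact (K q a) := by
  have h1 : K q a = Set.Icc (0 : ι → ℝ) (fun i => (a i : ℝ)) ∩ ⋂ i, {y : ι → ℝ | 0 ≤ ∑ j, y j * q i j} := by
    ext y
    simp only [K, Set.mem_ofPred_eq, Set.mem_inter_iff, Set.mem_Icc, Set.mem_iInter, Pi.le_def, Pi.zero_apply]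
    tauto
  rw [h1]
  refine isCompact_Icc.inter_right (isClosed_iInter fun i => ?_)
  exact isClosed_le continuous_const (by fun_prop)

theorem sup_mem {q : ι → ι → ℤ} (hoff : ∀ i j, i ≠ j → 0 ≤ q i j) {a : ι → ℕ} {x y : ι → ℝ} (hx : x ∈ K q a)
    (hy : y ∈ K q a) : x ⊔ y ∈ K q a := by
  refine ⟨fun i => (hx.1 i).trans le_sup_left, fun i => sup_le (hx.2.1 i) (hy.2.1 i), fun i => ?_⟩
  have key : ∀ z w : ι → ℝ, (∀ i, 0 ≤ ∑ j, z j * q i j) → z i = w i → (∀ j, z j ≤ w j) →
      0 ≤ ∑ j, w j * (q i j : ℝ) := by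
    intro z w hz hi hle
    refine (hz i).trans (Finset.sum_le_sum fun j _ => ?_)
    by_cases hij : i = j
    · subst hij; rw [hi]
    · exact mul_le_mul_of_nonneg_right (hle j) (by exact_mod_cast hoff i j hij)
  rcases le_total (x i) (y i) with h | h
  · exact key y (x ⊔ y) hy.2.2 (sup_eq_right.mpr h).symm fun j => le_sup_right
  · exact key x (x ⊔ y) hx.2.2 (sup_eq_left.mpr h).symm fun j => le_sup_left

theorem exists_max {q : ι → ι → ℤ} (hoff : ∀ i j, i ≠ j → 0 ≤ q i j) (a : ι → ℕ) :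
    ∃ x ∈ K q a, ∀ y ∈ K q a, y ≤ x := by
  have hne : (K q a).Nonempty := ⟨0, fun i => le_rfl, fun i => by simp, fun i => by simp⟩
  obtain ⟨x, hx, hmax⟩ := (isCompact_K q a).exists_isMaxOn hne
    (f := fun y => ∑ i, y i) (by fun_prop)
  refine ⟨x, hx, fun y hy i => ?_⟩
  by_contra h
  push Not at h
  have h1 := hmax (sup_mem hoff hx hy)
  simp only [Set.mem_ofPred_eq] at h1
  have h2 : ∑ i, x i < ∑ i, (x ⊔ y) i :=
    Finset.sum_lt_sum (fun i _ => le_sup_left) ⟨i, Finset.mem_univ i, lt_of_lt_of_le h le_sup_right⟩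
  linarith

variable {q : ι → ι → ℤ} {a : ι → ℕ} {x : ι → ℝ}

theorem eq_zero_of_lt (hoff : ∀ i j, i ≠ j → 0 ≤ q i j) (hx : x ∈ K q a) (hmax : ∀ y ∈ K q a, y ≤ x) (i : ι)
    (hi : x i < a i) : ∑ j, x j * (q i j : ℝ) = 0 := by
  classical
  by_contra h
  have hpos : 0 < ∑ j, x j * (q i j : ℝ) := lt_of_le_of_ne (hx.2.2 i) (Ne.symm h)
  set r := ∑ j, x j * (q i j : ℝ) with hr
  have hsum : ∀ (ε : ℝ) (l : ι), ∑ j, (x j + Pi.single (M := fun _ => ℝ) i ε j) * (q l j : ℝ) =
      ∑ j, x j * (q l j : ℝ) + ε * q l i := by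
    intro ε l
    simp only [add_mul, Finset.sum_add_distrib]
    congr 1
    rw [Finset.sum_eq_single i]
    · rw [Pi.single_eq_same]
    · intro j _ hj
      rw [Pi.single_eq_of_ne hj, zero_mul]
    · intro h; exact absurd (Finset.mem_univ i) h
  have h1 : ∀ᶠ ε in 𝓝[>] (0 : ℝ), x i + ε < a i := by
    have : Tendsto (fun ε : ℝ => x i + ε) (𝓝[>] 0) (𝓝 (x i + 0)) :=
      (Continuous.tendsto (by fun_prop) _).mono_left nhdsWithin_le_nhds
    rw [add_zero] at this
    exact this.eventually_lt_const hi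
  have h2 : ∀ᶠ ε in 𝓝[>] (0 : ℝ), 0 < r + ε * q i i := by
    have : Tendsto (fun ε : ℝ => r + ε * q i i) (𝓝[>] 0) (𝓝 (r + 0 * q i i)) :=
      (Continuous.tendsto (by fun_prop) _).mono_left nhdsWithin_le_nhds
    rw [zero_mul, add_zero] at this
    exact this.eventually_const_lt hpos
  obtain ⟨ε, hε, h3, h4⟩ := ((eventually_mem_nhdsWithin (s := Set.Ioi (0 : ℝ))).and (h1.and h2)).exists
  have hε : 0 < ε := hε
  have hy : (fun j => x j + Pi.single (M := fun _ => ℝ) i ε j) ∈ K q a := by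
    refine ⟨fun j => ?_, fun j => ?_, fun l => ?_⟩
    · by_cases hj : j = i
      · subst hj; simp only [Pi.single_eq_same]; have := hx.1 j; linarith
      · simp only [Pi.single_eq_of_ne hj, add_zero]; exact hx.1 j
    · by_cases hj : j = i
      · subst hj; simp only [Pi.single_eq_same]; exact h3.le
      · simp only [Pi.single_eq_of_ne hj, add_zero]; exact hx.2.1 j
    · rw [hsum]
      by_cases hl : l = i
      · subst hl; exact h4.le
      · have := hx.2.2 l
        have h5 : (0 : ℝ) ≤ q l i := by exact_mod_cast hoff l i hl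
        positivity
  have h5 := hmax _ hy i
  simp only [Pi.single_eq_same] at h5
  linarith

theorem kernel_zero (hoff : ∀ i j, i ≠ j → 0 ≤ q i j) (hx : x ∈ K q a) (hmax : ∀ y ∈ K q a, y ≤ x) (v : ι → ℝ)
    (hv0 : ∀ i, ¬ x i < a i → v i = 0) (hv : ∀ i, x i < a i → ∑ j, v j * (q i j : ℝ) = 0) : v = 0 := by
  classical
  have h1 : ∀ᶠ ε in 𝓝[>] (0 : ℝ), ∀ i, x i + ε * |v i| ≤ a i := by
    rw [eventually_all]
    intro i
    by_cases hi : x i < a i
    · have : Tendsto (fun ε : ℝ => x i + ε * |v i|) (𝓝[>] 0) (𝓝 (x i + 0 * |v i|)) :=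
        (Continuous.tendsto (by fun_prop) _).mono_left nhdsWithin_le_nhds
      rw [zero_mul, add_zero] at this
      exact (this.eventually_lt_const hi).mono fun _ h => h.le
    · refine Eventually.of_forall fun ε => ?_
      rw [hv0 i hi, abs_zero, mul_zero, add_zero]
      exact hx.2.1 i
  obtain ⟨ε, hε, h3⟩ := ((eventually_mem_nhdsWithin (s := Set.Ioi (0 : ℝ))).and h1).exists
  have hε : 0 < ε := hε
  have hpos : ∀ i, 0 ≤ ∑ j, |v j| * (q i j : ℝ) := by
    intro i
    by_cases hi : x i < a i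
    · have h4 := hv i hi
      rw [← Finset.add_sum_erase _ _ (Finset.mem_univ i)] at h4 ⊢
      have h5 : |∑ j ∈ Finset.univ.erase i, v j * (q i j : ℝ)| ≤
          ∑ j ∈ Finset.univ.erase i, |v j| * (q i j : ℝ) := by
        refine (Finset.abs_sum_le_sum_abs _ _).trans (Finset.sum_le_sum fun j hj => ?_)
        rw [abs_mul]
        have h6 : (0 : ℝ) ≤ q i j := by
          exact_mod_cast hoff i j (Finset.ne_of_mem_erase hj).symm
        rw [abs_of_nonneg h6]
      have h7 : ∑ j ∈ Finset.univ.erase i, v j * (q i j : ℝ) = - (v i * q i i) := by linarith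
      rw [h7, abs_neg, abs_mul] at h5
      have h8 : - (|v i| * |(q i i : ℝ)|) ≤ |v i| * (q i i : ℝ) := by
        have := neg_abs_le (q i i : ℝ)
        have h9 := abs_nonneg (v i)
        nlinarith
      linarith
    · refine Finset.sum_nonneg fun j _ => ?_
      by_cases hj : j = i
      · subst hj; rw [hv0 j hi]; simp
      · have h6 : (0 : ℝ) ≤ q i j := by exact_mod_cast hoff i j (Ne.symm hj)
        positivity
  have hy : (fun j => x j + ε * |v j|) ∈ K q a := by
    refine ⟨fun j => ?_, h3, fun l => ?_⟩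
    · have := hx.1 j
      positivity
    · have h4 : ∑ j, (x j + ε * |v j|) * (q l j : ℝ) = ∑ j, x j * (q l j : ℝ) + ε * ∑ j, |v j| * (q l j : ℝ) := by
        rw [Finset.mul_sum, ← Finset.sum_add_distrib]
        exact Finset.sum_congr rfl fun j _ => by ring
      rw [h4]
      have h5 := hpos l
      have h6 := hx.2.2 l
      positivity
  funext i
  have h5 := hmax _ hy i
  simp only at h5
  have h6 := abs_nonneg (v i)
  have h7 : ε * |v i| ≤ 0 := by linarith
  have h8 : |v i| ≤ 0 := by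
    by_contra h
    push Not at h
    have := mul_pos hε h
    linarith
  exact abs_eq_zero.mp (le_antisymm h8 h6)

theorem sum_ext {R : Type*} [CommRing R] (P : ι → Prop) [DecidablePred P] (f : {i // P i} → R) (c : ι → R) :
    ∑ j, (if h : P j then f ⟨j, h⟩ else 0) * c j = ∑ s : {i // P i}, f s * c s.1 := by
  classical
  have h4 : ∑ j, (if h : P j then f ⟨j, h⟩ else 0) * c j =
      ∑ j ∈ Finset.univ.filter (fun j => P j), (if h : P j then f ⟨j, h⟩ else 0) * c j := by
    rw [Finset.sum_filter]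
    refine Finset.sum_congr rfl fun j _ => ?_
    by_cases hj : P j
    · simp only [if_pos hj]
    · simp only [dif_neg hj, if_neg hj, zero_mul]
  rw [h4, ← Finset.sum_subtype_eq_sum_filter, Finset.subtype_univ]
  refine Finset.sum_congr rfl fun j _ => ?_
  rw [dif_pos j.2]

/-- **Zariski's lemma**: the largest `x` with `0 ≤ x ≤ a` and `q x ≥ 0`. -/
theorem exists_zariski {q : ι → ι → ℤ} (hoff : ∀ i j, i ≠ j → 0 ≤ q i j) (a : ι → ℕ) :
    ∃ x : ι → ℚ, (∀ i, 0 ≤ x i) ∧ (∀ i, x i ≤ a i) ∧ (∀ i, 0 ≤ ∑ j, x j * (q i j : ℚ)) ∧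
      (∀ i, x i < a i → ∑ j, x j * (q i j : ℚ) = 0) ∧
      ∀ y : ι → ℚ, (∀ i, 0 ≤ y i) → (∀ i, y i ≤ a i) → (∀ i, 0 ≤ ∑ j, y j * (q i j : ℚ)) → y ≤ x := by
  classical
  obtain ⟨x, hx, hmax⟩ := exists_max hoff a
  let S := {i // x i < a i}
  let A : Matrix S S ℚ := Matrix.of fun i j => (q i.1 j.1 : ℚ)
  have hA : A.det ≠ 0 := by
    intro h0
    have h1 : (A.map (algebraMap ℚ ℝ)).det = 0 := by
      rw [← RingHom.mapMatrix_apply, ← RingHom.map_det, h0, map_zero]
    obtain ⟨w, hw, hw0⟩ := Matrix.exists_mulVec_eq_zero_iff.mpr h1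
    apply hw
    have h2 := kernel_zero hoff hx hmax (fun i => if h : x i < a i then w ⟨i, h⟩ else 0)
      (fun i hi => by simp only [dif_neg hi]) (fun i hi => by
        have h3 := congrFun hw0 ⟨i, hi⟩
        rw [sum_ext (fun j => x j < a j) w (fun j => (q i j : ℝ))]
        rw [Pi.zero_apply] at h3
        rw [← h3, Matrix.mulVec, dotProduct]
        refine Finset.sum_congr rfl fun j _ => ?_
        simp [A, mul_comm])
    funext i
    have h3 := congrFun h2 i.1
    simp only [dif_pos i.2, Pi.zero_apply] at h3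
    exact h3
  let b : S → ℚ := fun i => - ∑ j, (if x j < a j then 0 else (a j : ℚ)) * (q i.1 j : ℚ)
  let w : S → ℚ := A⁻¹.mulVec b
  have hw : A.mulVec w = b := by
    rw [Matrix.mulVec_mulVec, Matrix.mul_nonsing_inv A (isUnit_iff_ne_zero.mpr hA), Matrix.one_mulVec]
  let x' : ι → ℚ := fun i => if h : x i < a i then w ⟨i, h⟩ else a i
  have hx'0 : ∀ i, x i < a i → ∑ j, x' j * (q i j : ℚ) = 0 := by
    intro i hi
    have h1 : ∀ j, x' j = (if h : x j < a j then w ⟨j, h⟩ else 0) + (if x j < a j then 0 else (a j : ℚ)) := by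
      intro j
      by_cases hj : x j < a j
      · simp only [x', dif_pos hj, if_pos hj, add_zero]
      · simp only [x', dif_neg hj, if_neg hj, zero_add]
    simp only [h1, add_mul, Finset.sum_add_distrib]
    rw [sum_ext (fun j => x j < a j) w (fun j => (q i j : ℚ))]
    have h2 := congrFun hw ⟨i, hi⟩
    rw [Matrix.mulVec, dotProduct] at h2
    have h3 : ∑ s : S, w s * (q i s.1 : ℚ) = ∑ s : S, A ⟨i, hi⟩ s * w s :=
      Finset.sum_congr rfl fun j _ => by simp [A, mul_comm]
    rw [h3, h2]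
    simp only [b]
    ring
  have hx' : ∀ i, (x' i : ℝ) = x i := by
    have h1 := kernel_zero hoff hx hmax (fun i => (x' i : ℝ) - x i) (fun i hi => by
        have h2 : x i = a i := le_antisymm (hx.2.1 i) (not_lt.mp hi)
        simp only [x', dif_neg hi, h2, Rat.cast_natCast, sub_self]) (fun i hi => by
        simp only [sub_mul, Finset.sum_sub_distrib]
        rw [eq_zero_of_lt hoff hx hmax i hi, sub_zero]
        have h3 := hx'0 i hi
        have h4 : ((∑ j, x' j * (q i j : ℚ) : ℚ) : ℝ) = 0 := by rw [h3, Rat.cast_zero]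
        push_cast at h4
        exact h4)
    intro i
    have h2 := congrFun h1 i
    simp only [Pi.zero_apply] at h2
    linarith
  have hsum : ∀ (y : ι → ℚ) (i : ι), ((∑ j, y j * (q i j : ℚ) : ℚ) : ℝ) = ∑ j, (y j : ℝ) * (q i j : ℝ) := by
    intro y i
    push_cast
    rfl
  refine ⟨x', fun i => ?_, fun i => ?_, fun i => ?_, fun i hi => ?_, fun y h1 h2 h3 i => ?_⟩
  · have := hx.1 i
    rw [← hx'] at this
    exact_mod_cast this
  · have := hx.2.1 i
    rw [← hx'] at this
    exact_mod_cast this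
  · have := hx.2.2 i
    have h1 : (0 : ℝ) ≤ ((∑ j, x' j * (q i j : ℚ) : ℚ) : ℝ) := by
      rw [hsum]
      simpa only [hx'] using this
    exact_mod_cast h1
  · refine hx'0 i ?_
    rw [← hx']
    exact_mod_cast hi
  · have h4 : (fun j => (y j : ℝ)) ∈ K q a := by
      refine ⟨fun j => ?_, fun j => ?_, fun j => ?_⟩
      · change (0 : ℝ) ≤ (y j : ℝ)
        exact_mod_cast h1 j
      · change (y j : ℝ) ≤ a j
        exact_mod_cast h2 j
      rw [← hsum]
      exact_mod_cast h3 j
    have h5 := hmax _ h4 i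
    simp only [← hx'] at h5
    exact_mod_cast h5

end K801.ZarLin
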