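import Groth.Agent.AdjLin.K801.KV
import Groth.Agent.AdjLin.K801.NFreeCyc
import Groth.Agent.AdjLin.K801.ZarLin
import Groth.Agent.AdjLin.K801.Bridge

/-!
# Zariski decomposition and vanishing

`C_i` finitely many integral curves on a smooth projective surface `X` over an algebraically closed field of
characteristic zero. `M^n = O(∑ a_i C_i)`, `A = O(∑ α_i C_i)` ample, `α ≤ a`. Then there are `m > 0`,
`m α ≤ x ≤ m a` with `P = ∑ x_i C_i` nef and orthogonal to the `C_i` with `x_i < m a_i`, and `b` with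
`m n b ≤ m a - x` and `H^1(X, (M(-∑ b_i C_i))^{-1}) = 0`.
-/

set_option autoImplicit false
universe u
open CategoryTheory CategoryTheory.Limits AlgebraicGeometry

namespace K801.ZarKV

open Groth.Agent Groth.Agent.Grpsch.PicGrp K464.Base K464.Curves K464.DivLat Groth.Agent.Dix.IdealModCartier
  K801.CharP K801.Bridge

section z

variable {X : Scheme.{u}} {ι : Type*} [Fintype ι] {C : ι → X.IdealSheafData}
  (hE : ∀ i, BlowUp.IsEffCartierIdeal (C i))

/-- The class of `O(-∑ v_i C_i)`. -/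
noncomputable def z (v : ι → ℕ) : Pic X := ic (cyc C v) (isEff_cyc hE v)

theorem z_eq (v : ι → ℕ) : z hE v = ∏ i, ic (C i) (hE i) ^ v i := ic_cyc hE v

theorem z_add (u v : ι → ℕ) : z hE (u + v) = z hE u * z hE v := by
  rw [z_eq, z_eq, z_eq, ← Finset.prod_mul_distrib]
  exact Finset.prod_congr rfl fun i _ => pow_add _ _ _

theorem z_nsmul (N : ℕ) (v : ι → ℕ) : z hE (N • v) = z hE v ^ N := by
  rw [z_eq, z_eq, ← Finset.prod_pow]
  exact Finset.prod_congr rfl fun i _ => by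
    rw [Pi.smul_apply, smul_eq_mul, mul_comm, pow_mul]

end z

theorem exists_denom {ι : Type*} [Fintype ι] (x : ι → ℚ) (hx : ∀ i, 0 ≤ x i) :
    ∃ (m : ℕ) (y : ι → ℕ), 0 < m ∧ ∀ i, (m : ℚ) * x i = y i := by
  classical
  refine ⟨∏ i, (x i).den, fun i => (∏ j ∈ Finset.univ.erase i, (x j).den) * (x i).num.toNat,
    Finset.prod_pos fun i _ => (x i).den_pos, fun i => ?_⟩
  have h1 : ((x i).num.toNat : ℚ) = (x i).den * x i := by
    have h2 : (((x i).num.toNat : ℤ) : ℚ) = ((x i).num : ℚ) := by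
      rw [Int.toNat_of_nonneg (Rat.num_nonneg.mpr (hx i))]
    rw [Int.cast_natCast] at h2
    rw [h2, mul_comm]
    exact (Rat.mul_den_eq_num (x i)).symm
  rw [← Finset.mul_prod_erase _ _ (Finset.mem_univ i)]
  push_cast
  rw [h1]
  ring

theorem aux {G : Type*} [CommGroup G] (B D Y Z : G) : Y⁻¹ * Z⁻¹ = (B * D * Y * Z)⁻¹ * B * D := by
  rw [mul_inv, mul_inv, mul_inv, show B⁻¹ * D⁻¹ * Y⁻¹ * Z⁻¹ * B * D = Y⁻¹ * Z⁻¹ * (B⁻¹ * B) * (D⁻¹ * D) by ac_rfl]
  simp

variable {k : Type u} [Field k] [IsAlgClosed k] [CharZero k] {X : Scheme.{u}}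
  [X.Over (Spec (CommRingCat.of k))] [IsProper (X ↘ Spec (CommRingCat.of k))]
  [Smooth (X ↘ Spec (CommRingCat.of k))] [IsIntegral X] (hdim : topologicalKrullDim X = 2)
  {ι : Type*} [Fintype ι] {C : ι → X.IdealSheafData} (hC : ∀ i, IsCurve (C i))
  (hE : ∀ i, BlowUp.IsEffCartierIdeal (C i)) (hinj : Function.Injective C)

include hdim hC in
omit [IsAlgClosed k] [CharZero k] [Smooth (X ↘ Spec (CommRingCat.of k))] [IsIntegral X] in
/-- Nefness of `∑ v_i C_i`. -/
theorem nef_z {v : ι → ℕ} (hv : ∀ j, 0 ≤ ∑ i, (v i : ℤ) * gram k hE i j) (D : X.IdealSheafData) (hD : IsCurve D) :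
    0 ≤ degOn k X D (z hE v)⁻¹ := by
  rw [degOn_inv k hD, Left.nonneg_neg_iff]
  by_cases h : ∃ i, C i = D
  · obtain ⟨i, rfl⟩ := h
    rw [z, degOn_cyc k hE hdim.le, Left.neg_nonpos_iff]
    exact hv i
  · push Not at h
    refine degOn_ic_nonpos k hD (isEff_cyc hE v) fun h' => ?_
    obtain ⟨i, hi⟩ := Set.mem_iUnion.mp (support_cyc_subset v h')
    exact h i (eq_of_gp_mem hD (hC i) hi).symm

include hdim hC hinj in
/-- **Zariski decomposition and Kawamata–Viehweg vanishing.** -/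
theorem zkv {a α : ι → ℕ} (hα : α ≤ a) {A : X.Modules} (hA : CohB1.IsAmple A)
    (hAα : mk A hA.1 * z hE α = 1) {M : X.Modules} (hM : PicF.IsInvertible M) {n : ℕ} (hn : 1 ≤ n)
    (hMn : mk M hM ^ n * z hE a = 1) :
    ∃ (m : ℕ) (x b : ι → ℕ), 0 < m ∧ (∀ i, x i ≤ m * a i) ∧ (∀ i, m * α i ≤ x i) ∧
      (∀ j, 0 ≤ ∑ i, (x i : ℤ) * gram k hE i j) ∧
      (∀ j, x j < m * a j → ∑ i, (x i : ℤ) * gram k hE i j = 0) ∧
      (∀ i, m * n * b i ≤ m * a i - x i) ∧
      ∀ G' : X.Modules, ClSub.IsInverseOf G' (CohB1.tensorMod M (ClSub.idealMod (cyc C b))) →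
        Subsingleton (Coh.HH X G' 1) := by
  classical
  obtain ⟨x, hx0, hxa, hxq, hxo, hmax⟩ := ZarLin.exists_zariski (q := fun i j => gram k hE j i)
    (fun i j hij => gram_nonneg k hE hC hinj j i (Ne.symm hij)) a
  obtain ⟨m, y, hm, hy⟩ := exists_denom x hx0
  have hmQ : (0 : ℚ) < m := by exact_mod_cast hm
  have hxy : ∀ i, x i = y i / m := fun i => by rw [← hy i]; field_simp
  have hsum : ∀ j, ((∑ i, (y i : ℤ) * gram k hE i j : ℤ) : ℚ) = m * ∑ i, x i * (gram k hE i j : ℚ) := by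
    intro j
    rw [Finset.mul_sum]
    push_cast
    exact Finset.sum_congr rfl fun i _ => by rw [← hy i]; ring
  have hya : ∀ i, y i ≤ m * a i := by
    intro i
    have h1 := mul_le_mul_of_nonneg_left (hxa i) hmQ.le
    rw [hy i] at h1
    exact_mod_cast h1
  have hynef : ∀ j, 0 ≤ ∑ i, (y i : ℤ) * gram k hE i j := by
    intro j
    have h1 : (0 : ℚ) ≤ ((∑ i, (y i : ℤ) * gram k hE i j : ℤ) : ℚ) := by
      rw [hsum]; exact mul_nonneg hmQ.le (hxq j)
    exact_mod_cast h1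
  have hyo : ∀ j, y j < m * a j → ∑ i, (y i : ℤ) * gram k hE i j = 0 := by
    intro j hj
    have h0 : x j < a j := by
      rw [hxy, div_lt_iff₀ hmQ, mul_comm]
      exact_mod_cast hj
    have h1 : ((∑ i, (y i : ℤ) * gram k hE i j : ℤ) : ℚ) = 0 := by
      rw [hsum, hxo j h0, mul_zero]
    exact_mod_cast h1
  have hyα : ∀ i, m * α i ≤ y i := by
    have h1 := hmax (fun i => (α i : ℚ)) (fun i => by positivity) (fun i => by exact_mod_cast hα i) (fun j => by
      have h2 := degOn_pos_of_ample k (hC j) hA.1 hA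
      have h3 : mk A hA.1 = (z hE α)⁻¹ := eq_inv_of_mul_eq_one_left hAα
      rw [h3, degOn_inv k (hC j), z, degOn_cyc k hE hdim.le, neg_neg] at h2
      have h4 : (0 : ℚ) ≤ ((∑ i, (α i : ℤ) * gram k hE i j : ℤ) : ℚ) := by exact_mod_cast h2.le
      push_cast at h4
      exact h4)
    intro i
    have h2 : (m : ℚ) * (α i : ℚ) ≤ m * x i := mul_le_mul_of_nonneg_left (h1 i) hmQ.le
    rw [hy i] at h2
    exact_mod_cast h2
  refine ⟨m, y, fun i => (m * a i - y i) / (m * n), hm, hya, hyα, hynef, hyo,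
    fun i => Nat.mul_div_le _ _, fun G' hG' => ?_⟩
  set b : ι → ℕ := fun i => (m * a i - y i) / (m * n) with hb
  set T' : ℕ := ∑ i, y i with hT'
  set δ : ι → ℕ := fun i => (y i - m * α i) + (T' + 1) * ((m * a i - y i) % (m * n)) with hδ
  have hmn : 0 < m * n := Nat.mul_pos hm (by omega)
  have hδlt : ∀ i, δ i < (T' + 1) * (m * n) := by
    intro i
    have h1 : y i ≤ T' := Finset.single_le_sum (f := y) (fun j _ => Nat.zero_le _) (Finset.mem_univ i)
    have h2 : (m * a i - y i) % (m * n) < m * n := Nat.mod_lt _ hmn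
    have h3 : (T' + 1) * ((m * a i - y i) % (m * n) + 1) ≤ (T' + 1) * (m * n) := Nat.mul_le_mul_left _ h2
    rw [mul_add, mul_one] at h3
    simp only [hδ]
    omega
  have hid : ((T' + 1) * (m * n)) • b + δ + T' • y + m • α = ((T' + 1) * m) • a := by
    funext i
    simp only [Pi.add_apply, Pi.smul_apply, smul_eq_mul, hb, hδ]
    obtain ⟨d1, hd1⟩ := Nat.exists_eq_add_of_le (hyα i)
    obtain ⟨d2, hd2⟩ := Nat.exists_eq_add_of_le (hya i)
    have h1 : y i - m * α i = d1 := by omega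
    have h2 : m * a i - y i = d2 := by omega
    rw [h1, h2]
    have h3 := Nat.div_add_mod d2 (m * n)
    calc (T' + 1) * (m * n) * (d2 / (m * n)) + (d1 + (T' + 1) * (d2 % (m * n))) + T' * y i + m * α i
        = (T' + 1) * (m * n * (d2 / (m * n)) + d2 % (m * n)) + T' * y i + (m * α i + d1) := by ring
      _ = (T' + 1) * (y i + d2) := by rw [h3, ← hd1]; ring
      _ = (T' + 1) * m * a i := by rw [← hd2]; ring
  -- the nef part
  obtain ⟨P, hP, hPc⟩ := exists_mk (z hE y)⁻¹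
  have hnef : K909.Kleiman.Nef k X P := by
    rw [nef_iff k hdim.le hP, ← hPc]
    exact fun D hD => nef_z hdim hC hE hynef D hD
  have hamp := K909.Kleiman.isAmple_combo (nak := K424.NakMain.nak k) (hd := hdim.le) (hnef := hnef) hP hA T' m hm
  have hinv := (isInvertible_of_isInverseOf hG').2
  have hN1 : 1 ≤ (T' + 1) * (m * n) := Nat.mul_pos (Nat.succ_pos _) hmn
  refine K801.KV.vanish (k := k) le_rfl hdim hG' hN1 (isEff_cyc hE δ) (NFreeCyc.nfree_cyc hC hE hinj hN1 hδlt) ?_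
  have hMi := Fdesc.LocGen.isInvertible_tensorPow hinv ((T' + 1) * (m * n))
  have e : Nonempty (K909.Kleiman.combo X P A T' m ≅ CohB1.tensorMod (CohB1.tensorPow
      (CohB1.tensorMod M (ClSub.idealMod (cyc C b))) ((T' + 1) * (m * n))) (ClSub.idealMod (cyc C δ))) := by
    rw [← mk_eq_iff (K909.Kleiman.isInvertible_combo X hP hA.1 T' m)
      (Fdesc.LocGen.isInvertible_tensorMod hMi (isInvertible_idealMod (isEff_cyc hE δ))),
      K909.Kleiman.mk_combo X hP hA.1, ← mk_mul_mk hMi (isInvertible_idealMod (isEff_cyc hE δ)), mk_tensorPow hinv,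
      ← mk_mul_mk hM (isInvertible_idealMod (isEff_cyc hE b)), ← hPc]
    change (z hE y)⁻¹ ^ T' * mk A hA.1 ^ m = (mk M hM * z hE b) ^ ((T' + 1) * (m * n)) * z hE δ
    have h1 := congrArg (z hE) hid
    rw [z_add, z_add, z_add, z_nsmul, z_nsmul, z_nsmul, z_nsmul] at h1
    have h3 : mk A hA.1 = (z hE α)⁻¹ := eq_inv_of_mul_eq_one_left hAα
    have h4 : mk M hM ^ n = (z hE a)⁻¹ := eq_inv_of_mul_eq_one_left hMn
    have h5 : mk M hM ^ ((T' + 1) * (m * n)) = (z hE a ^ ((T' + 1) * m))⁻¹ := by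
      rw [show (T' + 1) * (m * n) = n * ((T' + 1) * m) by ring, pow_mul, h4, inv_pow]
    rw [mul_pow, h5, h3, ← h1, inv_pow, inv_pow]
    exact aux _ _ _ _
  obtain ⟨e⟩ := e
  exact S2329.isAmple_of_iso e hamp

end K801.ZarKV
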